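import Cfsg.Agent.Lib.Ord5.Gamma

/-!
# Small facts on the quotients of order `20` and `60`
-/

set_option autoImplicit false
set_option linter.style.haveILetI false
set_option linter.unusedSectionVars false

namespace Cfsg.Agent.Lib.Ord5.Gamma2

open Subgroup Cfsg.Agent.Lib.Ord5.Basic Cfsg.Agent.Lib.Ord5.Fpf Cfsg.Agent.Lib.Ord5.Count

universe u

variable {Γ : Type u} [Group Γ] [Finite Γ]

/-- In a group of order `20` with Sylow `2`-subgroup `T`, some element of `T` squares an element of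
order `5`. -/
theorem exists_c (hΓ : IsO Γ) (T : Sylow 2 Γ) (hT : Nat.card T = 4) (hc : Nat.card Γ = 20) :
    ∃ c ∈ (T : Subgroup Γ), ∃ y : Γ, orderOf y = 5 ∧ c * y * c⁻¹ = y * y := by
  classical
  haveI : Fact (Nat.Prime 5) := ⟨Nat.prime_five⟩
  haveI : Fact (Nat.Prime 2) := ⟨Nat.prime_two⟩
  obtain ⟨R⟩ : Nonempty (Sylow 5 Γ) := inferInstance
  have h5 : 5 ∣ Nat.card R := by
    have : 5 ^ 1 ∣ Nat.card R := R.pow_dvd_card_of_pow_dvd_card (by rw [hc]; decide)
    simpa using this
  have hRdvd : Nat.card R ∣ 20 := by rw [← hc]; exact Subgroup.card_subgroup_dvd_card _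
  obtain ⟨k, hk⟩ := IsPGroup.iff_card.1 R.2
  have hR5 : Nat.card R = 5 := by
    have hle := Nat.le_of_dvd (by norm_num) hRdvd
    rw [hk] at h5 hle ⊢
    rcases k with _ | _ | k
    · exact absurd h5 (by decide)
    · rfl
    · have : 5 ^ 2 ≤ 5 ^ (k + 1 + 1) := Nat.pow_le_pow_right (by norm_num) (by omega)
      omega
  have hidx : (R : Subgroup Γ).index = 4 := by
    have := (R : Subgroup Γ).card_mul_index
    rw [hR5, hc] at this
    omega
  have hn1 : Nat.card (Sylow 5 Γ) = 1 := by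
    have h1 : Nat.card (Sylow 5 Γ) ∣ 4 := by rw [← hidx]; exact R.card_dvd_index
    have h2 := card_sylow_modEq_one 5 Γ
    have hle := Nat.le_of_dvd (by norm_num) h1
    have hpos : 0 < Nat.card (Sylow 5 Γ) := Nat.card_pos
    unfold Nat.ModEq at h2
    interval_cases hcr : Nat.card (Sylow 5 Γ) <;> first | rfl | omega
  haveI : Subsingleton (Sylow 5 Γ) := (Nat.card_eq_one_iff_unique.1 hn1).1
  have hRn : (R : Subgroup Γ).Normal := Sylow.normal_of_subsingleton R
  -- an element of order `5`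
  obtain ⟨y', hy'⟩ := exists_prime_orderOf_dvd_card' 5 (by rw [hR5] : 5 ∣ Nat.card R)
  obtain ⟨y, hyR, hyo⟩ : ∃ y ∈ (R : Subgroup Γ), orderOf y = 5 :=
    ⟨y', y'.2, by rw [Subgroup.orderOf_coe]; exact hy'⟩
  have hy5 : y ^ 5 = 1 := by rw [← hyo]; exact pow_orderOf_eq_one y
  have hyy1 : y * y ≠ 1 := by
    intro e
    have h1 : orderOf y ∣ 2 := orderOf_dvd_of_pow_eq_one (by rw [pow_two]; exact e)
    rw [hyo] at h1
    omega
  have hy1 : y ≠ 1 := by
    rintro e
    rw [e, orderOf_one] at hyo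
    omega
  -- the action of `T` on the nontrivial elements of `R`
  let X := {x : (R : Subgroup Γ) // x ≠ 1}
  have hX : Nat.card X = 4 := by
    haveI := Fintype.ofFinite (R : Subgroup Γ)
    rw [Nat.card_eq_fintype_card, Fintype.card_subtype_compl, Fintype.card_subtype_eq,
      ← Nat.card_eq_fintype_card, hR5]
  let φ : ↥(T : Subgroup Γ) → X := fun t =>
    ⟨⟨(t : Γ) * y * (t : Γ)⁻¹, hRn.conj_mem _ hyR _⟩, by
      intro e
      have h1 : (t : Γ) * y * (t : Γ)⁻¹ = 1 := congrArg Subtype.val e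
      apply hy1
      have h2 : y = (t : Γ)⁻¹ * ((t : Γ) * y * (t : Γ)⁻¹) * t := by group
      rw [h2, h1]
      simp⟩
  have hinj : Function.Injective φ := by
    intro a b hab
    have h1 : (a : Γ) * y * (a : Γ)⁻¹ = (b : Γ) * y * (b : Γ)⁻¹ :=
      congrArg (fun z : X => ((z.1 : (R : Subgroup Γ)) : Γ)) hab
    have h2 : Commute ((b : Γ)⁻¹ * a) y := by
      have : ((b : Γ)⁻¹ * a) * y * ((b : Γ)⁻¹ * a)⁻¹ = y := by
        calc ((b : Γ)⁻¹ * a) * y * ((b : Γ)⁻¹ * a)⁻¹ = (b : Γ)⁻¹ * ((a : Γ) * y * (a : Γ)⁻¹) * b := by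
              group
          _ = y := by rw [h1]; group
      calc ((b : Γ)⁻¹ * a) * y = ((b : Γ)⁻¹ * a) * y * ((b : Γ)⁻¹ * a)⁻¹ * ((b : Γ)⁻¹ * a) := by group
        _ = y * ((b : Γ)⁻¹ * a) := by rw [this]
    obtain ⟨j, hj⟩ := orderOf_mem Nat.prime_two T.2
      (Subgroup.mul_mem _ (Subgroup.inv_mem _ b.2) a.2)
    have hy5' : orderOf y = 5 ^ 1 := by rw [hyo, pow_one]
    rcases eq_one_of_commute_pow hΓ Nat.prime_two Nat.prime_five (by norm_num) hj hy5' h2 with e | e
    · apply Subtype.ext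
      have h3 : (a : Γ) = b := by
        have h4 : (b : Γ)⁻¹ * a = 1 := e
        have h5 : (a : Γ) = b * ((b : Γ)⁻¹ * a) := by group
        rw [h5, h4, mul_one]
      exact h3
    · exact absurd e hy1
  have hsurj : Function.Surjective φ := by
    haveI : Finite X := inferInstance
    exact (Function.Injective.bijective_of_nat_card_le hinj (by rw [hX, hT])).2
  obtain ⟨c, hcφ⟩ := hsurj ⟨⟨y * y, (R : Subgroup Γ).mul_mem hyR hyR⟩, fun e =>
    hyy1 (congrArg Subtype.val e)⟩
  exact ⟨c, c.2, y, hyo, congrArg (fun z : X => ((z.1 : (R : Subgroup Γ)) : Γ)) hcφ⟩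

/-- A group of order four with a fixed-point-free automorphism of order three. -/
theorem four_lemma (hΓ : IsO Γ) (X : Subgroup Γ) (hX : Nat.card X = 4) {s : Γ} (hs : orderOf s = 3)
    (hsX : ∀ x ∈ X, s * x * s⁻¹ ∈ X) :
    ∃ u ∈ X, u ≠ 1 ∧ u * u = 1 ∧ (s * (s * u * s⁻¹) * s⁻¹ = (s * u * s⁻¹) * u) ∧
      ∀ x ∈ X, x = 1 ∨ x = u ∨ x = s * u * s⁻¹ ∨ x = s * (s * u * s⁻¹) * s⁻¹ := by
  classical
  haveI : Fact (Nat.Prime 2) := ⟨Nat.prime_two⟩
  have hXp : IsPGroup 2 X := IsPGroup.of_card (n := 2) (by rw [hX]; rfl)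
  have hs3 : s ^ 3 = 1 := by rw [← hs]; exact pow_orderOf_eq_one s
  have hs1 : s ≠ 1 := by
    rintro rfl
    rw [orderOf_one] at hs
    omega
  have hfix : ∀ x ∈ X, s * x * s⁻¹ = x → x = 1 := by
    intro x hx he
    have hc : Commute s x := by
      calc s * x = s * x * s⁻¹ * s := by group
        _ = x * s := by rw [he]
    obtain ⟨k, hk⟩ := orderOf_mem Nat.prime_two hXp hx
    have hs' : orderOf s = 3 ^ 1 := by rw [hs, pow_one]
    rcases eq_one_of_commute_pow hΓ Nat.prime_three Nat.prime_two (by norm_num) hs' hk hc with h | h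
    · exact absurd h hs1
    · exact h
  haveI : Nontrivial X := by
    rw [← Finite.one_lt_card_iff_nontrivial, hX]
    norm_num
  obtain ⟨u', hu'⟩ := exists_ne (1 : X)
  obtain ⟨u, huX, hu1⟩ : ∃ u ∈ X, u ≠ 1 := ⟨u', u'.2, fun e => hu' (Subtype.ext e)⟩
  have hcomm : ∀ a ∈ X, ∀ b ∈ X, a * b = b * a := by
    haveI := IsPGroup.isMulCommutative_of_card_eq_prime_sq (p := 2) (G := X) (by rw [hX]; rfl)
    intro a ha b hb
    exact congrArg Subtype.val (this.is_comm.comm ⟨a, ha⟩ ⟨b, hb⟩)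
  set α : Γ → Γ := fun x => s * x * s⁻¹ with hα
  have hαX : ∀ x ∈ X, α x ∈ X := hsX
  have hα3 : ∀ x, α (α (α x)) = x := by
    intro x
    simp only [hα]
    calc s * (s * (s * x * s⁻¹) * s⁻¹) * s⁻¹ = s ^ 3 * x * (s ^ 3)⁻¹ := by
          simp only [mul_assoc, pow_succ, pow_zero, one_mul, mul_inv_rev]
      _ = x := by rw [hs3]; simp
  have hαmul : ∀ x y, α (x * y) = α x * α y := by
    intro x y
    simp only [hα]; group
  have hαinj : Function.Injective α := by
    intro x y hxy
    simp only [hα] at hxy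
    exact mul_left_cancel (mul_right_cancel hxy)
  have hα1 : α 1 = 1 := by simp [hα]
  have h12 : α u ≠ u := fun e => hu1 (hfix u huX e)
  have h23 : α (α u) ≠ α u := fun e => h12 (hαinj e)
  have h13 : α (α u) ≠ u := by
    intro e
    apply h12
    have h1 := hα3 u
    rw [e] at h1
    exact h1
  have h1u2 : α u ≠ 1 := by
    intro e
    apply hu1
    apply hαinj
    rw [e, hα1]
  have h1u3 : α (α u) ≠ 1 := by
    intro e
    apply h1u2
    apply hαinj
    rw [e, hα1]
  have hu2X := hαX u huX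
  have hu3X := hαX _ hu2X
  -- the list of elements
  have hlist : ∀ x ∈ X, x = 1 ∨ x = u ∨ x = α u ∨ x = α (α u) := by
    intro x hx
    by_contra hne
    push Not at hne
    obtain ⟨h1, h2, h3, h4⟩ := hne
    let S : Finset X := {⟨x, hx⟩, 1, ⟨u, huX⟩, ⟨α u, hu2X⟩, ⟨α (α u), hu3X⟩}
    have hS : S.card = 5 := by
      simp only [S]
      rw [Finset.card_insert_of_notMem, Finset.card_insert_of_notMem, Finset.card_insert_of_notMem,
        Finset.card_insert_of_notMem, Finset.card_singleton]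
      · simp only [Finset.mem_singleton, Subtype.mk.injEq]
        intro e; exact h23 e.symm
      · simp only [Finset.mem_insert, Finset.mem_singleton, Subtype.mk.injEq]
        rintro (e | e)
        · exact h12 e.symm
        · exact h13 e.symm
      · simp only [Finset.mem_insert, Finset.mem_singleton, Subtype.ext_iff, OneMemClass.coe_one]
        rintro (e | e | e)
        · exact hu1 e.symm
        · exact h1u2 e.symm
        · exact h1u3 e.symm
      · simp only [Finset.mem_insert, Finset.mem_singleton, Subtype.ext_iff, OneMemClass.coe_one]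
        rintro (e | e | e | e)
        · exact h1 e
        · exact h2 e
        · exact h3 e
        · exact h4 e
    have hle : S.card ≤ Nat.card X := by
      haveI := Fintype.ofFinite X
      rw [Nat.card_eq_fintype_card]
      exact Finset.card_le_univ S
    omega
  have h21 : α u * u ∈ X := X.mul_mem hu2X huX
  have heq : α (α u) = α u * u := by
    rcases hlist _ h21 with e | e | e | e
    · exfalso
      have h3 : α (α u) * α u = 1 := by
        have := congrArg α e
        rwa [hαmul, hα1] at this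
      have h4 : α (α u) = (α u)⁻¹ := eq_inv_of_mul_eq_one_left h3
      have h5 : u = (α u)⁻¹ := eq_inv_of_mul_eq_one_right e
      exact h13 (h4.trans h5.symm)
    · exfalso
      apply h1u2
      have : α u * u = 1 * u := by rw [one_mul]; exact e
      exact mul_right_cancel this
    · exfalso
      apply hu1
      have : α u * u = α u * 1 := by rw [mul_one]; exact e
      exact mul_left_cancel this
    · exact e.symm
  have hsq : α u * α u = 1 := by
    have h3 : u = α (α u) * α u := by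
      have := congrArg α heq
      rw [hα3, hαmul] at this
      exact this
    rw [heq, mul_assoc, hcomm u huX _ hu2X, ← mul_assoc] at h3
    exact mul_eq_right.1 h3.symm
  refine ⟨u, huX, hu1, ?_, heq, hlist⟩
  apply hαinj
  rw [hα1, hαmul]
  exact hsq

/-- The cosets of a normal subgroup of order four in a group of order twelve. -/
theorem cover (N X : Subgroup Γ) (hXN : X ≤ N) (hNc : Nat.card N = 12) (hX : Nat.card X = 4) {s : Γ}
    (hs : orderOf s = 3) (hsN : s ∈ N) {x : Γ} (hx : x ∈ N) :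
    x ∈ X ∨ x * s⁻¹ ∈ X ∨ x * s⁻¹ * s⁻¹ ∈ X := by
  classical
  have hs3 : s ^ 3 = 1 := by rw [← hs]; exact pow_orderOf_eq_one s
  have hmem : ∀ {i j : ℕ}, i < 3 → j < 3 → s ^ i * (s ^ j)⁻¹ ∈ X → i = j := by
    intro i j hi hj h
    have h4 : (s ^ i * (s ^ j)⁻¹) ^ 4 = 1 := by
      have := pow_card_eq_one' (G := X) (x := ⟨_, h⟩)
      rw [hX] at this
      simpa using congrArg Subtype.val this
    have h3 : (s ^ i * (s ^ j)⁻¹) ^ 3 = 1 := by
      have hc : Commute (s ^ i) ((s ^ j)⁻¹) := ((Commute.refl s).pow_pow i j).inv_right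
      rw [hc.mul_pow, inv_pow, ← pow_mul, ← pow_mul, mul_comm i, mul_comm j, pow_mul, pow_mul, hs3]
      simp
    have h1 : s ^ i * (s ^ j)⁻¹ = 1 := by
      have h5 := pow_gcd_eq_one.2 ⟨h3, h4⟩
      simpa using h5
    have h2 : s ^ i = s ^ j := mul_inv_eq_one.1 h1
    exact pow_injOn_Iio_orderOf (by rw [Set.mem_Iio, hs]; exact hi) (by rw [Set.mem_Iio, hs]; exact hj) h2
  let φ : X × Fin 3 → N := fun p => ⟨(p.1 : Γ) * s ^ (p.2 : ℕ), N.mul_mem (hXN p.1.2) (N.pow_mem hsN _)⟩
  have hinj : Function.Injective φ := by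
    rintro ⟨a, i⟩ ⟨b, j⟩ hab
    have h1 : (a : Γ) * s ^ (i : ℕ) = b * s ^ (j : ℕ) := congrArg Subtype.val hab
    have h2 : s ^ (i : ℕ) * (s ^ (j : ℕ))⁻¹ ∈ X := by
      have : s ^ (i : ℕ) * (s ^ (j : ℕ))⁻¹ = (a : Γ)⁻¹ * b := by
        have h3 : s ^ (i : ℕ) = (a : Γ)⁻¹ * (b * s ^ (j : ℕ)) := by rw [← h1]; group
        rw [h3]; group
      rw [this]
      exact X.mul_mem (X.inv_mem a.2) b.2
    have hij := hmem i.2 j.2 h2
    have hij' : i = j := Fin.ext hij
    subst hij'
    have hab' : a = b := Subtype.ext (mul_right_cancel h1)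
    rw [hab']
  have hsurj : Function.Surjective φ := by
    refine (Function.Injective.bijective_of_nat_card_le hinj ?_).2
    rw [Nat.card_prod, hX, hNc, Nat.card_eq_fintype_card, Fintype.card_fin]
  obtain ⟨⟨t, i⟩, hti⟩ := hsurj ⟨x, hx⟩
  have hti' : (t : Γ) * s ^ (i : ℕ) = x := congrArg Subtype.val hti
  fin_cases i
  · left
    simp at hti'
    rw [← hti']
    exact t.2
  · right; left
    simp at hti'
    rw [← hti']
    simp
  · right; right
    simp at hti'
    rw [← hti']
    have : (t : Γ) * s ^ 2 * s⁻¹ * s⁻¹ = t := by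
      rw [pow_two]; group
    rw [this]
    exact t.2

end Cfsg.Agent.Lib.Ord5.Gamma2
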