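import Cfsg.Agent.Lib.Ord5.Two2
import Cfsg.Agent.Lib.Ord5.Gamma2

/-!
# The maximal intersection of Sylow `2`-subgroups: the order of a Sylow subgroup
-/

set_option autoImplicit false
set_option linter.style.haveILetI false
set_option linter.unusedSectionVars false

namespace Cfsg.Agent.Lib.Ord5.Two3

open Subgroup Cfsg.Agent.Lib.Ord5.Basic Cfsg.Agent.Lib.Ord5.Fpf Cfsg.Agent.Lib.Ord5.Local
open Cfsg.Agent.Lib.Ord5.Count Cfsg.Agent.Lib.Ord5.E1 Cfsg.Agent.Lib.Ord5.Two1
open Cfsg.Agent.Lib.Ord5.LemV Cfsg.Agent.Lib.Ord5.Two2 Cfsg.Agent.Lib.Ord5.Module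

universe u

variable {G : Type u} [Group G] [Finite G]

/-- Involution classes: no three pairwise nonconjugate involutions. -/
def TwoCl (G : Type u) [Group G] : Prop :=
  ∀ a b c : G, a * a = 1 → b * b = 1 → c * c = 1 → a ≠ 1 → b ≠ 1 → c ≠ 1 →
    IsConj a b ∨ IsConj a c ∨ IsConj b c

theorem exists_notMem (Z : Subgroup G) (L : Finset G) (h : L.card < Nat.card Z) :
    ∃ z ∈ Z, z ∉ L := by
  classical
  by_contra hcon
  push Not at hcon
  let f : Z → L := fun z => ⟨z, hcon z z.2⟩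
  have hf : Function.Injective f := by
    intro a b hab
    exact Subtype.ext (congrArg (fun x : L => (x : G)) hab)
  have h1 := Nat.card_le_card_of_injective f hf
  have h2 : Nat.card L = L.card := by
    rw [Nat.card_eq_fintype_card (α := L), Fintype.card_coe]
  omega

theorem central_eq (hS : IsO G) (T : Sylow 2 G) {z : G} (hzc : ∀ t ∈ (T : Subgroup G), t * z = z * t)
    (hz1 : z ≠ 1) (hz2 : z * z = 1) {x : G} : x ∈ (T : Subgroup G) ↔ x * z = z * x := by
  constructor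
  · exact hzc x
  · intro hx
    have hz : orderOf z = 2 ^ 1 := by rw [pow_one]; exact orderOf_invol hz2 hz1
    have hC := hS.isPGroup_centralizer (Or.inl rfl) hz hz1
    have hle : (T : Subgroup G) ≤ centralizer ({z} : Set G) := by
      intro t ht
      rw [Subgroup.mem_centralizer_singleton_iff]
      exact hzc t ht
    have h1 := T.is_maximal' hC hle
    have h2 : x ∈ centralizer ({z} : Set G) := by
      rw [Subgroup.mem_centralizer_singleton_iff]
      exact hx
    rwa [h1] at h2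

theorem conj_central (hS : IsO G) (T : Sylow 2 G) {z g : G}
    (hzc : ∀ t ∈ (T : Subgroup G), t * z = z * t) (hz1 : z ≠ 1) (hz2 : z * z = 1)
    (hw : ∀ t ∈ (T : Subgroup G), t * (g * z * g⁻¹) = (g * z * g⁻¹) * t) :
    g ∈ normalizer ((T : Subgroup G) : Set G) := by
  have hw1 : g * z * g⁻¹ ≠ 1 := by
    intro e
    apply hz1
    have : z = g⁻¹ * (g * z * g⁻¹) * g := by group
    rw [this, e]; group
  have hw2 : (g * z * g⁻¹) * (g * z * g⁻¹) = 1 := by
    calc (g * z * g⁻¹) * (g * z * g⁻¹) = g * (z * z) * g⁻¹ := by group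
      _ = 1 := by rw [hz2]; group
  rw [Subgroup.mem_normalizer_iff]
  intro x
  rw [central_eq hS T hzc hz1 hz2, central_eq hS T hw hw1 hw2]
  constructor
  · intro h
    calc g * x * g⁻¹ * (g * z * g⁻¹) = g * (x * z) * g⁻¹ := by group
      _ = g * (z * x) * g⁻¹ := by rw [h]
      _ = _ := by group
  · intro h
    have h1 : g * (x * z) * g⁻¹ = g * (z * x) * g⁻¹ := by
      calc g * (x * z) * g⁻¹ = g * x * g⁻¹ * (g * z * g⁻¹) := by group
        _ = g * z * g⁻¹ * (g * x * g⁻¹) := h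
        _ = _ := by group
    exact mul_left_cancel (mul_right_cancel h1)

theorem exists_central {X D : Subgroup G} (hX : IsPGroup 2 X) (hD : D ≤ X)
    (hn : X ≤ normalizer (D : Set G)) (hD1 : D ≠ ⊥) :
    ∃ w ∈ D, w ≠ 1 ∧ ∀ t ∈ X, t * w = w * t := by
  haveI : Group.IsNilpotent X := hX.isNilpotent
  haveI hN : (D.subgroupOf X).Normal := (Subgroup.normal_subgroupOf_iff_le_normalizer hD).2 hn
  have hN1 : D.subgroupOf X ≠ ⊥ := by
    obtain ⟨d, hd⟩ := Subgroup.ne_bot_iff_exists_ne_one.1 hD1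
    intro hb
    have : (⟨d, hD d.2⟩ : X) ∈ D.subgroupOf X := d.2
    rw [hb, Subgroup.mem_bot] at this
    have h5 : (d : G) = 1 := by simpa using congrArg Subtype.val this
    exact hd (Subtype.ext h5)
  have h1 := Cfsg.Agent.Lib.SolvStruct.Fit.inf_center_ne_bot (D.subgroupOf X) hN1
  obtain ⟨w, hw⟩ := Subgroup.ne_bot_iff_exists_ne_one.1 h1
  refine ⟨((w : X) : G), w.2.1, ?_, ?_⟩
  · intro e
    exact hw (Subtype.ext (Subtype.ext e))
  · intro t ht
    have := (Subgroup.mem_center_iff.1 w.2.2) ⟨t, ht⟩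
    exact congrArg Subtype.val this

/-- The order-eight computation. -/
theorem no_eight {M : Type u} [Group M] [Finite M] (hM : IsO M) (W : Subgroup M) [hWn : W.Normal]
    (hW : ∀ w ∈ W, w * w = 1) {c y w : M} (hy : orderOf y = 5) (hδ : c * y * c⁻¹ * (y * y)⁻¹ ∈ W)
    (hw : w ∈ W) (hcw : c * w * c⁻¹ = w) (hc4 : c ^ 4 = 1) : ((y * w * y⁻¹) * c) ^ 4 = w := by
  have hWt : ∀ w : W, w * w = 1 := fun w => Subtype.ext (by simpa using hW w w.2)
  have hcomm := comm_of_exp_two hWt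
  have hcommM : ∀ a ∈ W, ∀ b ∈ W, a * b = b * a := fun a ha b hb =>
    congrArg Subtype.val (hcomm ⟨a, ha⟩ ⟨b, hb⟩)
  have hy5 : y ^ 5 = 1 := by rw [← hy]; exact pow_orderOf_eq_one y
  set A := cj W y with hA
  set C := cj W c with hC
  have hAcoe : ∀ x : W, ((A x : W) : M) = y * x * y⁻¹ := fun x => cj_coe W y x
  have hCcoe : ∀ x : W, ((C x : W) : M) = c * x * c⁻¹ := fun x => cj_coe W c x
  have hCA : ∀ x : W, C (A x) = A (A (C x)) := by
    intro x
    apply Subtype.ext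
    simp only [hAcoe, hCcoe]
    have hx : c * (x : M) * c⁻¹ ∈ W := hWn.conj_mem _ x.2 c
    have hyyx : (y * y) * (c * (x : M) * c⁻¹) * (y * y)⁻¹ ∈ W := hWn.conj_mem _ hx _
    set δ := c * y * c⁻¹ * (y * y)⁻¹ with hδd
    have h1 : c * (y * (x : M) * y⁻¹) * c⁻¹ =
        δ * ((y * y) * (c * x * c⁻¹) * (y * y)⁻¹) * δ⁻¹ := by
      simp only [hδd]; group
    rw [h1, hcommM _ hδ _ hyyx]
    group
  have hA5 : ∀ x : W, A (A (A (A (A x)))) = x := by
    intro x
    apply Subtype.ext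
    simp only [hAcoe]
    calc y * (y * (y * (y * (y * (x : M) * y⁻¹) * y⁻¹) * y⁻¹) * y⁻¹) * y⁻¹
        = y ^ 5 * x * (y ^ 5)⁻¹ := by
          simp only [mul_assoc, pow_succ, pow_zero, one_mul, mul_inv_rev]
      _ = x := by rw [hy5]; simp
  have hy1 : y ≠ 1 := by
    rintro rfl
    rw [orderOf_one] at hy
    omega
  -- the norm
  let w' : W := ⟨w, hw⟩
  have hCw : C w' = w' := Subtype.ext (by rw [hCcoe]; exact hcw)
  have hN : w' * A w' * A (A w') * A (A (A w')) * A (A (A (A w'))) = 1 := by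
    set n := w' * A w' * A (A w') * A (A (A w')) * A (A (A (A w'))) with hn
    have hfix : A n = n := by
      rw [hn, map_mul, map_mul, map_mul, map_mul, hA5]
      generalize A w' = a1
      generalize A a1 = a2
      generalize A a2 = a3
      generalize A a3 = a4
      letI inst : CommGroup W := { (inferInstance : Group W) with mul_comm := hcomm }
      simp only [mul_assoc, mul_left_comm, mul_comm]
    have h1 := congrArg Subtype.val hfix
    rw [hAcoe] at h1
    have h2 : Commute y (n : M) := by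
      calc y * (n : M) = y * n * y⁻¹ * y := by group
        _ = n * y := by rw [h1]
    have hco : Nat.Coprime (orderOf y) (orderOf (n : M)) := by
      rw [hy]; exact orderOf_dvd_two_coprime (Or.inr rfl) (hW _ n.2)
    rcases hM.eq_one_of_coprime h2 hco with h3 | h3
    · exact absurd h3 hy1
    · exact Subtype.ext h3
  -- the images under `C`
  have e1 : C (A w') = A (A w') := by rw [hCA, hCw]
  have e2 : C (A (A w')) = A (A (A (A w'))) := by rw [hCA, e1]
  have e3 : C (A (A (A w'))) = A w' := by rw [hCA, e2, hA5]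
  have e4 : C (A (A (A (A w')))) = A (A (A w')) := by rw [hCA, e3]
  have hfinal : (A w' : M) * (c * (A w' : M) * c⁻¹) * (c * (c * (A w' : M) * c⁻¹) * c⁻¹) *
      (c * (c * (c * (A w' : M) * c⁻¹) * c⁻¹) * c⁻¹) = w := by
    have f1 : c * (A w' : M) * c⁻¹ = (A (A w') : M) := by rw [← hCcoe, e1]
    have f2 : c * (A (A w') : M) * c⁻¹ = (A (A (A (A w'))) : M) := by rw [← hCcoe, e2]
    have f3 : c * (A (A (A (A w'))) : M) * c⁻¹ = (A (A (A w')) : M) := by rw [← hCcoe, e4]
    rw [f1, f2, f3]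
    have h2 : A w' * A (A w') * A (A (A (A w'))) * A (A (A w')) = w' := by
      have hi : w'⁻¹ = w' := inv_eq_of_mul_eq_one_left (hWt _)
      have h3 : w' * (A w' * A (A w') * A (A (A (A w'))) * A (A (A w'))) = 1 := by
        rw [← hN]
        generalize A w' = a1
        generalize A a1 = a2
        generalize A a2 = a3
        generalize A a3 = a4
        letI inst : CommGroup W := { (inferInstance : Group W) with mul_comm := hcomm }
        simp only [mul_assoc, mul_left_comm, mul_comm]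
      exact (eq_inv_of_mul_eq_one_right h3).trans hi
    exact congrArg Subtype.val h2
  have hA1 : y * w * y⁻¹ = (A w' : M) := (hAcoe w').symm
  rw [hA1]
  generalize (A w' : M) = d at hfinal
  have h4 : (d * c) ^ 4 = d * (c * d * c⁻¹) * (c * (c * d * c⁻¹) * c⁻¹) *
      (c * (c * (c * d * c⁻¹) * c⁻¹) * c⁻¹) * c ^ 4 := by
    simp only [pow_succ, pow_zero, one_mul]
    group
  rw [h4, hc4, mul_one, hfinal]

/-- The three-element lemma. -/
theorem three_lemma {M : Type u} [Group M] [Finite M] (hM : IsO M) (W : Subgroup M) [hWn : W.Normal]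
    (hW : ∀ w ∈ W, w * w = 1) {s u δ w : M} (hs : orderOf s = 3)
    (hδ : δ ∈ W) (hu3 : s * (s * u * s⁻¹) * s⁻¹ = (s * u * s⁻¹) * u * δ) (hw : w ∈ W)
    (huw : u * w * u⁻¹ = w) : (s * u * s⁻¹) * w * (s * u * s⁻¹)⁻¹ = w := by
  have hWt : ∀ w : W, w * w = 1 := fun w => Subtype.ext (by simpa using hW w w.2)
  have hcomm := comm_of_exp_two hWt
  have hcommM : ∀ a ∈ W, ∀ b ∈ W, a * b = b * a := fun a ha b hb =>
    congrArg Subtype.val (hcomm ⟨a, ha⟩ ⟨b, hb⟩)
  have hs3 : s ^ 3 = 1 := by rw [← hs]; exact pow_orderOf_eq_one s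
  have hs1 : s ≠ 1 := by
    rintro rfl
    rw [orderOf_one] at hs
    omega
  have hsi : s * s = s⁻¹ := by
    have : s * s * s = 1 := by rw [← hs3]; simp only [pow_succ, pow_zero, one_mul]
    exact eq_inv_of_mul_eq_one_left this
  set S := cj W s with hS
  have hScoe : ∀ x : W, ((S x : W) : M) = s * x * s⁻¹ := fun x => cj_coe W s x
  have hS3 : ∀ x : W, S (S (S x)) = x := by
    intro x
    apply Subtype.ext
    simp only [hScoe]
    calc s * (s * (s * (x : M) * s⁻¹) * s⁻¹) * s⁻¹ = s ^ 3 * x * (s ^ 3)⁻¹ := by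
          simp only [mul_assoc, pow_succ, pow_zero, one_mul, mul_inv_rev]
      _ = x := by rw [hs3]; simp
  have hfp : ∀ n : W, S n = n → n = 1 := by
    intro n hn
    have h1 := congrArg Subtype.val hn
    rw [hScoe] at h1
    have h2 : Commute s (n : M) := by
      calc s * (n : M) = s * n * s⁻¹ * s := by group
        _ = n * s := by rw [h1]
    have hco : Nat.Coprime (orderOf s) (orderOf (n : M)) := by
      rw [hs]; exact orderOf_dvd_two_coprime (Or.inl rfl) (hW _ n.2)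
    rcases hM.eq_one_of_coprime h2 hco with h3 | h3
    · exact absurd h3 hs1
    · exact Subtype.ext h3
  let w' : W := ⟨w, hw⟩
  set u₂ := s * u * s⁻¹ with hu₂
  set U := cj W u₂ with hU
  have hUcoe : ∀ x : W, ((U x : W) : M) = u₂ * x * u₂⁻¹ := fun x => cj_coe W u₂ x
  have hN : w' * S w' * S (S w') = 1 := by
    apply hfp
    rw [map_mul, map_mul, hS3, hcomm _ w', mul_assoc]
  -- images under `U`
  have e1 : U (S w') = S w' := by
    apply Subtype.ext
    simp only [hUcoe, hScoe, hu₂]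
    calc s * u * s⁻¹ * (s * w * s⁻¹) * (s * u * s⁻¹)⁻¹ = s * (u * w * u⁻¹) * s⁻¹ := by group
      _ = s * w * s⁻¹ := by rw [huw]
  have e2 : U (S (S w')) = S (S (U w')) := by
    apply Subtype.ext
    simp only [hUcoe, hScoe]
    have h1 : (s * u₂ * s⁻¹) * w * (s * u₂ * s⁻¹)⁻¹ = u₂ * w * u₂⁻¹ := by
      rw [hu3]
      have hδw : δ * w * δ⁻¹ = w := by
        rw [hcommM _ hδ _ hw]; group
      calc u₂ * u * δ * w * (u₂ * u * δ)⁻¹ = u₂ * (u * (δ * w * δ⁻¹) * u⁻¹) * u₂⁻¹ := by group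
        _ = u₂ * w * u₂⁻¹ := by rw [hδw, huw]
    have e3 : s * (s * w * s⁻¹) * s⁻¹ = s⁻¹ * w * s := by
      calc s * (s * w * s⁻¹) * s⁻¹ = (s * s) * w * (s * s)⁻¹ := by group
        _ = s⁻¹ * w * s := by rw [hsi]; simp
    have e4 : s * (s * (u₂ * w * u₂⁻¹) * s⁻¹) * s⁻¹ = s⁻¹ * (u₂ * w * u₂⁻¹) * s := by
      calc s * (s * (u₂ * w * u₂⁻¹) * s⁻¹) * s⁻¹ = (s * s) * (u₂ * w * u₂⁻¹) * (s * s)⁻¹ := by group
        _ = s⁻¹ * (u₂ * w * u₂⁻¹) * s := by rw [hsi]; simp
    rw [e3, e4, ← h1]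
    -- conjugate by `s⁻¹`
    have e5 : u₂ = s⁻¹ * (s * u₂ * s⁻¹) * s := by group
    have e6 : s⁻¹ * ((s * u₂ * s⁻¹) * w * (s * u₂ * s⁻¹)⁻¹) * s =
        u₂ * (s⁻¹ * w * s) * u₂⁻¹ := by
      group
    rw [e6]
  have hM2 := congrArg U hN
  rw [map_mul, map_mul, e1, e2, map_one] at hM2
  have hprod : (w' * U w') * S (S (w' * U w')) = 1 := by
    have h3 : (w' * S w' * S (S w')) * (U w' * S w' * S (S (U w'))) =
        (w' * U w') * S (S (w' * U w')) * (S w' * S w') := by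
      rw [map_mul, map_mul]
      generalize S (S w') = a2
      generalize S (S (U w')) = a4
      generalize S w' = a1
      generalize U w' = a3
      letI inst : CommGroup W := { (inferInstance : Group W) with mul_comm := hcomm }
      simp only [mul_assoc, mul_left_comm, mul_comm]
    rw [hN, hM2, hWt, hWt (S w'), mul_one] at h3
    exact h3.symm
  have hi : (w' * U w')⁻¹ = w' * U w' := inv_eq_of_mul_eq_one_left (hWt _)
  have hSS : S (S (w' * U w')) = w' * U w' := by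
    have := eq_inv_of_mul_eq_one_right hprod
    rwa [hi] at this
  have hSe : S (w' * U w') = w' * U w' := by
    have := congrArg S hSS
    rw [hS3] at this
    exact this.symm
  have he := hfp _ hSe
  have hUw : U w' = w' := by
    have := eq_inv_of_mul_eq_one_right he
    rw [inv_eq_of_mul_eq_one_left (hWt _)] at this
    exact this
  have := congrArg Subtype.val hUw
  rwa [hUcoe] at this

section Main

variable (hS : IsO G) {D : Subgroup G} {T T' : Sylow 2 G} (h : Cfg D T T')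

include hS h

/-- Elements of `T` lying in `D` modulo nothing: membership in `D` of the quotient. -/
theorem card_T_eq : Nat.card T = Nat.card D * Nat.card h.sylowImage := by
  have hTN := T_le hS h
  let X : Subgroup (NN D) := (T : Subgroup G).subgroupOf (NN D)
  have h1 := card_map_mul (pi D) X
  have h2 : (X ⊓ (pi D).ker : Subgroup (NN D)) = DD D := by
    ext x
    constructor
    · rintro ⟨-, hx⟩
      exact pi_eq_one_iff.1 hx
    · intro hx
      exact ⟨h.le_left hx, pi_eq_one_iff.2 hx⟩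
  rw [h2, card_DD hS h] at h1
  have h3 : Nat.card X = Nat.card T := Nat.card_congr (Subgroup.subgroupOfEquivOfLe hTN).toEquiv
  rw [h3] at h1
  exact h1.symm

/-- The normalizer acts on the image. -/
theorem mem_normalizer_image {g : G} (hg : g ∈ normalizer ((T : Subgroup G) : Set G))
    (hgM : g ∈ NN D) :
    pi D ⟨g, hgM⟩ ∈ normalizer ((h.sylowImage : Subgroup (QQ D)) : Set (QQ D)) := by
  rw [Subgroup.mem_normalizer_iff]
  intro xb
  obtain ⟨x, rfl⟩ := pi_surj D xb
  have e : pi D ⟨g, hgM⟩ * pi D x * (pi D ⟨g, hgM⟩)⁻¹ = pi D (⟨g, hgM⟩ * x * ⟨g, hgM⟩⁻¹) := by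
    simp only [map_mul, map_inv]
  rw [e, mem_image_iff hS h, mem_image_iff hS h]
  exact Subgroup.mem_normalizer_iff.1 hg (x : G)

/-- The case `|T/D| = 2`. -/
theorem case_two (h2c : TwoCl G) (hc2 : Nat.card h.sylowImage = 2)
    (hnorm : normalizer ((h.sylowImage : Subgroup (QQ D)) : Set (QQ D)) = h.sylowImage) :
    Nat.card D = 4 := by
  classical
  by_contra hD4
  have hTN := T_le hS h
  have hno : ¬ ((Nat.card h.sylowImage = 2 ∧ Nat.card D = 4) ∨
      (Nat.card h.sylowImage = 4 ∧ Nat.card D = 16)) := by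
    rintro (⟨-, e⟩ | ⟨e, -⟩)
    · exact hD4 e
    · omega
  have hNT : ∀ g ∈ normalizer ((T : Subgroup G) : Set G), g ∈ (T : Subgroup G) := by
    intro g hg
    have hgM := norm_le hS h hno hg
    have := mem_normalizer_image hS h hg hgM
    rw [hnorm] at this
    exact (mem_image_iff hS h _).1 this
  have hel := fun {d : G} (hd : d ∈ D) => elem hS h hd
  have hDc : ∀ a ∈ D, ∀ b ∈ D, a * b = b * a := by
    intro a ha b hb
    have h1 := inv_eq_of_mul_eq_one_left (hel (D.mul_mem ha hb))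
    rw [mul_inv_rev, inv_eq_of_mul_eq_one_left (hel ha), inv_eq_of_mul_eq_one_left (hel hb)] at h1
    exact h1.symm
  obtain ⟨x, hxT, hx1⟩ := h.exists_ne
  have huD : (x : G) ∉ D := fun e => hx1 (pi_eq_one_iff.2 e)
  have hxim : pi D x ∈ (h.sylowImage : Subgroup (QQ D)) := ⟨x, hxT, rfl⟩
  have hu2 : (x : G) * x ∈ D := by
    have h1 := pow_card_eq_one' (G := (h.sylowImage : Subgroup (QQ D))) (x := ⟨pi D x, hxim⟩)
    rw [show Nat.card (h.sylowImage : Subgroup (QQ D)) = 2 from hc2] at h1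
    have h2 : (pi D x) ^ 2 = 1 := by simpa using congrArg Subtype.val h1
    rw [pow_two, ← map_mul] at h2
    exact pi_eq_one_iff.1 h2
  set Z : Subgroup G := D ⊓ centralizer ({(x : G)} : Set G) with hZ
  have hZc := card_fix hS h x.2 huD hu2
  rw [← hZ] at hZc
  have hZD : Z ≤ D := inf_le_left
  have hD1 : Nat.card D ≠ 1 := fun e => h.nt (Subgroup.eq_bot_of_card_eq _ e)
  have hZ4 : 4 ≤ Nat.card Z := by
    have hZp : IsPGroup 2 Z := h.isP.to_le hZD
    obtain ⟨k, hk⟩ := IsPGroup.iff_card.1 hZp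
    rw [hZc, hk] at hD4 hD1
    rw [hk]
    rcases k with _ | _ | k
    · exact absurd (by norm_num) hD1
    · exact absurd (by norm_num) hD4
    · calc 4 = 2 ^ 2 := rfl
        _ ≤ 2 ^ (k + 1 + 1) := Nat.pow_le_pow_right (by norm_num) (by omega)
  -- elements of `Z` are central in `T`
  have hcentral : ∀ z ∈ Z, ∀ t ∈ (T : Subgroup G), t * z = z * t := by
    intro z hz t ht
    have hzu : (x : G) * z = z * x :=
      (Subgroup.mem_centralizer_singleton_iff.1 hz.2).symm
    let t' : NN D := ⟨t, hTN ht⟩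
    have ht' : pi D t' ∈ (h.sylowImage : Subgroup (QQ D)) := ⟨t', ht, rfl⟩
    by_cases hte : pi D t' = 1
    · exact hDc t (pi_eq_one_iff.1 hte) z hz.1
    · -- then `t ≡ x`
      haveI := Fintype.ofFinite ((h.sylowImage : Subgroup (QQ D)))
      have hu := (Nat.card_eq_two_iff' (1 : (h.sylowImage : Subgroup (QQ D)))).1 hc2
      have e1 : (⟨pi D t', ht'⟩ : (h.sylowImage : Subgroup (QQ D))) = ⟨pi D x, hxim⟩ :=
        hu.unique (fun e => hte (congrArg Subtype.val e)) (fun e => hx1 (congrArg Subtype.val e))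
      have e2 : pi D t' = pi D x := congrArg Subtype.val e1
      have e3 : pi D (x⁻¹ * t') = 1 := by rw [map_mul, map_inv, e2]; simp
      have e4 : ((x⁻¹ * t' : NN D) : G) ∈ D := pi_eq_one_iff.1 e3
      have e5 : t = (x : G) * ((x⁻¹ * t' : NN D) : G) := by simp [t']
      rw [e5, mul_assoc, hDc _ e4 z hz.1, ← mul_assoc, hzu, mul_assoc]
  -- three involutions
  obtain ⟨z₁, hz₁, hz₁1⟩ := exists_notMem Z {1} (by simp; omega)
  obtain ⟨z₂, hz₂, hz₂1⟩ := exists_notMem Z {1, z₁} (by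
    have := Finset.card_le_two (a := (1 : G)) (b := z₁)
    omega)
  obtain ⟨z₃, hz₃, hz₃1⟩ := exists_notMem Z {1, z₁, z₂} (by
    have := Finset.card_le_three (a := (1 : G)) (b := z₁) (c := z₂)
    omega)
  simp only [Finset.mem_singleton, Finset.mem_insert, not_or] at hz₁1 hz₂1 hz₃1
  have hconj : ∀ a ∈ Z, ∀ b ∈ Z, a ≠ 1 → IsConj a b → a = b := by
    intro a ha b hb ha1 hab
    obtain ⟨g, rfl⟩ := isConj_iff.1 hab
    have hg := conj_central hS T (hcentral a ha) ha1 (hel ha.1) (hcentral _ hb)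
    have hgT := hNT g hg
    have := hcentral a ha g hgT
    rw [this]; group
  rcases h2c z₁ z₂ z₃ (hel hz₁.1) (hel hz₂.1) (hel hz₃.1) hz₁1 hz₂1.1 hz₃1.1 with e | e | e
  · exact hz₂1.2 (hconj _ hz₁ _ hz₂ hz₁1 e).symm
  · exact hz₃1.2.1 (hconj _ hz₁ _ hz₃ hz₁1 e).symm
  · exact hz₃1.2.2 (hconj _ hz₂ _ hz₃ hz₂1.1 e).symm

/-- Quotients of order `20` do not occur. -/
theorem no_twenty (hc4 : Nat.card h.sylowImage = 4) (hc20 : Nat.card (QQ D) = 20) : False := by
  obtain ⟨cb, hcb, yb, hyb, hrel⟩ := Cfsg.Agent.Lib.Ord5.Gamma2.exists_c (hyp hS h).isO h.sylowImage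
    hc4 hc20
  obtain ⟨c, hcT, rfl⟩ := hcb
  obtain ⟨y, rfl⟩ := pi_surj D yb
  have hM : IsO (NN D) := hS.subgroup _
  have hy : orderOf y = 5 := hM.orderOf_lift (pi D) (Or.inr rfl) hyb
  have hδ : c * y * c⁻¹ * (y * y)⁻¹ ∈ DD D := by
    apply (QuotientGroup.eq_one_iff _).1
    change pi D (c * y * c⁻¹ * (y * y)⁻¹) = 1
    simp only [map_mul, map_inv]
    rw [hrel]; group
  have hTN := T_le hS h
  obtain ⟨w, hwD, hw1, hwc⟩ := exists_central T.2 h.le_left (hTN) h.nt
  have hW : ∀ x ∈ DD D, x * x = 1 := fun x hx =>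
    Subtype.ext (by simpa using elem hS h hx)
  have hc4' : c ^ 4 = 1 := by
    apply Subtype.ext
    simpa using pow_four_mem hS T.2 hcT
  have hcw : c * (⟨w, le_nn D hwD⟩ : NN D) * c⁻¹ = ⟨w, le_nn D hwD⟩ := by
    apply Subtype.ext
    have := hwc c hcT
    simp only [Subgroup.coe_mul, Subgroup.coe_inv]
    rw [this]; group
  have h8 := no_eight hM (DD D) hW hy hδ (w := ⟨w, le_nn D hwD⟩) hwD hcw hc4'
  have h1 : (y * ⟨w, le_nn D hwD⟩ * y⁻¹ : NN D) ∈ DD D :=
    (Subgroup.normal_in_normalizer (H := D)).conj_mem _ hwD y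
  have h2 : (((y * ⟨w, le_nn D hwD⟩ * y⁻¹ : NN D) * c : NN D) : G) ∈ (T : Subgroup G) :=
    T.1.mul_mem (h.le_left h1) hcT
  have h3 := pow_four_mem hS T.2 h2
  have h4 := congrArg Subtype.val h8
  rw [Subgroup.coe_pow] at h4
  rw [h3] at h4
  exact hw1 h4.symm

/-- The case `|T/D| = 4`. -/
theorem case_sixty (h2c : TwoCl G) (hc4 : Nat.card h.sylowImage = 4) (hc60 : Nat.card (QQ D) = 60)
    (hN12 : Nat.card (normalizer ((h.sylowImage : Subgroup (QQ D)) : Set (QQ D))) = 12) :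
    Nat.card D = 16 := by
  classical
  by_contra hD16
  have hTN := T_le hS h
  have hno : ¬ ((Nat.card h.sylowImage = 2 ∧ Nat.card D = 4) ∨
      (Nat.card h.sylowImage = 4 ∧ Nat.card D = 16)) := by
    rintro (⟨e, -⟩ | ⟨-, e⟩)
    · omega
    · exact hD16 e
  have hel := fun {d : G} (hd : d ∈ D) => elem hS h hd
  have hDc : ∀ a ∈ D, ∀ b ∈ D, a * b = b * a := by
    intro a ha b hb
    have h1 := inv_eq_of_mul_eq_one_left (hel (D.mul_mem ha hb))
    rw [mul_inv_rev, inv_eq_of_mul_eq_one_left (hel ha), inv_eq_of_mul_eq_one_left (hel hb)] at h1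
    exact h1.symm
  have hM : IsO (NN D) := hS.subgroup _
  have hW : ∀ x ∈ DD D, x * x = 1 := fun x hx =>
    Subtype.ext (by simpa using elem hS h hx)
  haveI : Fact (Nat.Prime 3) := ⟨Nat.prime_three⟩
  obtain ⟨sb', hsb'⟩ := exists_prime_orderOf_dvd_card' (G :=
    normalizer ((h.sylowImage : Subgroup (QQ D)) : Set (QQ D))) 3 (by rw [hN12]; decide)
  obtain ⟨sb, hsbN, hsb⟩ : ∃ sb ∈ normalizer ((h.sylowImage : Subgroup (QQ D)) : Set (QQ D)),
      orderOf sb = 3 := ⟨sb', sb'.2, by rw [Subgroup.orderOf_coe]; exact hsb'⟩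
  have hsX : ∀ x ∈ (h.sylowImage : Subgroup (QQ D)), sb * x * sb⁻¹ ∈ (h.sylowImage : Subgroup (QQ D)) :=
    fun x hx => (Subgroup.mem_normalizer_iff.1 hsbN x).1 hx
  obtain ⟨ub, hubX, hub1, hub2, heq, hlist⟩ :=
    Cfsg.Agent.Lib.Ord5.Gamma2.four_lemma (hyp hS h).isO (h.sylowImage : Subgroup (QQ D)) hc4 hsb hsX
  obtain ⟨s, rfl⟩ := pi_surj D sb
  obtain ⟨x, hxT, rfl⟩ := hubX
  have hs : orderOf s = 3 := hM.orderOf_lift (pi D) (Or.inl rfl) hsb
  -- the two commutation relations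
  have hrel1 : s * (s * x * s⁻¹) * s⁻¹ = (s * x * s⁻¹) * x * (((s * x * s⁻¹) * x)⁻¹ * (s * (s * x * s⁻¹) * s⁻¹)) := by
    group
  have hδ1 : ((s * x * s⁻¹) * x)⁻¹ * (s * (s * x * s⁻¹) * s⁻¹) ∈ DD D := by
    apply (QuotientGroup.eq_one_iff _).1
    change pi D (((s * x * s⁻¹) * x)⁻¹ * (s * (s * x * s⁻¹) * s⁻¹)) = 1
    simp only [map_mul, map_inv] at heq ⊢
    rw [heq]; group
  have hcommW : ∀ a ∈ DD D, ∀ b ∈ DD D, a * b = b * a := by
    intro a ha b hb
    apply Subtype.ext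
    exact hDc _ ha _ hb
  have hxD : (x : G) ∉ D := fun e => hub1 (pi_eq_one_iff.2 e)
  have hx2 : (x : G) * x ∈ D := by
    have : pi D (x * x) = 1 := by rw [map_mul]; exact hub2
    exact pi_eq_one_iff.1 this
  set Z : Subgroup G := D ⊓ centralizer ({(x : G)} : Set G) with hZ
  have hZc := card_fix hS h x.2 hxD hx2
  rw [← hZ] at hZc
  have hZD : Z ≤ D := inf_le_left
  have hD1 : Nat.card D ≠ 1 := fun e => h.nt (Subgroup.eq_bot_of_card_eq _ e)
  have h5 := dvd_sub_one hS h (Or.inr rfl) (by rw [hc60]; decide)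
  have hZ16 : 16 ≤ Nat.card Z := by
    have hZp : IsPGroup 2 Z := h.isP.to_le hZD
    obtain ⟨k, hk⟩ := IsPGroup.iff_card.1 hZp
    rw [hZc, hk] at hD16 hD1 h5
    rw [hk]
    rcases k with _ | _ | _ | _ | k
    · exact absurd (by norm_num) hD1
    · exact absurd h5 (by decide)
    · exact absurd (by norm_num) hD16
    · exact absurd h5 (by decide)
    · calc 16 = 2 ^ 4 := rfl
        _ ≤ 2 ^ (k + 1 + 1 + 1 + 1) := Nat.pow_le_pow_right (by norm_num) (by omega)
  -- elements of `Z` are central in `T`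
  have hcentral : ∀ z ∈ Z, ∀ t ∈ (T : Subgroup G), t * z = z * t := by
    intro z hz t ht
    let zz : NN D := ⟨z, le_nn D hz.1⟩
    have hzW : zz ∈ DD D := hz.1
    have hzx : x * zz = zz * x := by
      apply Subtype.ext
      exact (Subgroup.mem_centralizer_singleton_iff.1 hz.2).symm
    have hzx' : x * zz * x⁻¹ = zz := by rw [hzx]; group
    have h2 := three_lemma hM (DD D) hW hs hδ1 hrel1 hzW hzx'
    have hzx₂ : (s * x * s⁻¹) * zz = zz * (s * x * s⁻¹) := by
      calc (s * x * s⁻¹) * zz = ((s * x * s⁻¹) * zz * (s * x * s⁻¹)⁻¹) * (s * x * s⁻¹) := by group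
        _ = zz * (s * x * s⁻¹) := by rw [h2]
    have hzx₃ : (s * (s * x * s⁻¹) * s⁻¹) * zz = zz * (s * (s * x * s⁻¹) * s⁻¹) := by
      have hδz : (((s * x * s⁻¹) * x)⁻¹ * (s * (s * x * s⁻¹) * s⁻¹)) * zz =
          zz * (((s * x * s⁻¹) * x)⁻¹ * (s * (s * x * s⁻¹) * s⁻¹)) := hcommW _ hδ1 _ hzW
      have hc : Commute ((s * x * s⁻¹) * x * (((s * x * s⁻¹) * x)⁻¹ * (s * (s * x * s⁻¹) * s⁻¹))) zz :=
        (Commute.mul_left hzx₂ hzx).mul_left hδz
      have e : (s * x * s⁻¹) * x * (((s * x * s⁻¹) * x)⁻¹ * (s * (s * x * s⁻¹) * s⁻¹)) =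
          s * (s * x * s⁻¹) * s⁻¹ := hrel1.symm
      rw [e] at hc
      exact hc
    have hgen : ∀ y : NN D, y * zz = zz * y → ∀ t' : NN D, pi D t' = pi D y → t' * zz = zz * t' := by
      intro y hy t' ht'
      have e3 : pi D (y⁻¹ * t') = 1 := by rw [map_mul, map_inv, ht']; simp
      have e4 : (y⁻¹ * t') ∈ DD D := pi_eq_one_iff.1 e3
      have e5 : t' = y * (y⁻¹ * t') := by group
      have e6 := hcommW _ e4 _ hzW
      rw [e5, mul_assoc, e6, ← mul_assoc, hy, mul_assoc]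
    let t' : NN D := ⟨t, hTN ht⟩
    have ht' : pi D t' ∈ (h.sylowImage : Subgroup (QQ D)) := ⟨t', ht, rfl⟩
    have hfinal : t' * zz = zz * t' := by
      rcases hlist _ ht' with e | e | e | e
      · exact hgen 1 (by group) t' (by rw [e, map_one])
      · exact hgen x hzx t' e
      · exact hgen _ hzx₂ t' (by rw [e]; simp only [map_mul, map_inv])
      · exact hgen _ hzx₃ t' (by rw [e]; simp only [map_mul, map_inv])
    exact congrArg Subtype.val hfinal
  -- `s` normalizes `T`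
  have hsTg : ∀ y : NN D, pi D y ∈ normalizer ((h.sylowImage : Subgroup (QQ D)) : Set (QQ D)) →
      ∀ t ∈ (T : Subgroup G), (y : G) * t * (y : G)⁻¹ ∈ (T : Subgroup G) := by
    intro y hy t ht
    have ht' : pi D ⟨t, hTN ht⟩ ∈ (h.sylowImage : Subgroup (QQ D)) := ⟨⟨t, hTN ht⟩, ht, rfl⟩
    have h1 := (Subgroup.mem_normalizer_iff.1 hy _).1 ht'
    have e : pi D y * pi D ⟨t, hTN ht⟩ * (pi D y)⁻¹ = pi D (y * ⟨t, hTN ht⟩ * y⁻¹) := by
      simp only [map_mul, map_inv]
    rw [e, mem_image_iff hS h] at h1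
    exact h1
  have hsT : ∀ t ∈ (T : Subgroup G), (s : G) * t * (s : G)⁻¹ ∈ (T : Subgroup G) := hsTg s hsbN
  have hsT' : ∀ t ∈ (T : Subgroup G), (s : G)⁻¹ * t * (s : G) ∈ (T : Subgroup G) := by
    intro t ht
    have := hsTg s⁻¹ (by rw [map_inv]; exact Subgroup.inv_mem _ hsbN) t ht
    simpa using this
  have hcentralS : ∀ a : G, (∀ t ∈ (T : Subgroup G), t * a = a * t) →
      ∀ t ∈ (T : Subgroup G), t * ((s : G) * a * (s : G)⁻¹) = ((s : G) * a * (s : G)⁻¹) * t := by
    intro a ha t ht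
    have h1 := ha _ (hsT' t ht)
    calc t * ((s : G) * a * (s : G)⁻¹) = (s : G) * (((s : G)⁻¹ * t * s) * a) * (s : G)⁻¹ := by group
      _ = (s : G) * (a * ((s : G)⁻¹ * t * s)) * (s : G)⁻¹ := by rw [h1]
      _ = _ := by group
  -- the conjugates of an element of `Z`
  have hconj : ∀ a ∈ Z, ∀ b ∈ Z, a ≠ 1 → IsConj a b →
      b = a ∨ b = (s : G) * a * (s : G)⁻¹ ∨ b = (s : G) * ((s : G) * a * (s : G)⁻¹) * (s : G)⁻¹ := by
    intro a ha b hb ha1 hab
    obtain ⟨g, rfl⟩ := isConj_iff.1 hab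
    have hg := conj_central hS T (hcentral a ha) ha1 (hel ha.1) (hcentral _ hb)
    have hgM := norm_le hS h hno hg
    have himg := mem_normalizer_image hS h hg hgM
    have hsN' := hsbN
    rcases Cfsg.Agent.Lib.Ord5.Gamma2.cover _ _ (Subgroup.le_normalizer) hN12 hc4 hsb hsbN himg
      with e | e | e
    · left
      have e' := (mem_image_iff hS h _).1 e
      have := hcentral a ha g e'
      rw [this]; group
    · right; left
      rw [← map_inv, ← map_mul, mem_image_iff hS h] at e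
      have e' : g * (s : G)⁻¹ ∈ (T : Subgroup G) := by simpa using e
      have hc1 := hcentralS a (hcentral a ha) _ e'
      calc g * a * g⁻¹ = (g * (s : G)⁻¹) * ((s : G) * a * (s : G)⁻¹) * (g * (s : G)⁻¹)⁻¹ := by group
        _ = (s : G) * a * (s : G)⁻¹ := by rw [hc1]; group
    · right; right
      rw [← map_inv, ← map_mul, ← map_mul, mem_image_iff hS h] at e
      have e' : g * (s : G)⁻¹ * (s : G)⁻¹ ∈ (T : Subgroup G) := by simpa using e
      have hc1 := hcentralS _ (hcentralS a (hcentral a ha)) _ e'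
      calc g * a * g⁻¹ = (g * (s : G)⁻¹ * (s : G)⁻¹) * ((s : G) * ((s : G) * a * (s : G)⁻¹) * (s : G)⁻¹) *
            (g * (s : G)⁻¹ * (s : G)⁻¹)⁻¹ := by group
        _ = _ := by rw [hc1]; group
  -- three involutions
  obtain ⟨z₁, hz₁, hz₁1⟩ := exists_notMem Z {1} (by simp; omega)
  let L₂ : Finset G := [1, z₁, (s : G) * z₁ * (s : G)⁻¹,
    (s : G) * ((s : G) * z₁ * (s : G)⁻¹) * (s : G)⁻¹].toFinset
  have hL₂ : L₂.card < Nat.card Z := lt_of_le_of_lt (List.toFinset_card_le _) (by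
    simp only [List.length_cons, List.length_nil]; omega)
  obtain ⟨z₂, hz₂, hz₂1⟩ := exists_notMem Z L₂ hL₂
  let L₃ : Finset G := [1, z₁, (s : G) * z₁ * (s : G)⁻¹,
    (s : G) * ((s : G) * z₁ * (s : G)⁻¹) * (s : G)⁻¹, z₂, (s : G) * z₂ * (s : G)⁻¹,
    (s : G) * ((s : G) * z₂ * (s : G)⁻¹) * (s : G)⁻¹].toFinset
  have hL₃ : L₃.card < Nat.card Z := lt_of_le_of_lt (List.toFinset_card_le _) (by
    simp only [List.length_cons, List.length_nil]; omega)
  obtain ⟨z₃, hz₃, hz₃1⟩ := exists_notMem Z L₃ hL₃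
  simp only [L₂, L₃, List.mem_toFinset, List.mem_cons, List.not_mem_nil, or_false, not_or,
    Finset.mem_singleton] at hz₁1 hz₂1 hz₃1
  rcases h2c z₁ z₂ z₃ (hel hz₁.1) (hel hz₂.1) (hel hz₃.1) hz₁1 hz₂1.1 hz₃1.1 with e | e | e
  · rcases hconj _ hz₁ _ hz₂ hz₁1 e with e' | e' | e'
    · exact hz₂1.2.1 e'
    · exact hz₂1.2.2.1 e'
    · exact hz₂1.2.2.2 e'
  · rcases hconj _ hz₁ _ hz₃ hz₁1 e with e' | e' | e'
    · exact hz₃1.2.1 e'
    · exact hz₃1.2.2.1 e'
    · exact hz₃1.2.2.2.1 e'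
  · rcases hconj _ hz₂ _ hz₃ hz₂1.1 e with e' | e' | e'
    · exact hz₃1.2.2.2.2.1 e'
    · exact hz₃1.2.2.2.2.2.1 e'
    · exact hz₃1.2.2.2.2.2.2 e'

/-- The order of `T` in the presence of a configuration. -/
theorem card_T (h2c : TwoCl G) : Nat.card T = 8 ∨ Nat.card T = 64 := by
  rcases (hyp hS h).shape h.sylowImage with ⟨e2, -, hn⟩ | ⟨e4, e20, -⟩ | ⟨e4, e60, e12⟩
  · left
    have h1 := case_two hS h h2c e2 hn
    rw [card_T_eq hS h, h1, e2]
  · exact (no_twenty hS h e4 e20).elim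
  · right
    have h1 := case_sixty hS h h2c e4 e60 e12
    rw [card_T_eq hS h, h1, e4]

end Main

end Cfsg.Agent.Lib.Ord5.Two3
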