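import Cfsg.Agent.Lib.Ord5.Fpf
import Cfsg.Agent.S0033
import Cfsg.Agent.Lib.FG7.FrobeniusCoset

/-!
# A solvable group with element orders at most `5` has at most two prime divisors
-/

set_option autoImplicit false
set_option linter.style.haveILetI false
set_option linter.unusedSectionVars false

namespace Cfsg.Agent.Lib.Ord5.Sol3

open Cfsg.Agent.Lib.Ord5.Basic Cfsg.Agent.Lib.Ord5.Fpf

universe u

theorem not_three_primes {G : Type u} [Group G] [Finite G] (hG : IsO G) [hs : Group.IsSolvable G]
    (h2 : 2 ∣ Nat.card G) (h3 : 3 ∣ Nat.card G) (h5 : 5 ∣ Nat.card G) : False := by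
  induction hn : Nat.card G using Nat.strong_induction_on generalizing G with
  | _ n ih =>
    haveI : Nontrivial G := by
      rw [← Finite.one_lt_card_iff_nontrivial]
      have : 0 < Nat.card G := Nat.card_pos
      have := Nat.le_of_dvd this h3
      omega
    obtain ⟨K, hKn, hKp⟩ := Cfsg.Agent.Lib.FG7.FrobeniusCoset.exists_normal_prime_index (G := G)
    haveI := hKn
    set q := K.index with hq
    have hcard : Nat.card K * q = Nat.card G := K.card_mul_index
    have hqcases : q = 2 ∨ q = 3 ∨ q = 5 :=
      hG.prime_cases hKp (Dvd.intro_left _ hcard)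
    have hdiv : ∀ p : ℕ, p.Prime → p ∣ Nat.card G → p ≠ q → p ∣ Nat.card K := by
      intro p hp hd hne
      rw [← hcard] at hd
      rcases (Nat.Prime.dvd_mul hp).1 hd with h | h
      · exact h
      · exact absurd ((Nat.prime_dvd_prime_iff_eq hp hKp).1 h) hne
    have hK := hG.subgroup K
    by_cases hqK : q ∣ Nat.card K
    · -- `K` is still a counterexample
      have hlt : Nat.card K < n := by
        rw [← hn, ← hcard]
        have : 0 < Nat.card K := Nat.card_pos
        have := hKp.two_le
        nlinarith
      have hdK : ∀ p : ℕ, p.Prime → p ∣ Nat.card G → p ∣ Nat.card K := by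
        intro p hp hd
        by_cases hpq : p = q
        · rw [hpq]; exact hqK
        · exact hdiv p hp hd hpq
      exact ih (Nat.card K) hlt hK (hdK 2 Nat.prime_two h2) (hdK 3 Nat.prime_three h3)
        (hdK 5 Nat.prime_five h5) rfl
    · -- `K` is a normal complement to a subgroup of order `q`
      haveI : Fact q.Prime := ⟨hKp⟩
      obtain ⟨x, hx⟩ := exists_prime_orderOf_dvd_card' q (Dvd.intro_left _ hcard)
      have hx1 : x ≠ 1 := by
        rintro rfl
        rw [orderOf_one] at hx
        exact hKp.one_lt.ne hx
      have hcop : ∀ h : K, Nat.Coprime (orderOf x) (orderOf (h : G)) := by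
        intro h
        rw [hx, Nat.Prime.coprime_iff_not_dvd hKp]
        intro hd
        apply hqK
        rw [Subgroup.orderOf_coe] at hd
        exact hd.trans (orderOf_dvd_natCard h)
      have hfix : ∀ h : K, x * h = h * x → h = 1 := by
        intro h hc
        rcases hG.eq_one_of_coprime hc (hcop h) with h1 | h1
        · exact absurd h1 hx1
        · exact Subtype.ext h1
      let φ : K ≃* K := MulAut.conjNormal x
      have hφ : ∀ h : K, ((φ h : K) : G) = x * h * x⁻¹ := fun h => MulAut.conjNormal_apply x h
      have hfpf : MonoidHom.FixedPointFree (φ : K →* K) := by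
        intro h hh
        apply hfix
        have h1 : ((φ h : K) : G) = h := congrArg Subtype.val hh
        rw [hφ] at h1
        calc x * (h : G) = x * h * x⁻¹ * x := by group
          _ = h * x := by rw [h1]
      have hφord : orderOf φ = q := by
        have hxq : x ^ q = 1 := by rw [← hx]; exact pow_orderOf_eq_one x
        have e1 : φ ^ q = 1 := by
          have : (MulAut.conjNormal x : MulAut K) ^ q = MulAut.conjNormal (x ^ q) := by
            rw [map_pow]
          change (MulAut.conjNormal x : MulAut K) ^ q = 1
          rw [this, hxq, map_one]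
        have hKt : Nontrivial K := by
          rw [← Finite.one_lt_card_iff_nontrivial]
          have : ∃ p : ℕ, p.Prime ∧ p ∣ Nat.card G ∧ p ≠ q := by
            rcases hqcases with h | h | h
            · exact ⟨3, Nat.prime_three, h3, by omega⟩
            · exact ⟨5, Nat.prime_five, h5, by omega⟩
            · exact ⟨2, Nat.prime_two, h2, by omega⟩
          obtain ⟨p, hp, hd, hne⟩ := this
          have := hdiv p hp hd hne
          have h0 : 0 < Nat.card K := Nat.card_pos
          have := Nat.le_of_dvd h0 this
          have := hp.two_le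
          omega
        refine orderOf_eq_prime e1 ?_
        intro e2
        obtain ⟨h, hh⟩ := exists_ne (1 : K)
        apply hh
        apply hfix
        have h1 : ((φ h : K) : G) = h := by rw [e2]; rfl
        rw [hφ] at h1
        calc x * (h : G) = x * h * x⁻¹ * x := by group
          _ = h * x := by rw [h1]
      haveI hnil : Group.IsNilpotent K := Cfsg.Agent.S0033.result φ hfpf q hKp hφord
      -- two primes divide `|K|`, and one element of the center gives a mixed element
      have hKt : Nontrivial K := by
        rw [← Finite.one_lt_card_iff_nontrivial]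
        have : ∃ p : ℕ, p.Prime ∧ p ∣ Nat.card G ∧ p ≠ q := by
          rcases hqcases with h | h | h
          · exact ⟨3, Nat.prime_three, h3, by omega⟩
          · exact ⟨5, Nat.prime_five, h5, by omega⟩
          · exact ⟨2, Nat.prime_two, h2, by omega⟩
        obtain ⟨p, hp, hd, hne⟩ := this
        have := hdiv p hp hd hne
        have h0 : 0 < Nat.card K := Nat.card_pos
        have := Nat.le_of_dvd h0 this
        have := hp.two_le
        omega
      have hcen : Nontrivial (Subgroup.center K) :=
        (Subgroup.nontrivial_iff_ne_bot _).2 (Group.IsNilpotent.center_ne_bot K)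
      obtain ⟨z, hz⟩ := exists_ne (1 : Subgroup.center K)
      have hz1 : ((z : K) : G) ≠ 1 := fun h => hz (Subtype.ext (Subtype.ext h))
      obtain ⟨p, k, hp, hk⟩ := hG.exists_prime_pow ((z : K) : G)
      -- choose a prime different from `p` and `q`
      have : ∃ p' : ℕ, p'.Prime ∧ p' ∣ Nat.card K ∧ p' ≠ p := by
        rcases hqcases with h | h | h <;> rcases hp with h' | h' | h'
        · exact ⟨3, Nat.prime_three, hdiv 3 Nat.prime_three h3 (by omega), by omega⟩
        · exact ⟨5, Nat.prime_five, hdiv 5 Nat.prime_five h5 (by omega), by omega⟩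
        · exact ⟨3, Nat.prime_three, hdiv 3 Nat.prime_three h3 (by omega), by omega⟩
        · exact ⟨5, Nat.prime_five, hdiv 5 Nat.prime_five h5 (by omega), by omega⟩
        · exact ⟨5, Nat.prime_five, hdiv 5 Nat.prime_five h5 (by omega), by omega⟩
        · exact ⟨2, Nat.prime_two, hdiv 2 Nat.prime_two h2 (by omega), by omega⟩
        · exact ⟨3, Nat.prime_three, hdiv 3 Nat.prime_three h3 (by omega), by omega⟩
        · exact ⟨2, Nat.prime_two, hdiv 2 Nat.prime_two h2 (by omega), by omega⟩
        · exact ⟨2, Nat.prime_two, hdiv 2 Nat.prime_two h2 (by omega), by omega⟩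
      obtain ⟨p', hp', hd', hne'⟩ := this
      haveI : Fact p'.Prime := ⟨hp'⟩
      obtain ⟨b, hb⟩ := exists_prime_orderOf_dvd_card' p' hd'
      have hb1 : b ≠ 1 := by
        rintro rfl
        rw [orderOf_one] at hb
        exact hp'.one_lt.ne hb
      have hcz : Commute ((z : K) : G) (b : G) := by
        have := Subgroup.mem_center_iff.1 z.2 b
        exact (congrArg Subtype.val this).symm
      have hpp : p.Prime := by rcases hp with rfl | rfl | rfl <;> norm_num
      have hb' : orderOf (b : G) = p' ^ 1 := by rw [Subgroup.orderOf_coe, hb, pow_one]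
      rcases eq_one_of_commute_pow hG hpp hp' hne'.symm hk hb' hcz with h | h
      · exact hz1 h
      · exact hb1 (Subtype.ext h)

end Cfsg.Agent.Lib.Ord5.Sol3
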