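import Cfsg.Agent.Lib.Ord5.Top
import Cfsg.Agent.Lib.Solvable.EPPO2

/-!
# The solvable radical
-/

set_option autoImplicit false
set_option linter.style.haveILetI false
set_option linter.unusedSectionVars false

namespace Cfsg.Agent.Lib.Ord5.Bottom

open Subgroup Cfsg.Agent.Lib.Ord5.Basic Cfsg.Agent.Lib.Ord5.Fpf Cfsg.Agent.Lib.Ord5.Local
open Cfsg.Agent.Lib.Ord5.Count
open Cfsg.Agent.Lib.Solvable.Basic Cfsg.Agent.Lib.Solvable.EPPO2

universe u v

/-- A minimal normal subgroup inside a solvable normal subgroup. -/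
theorem exists_min_p {G : Type u} [Group G] [Finite G] (hS : IsO G) (R : Subgroup G) (hRn : R.Normal)
    (hs : Group.IsSolvable R) (hR1 : R ≠ ⊥) :
    ∃ M : Subgroup G, M.Normal ∧ M ≠ ⊥ ∧ M ≤ R ∧ ∃ p : ℕ, (p = 2 ∨ p = 3 ∨ p = 5) ∧ IsPGroup p M := by
  obtain ⟨M, hM, hMR⟩ := exists_isMinNormal_le R hRn hR1
  have hMs : Group.IsSolvable M :=
    Group.isSolvable_of_isSolvable_injective (f := Subgroup.inclusion hMR)
      (Subgroup.inclusion_injective hMR)
  have hcomm := isMinNormal_comm_of_solvable hM hMs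
  obtain ⟨p, hp, hpx⟩ := isMinNormal_exponent_of_comm hM hcomm
  refine ⟨M, hM.1, hM.2.1, hMR, p, ?_, ?_⟩
  · obtain ⟨x, hx⟩ := Subgroup.ne_bot_iff_exists_ne_one.1 hM.2.1
    have hx1 : (x : G) ≠ 1 := fun e => hx (Subtype.ext e)
    haveI : Fact p.Prime := ⟨hp⟩
    have h1 := orderOf_eq_prime (hpx x x.2) hx1
    have h2 := (hS (x : G)).1
    rw [h1] at h2
    interval_cases p <;> first | omega | (exfalso; revert hp; norm_num)
  · intro x
    refine ⟨1, ?_⟩
    apply Subtype.ext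
    simpa using hpx x x.2

/-- In the quotient by a nontrivial normal subgroup of odd prime power order, a `2`-subgroup has at
most one involution. -/
theorem invol_unique {G : Type u} [Group G] [Finite G] (hS : IsO G) (M : Subgroup G) [hMn : M.Normal]
    {p : ℕ} [hp : Fact p.Prime] (hp3 : p = 3 ∨ p = 5) (hMp : IsPGroup p M) (hM1 : M ≠ ⊥)
    (W : Subgroup (G ⧸ M)) (hW : IsPGroup 2 W) {a b : G ⧸ M} (haW : a ∈ W) (hbW : b ∈ W)
    (ha : a * a = 1) (hb : b * b = 1) (ha1 : a ≠ 1) (hb1 : b ≠ 1) : a = b := by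
  have hne2 : p ≠ 2 := by rcases hp3 with rfl | rfl <;> norm_num
  have hker : IsPGroup p (QuotientGroup.mk' M).ker := by
    rw [QuotientGroup.ker_mk']
    exact hMp
  obtain ⟨R, hR, hRm, hinj⟩ := exists_lift (QuotientGroup.mk' M) (QuotientGroup.mk'_surjective M)
    hp.out Nat.prime_two hne2 hker W hW
  have h1 : a ∈ R.map (QuotientGroup.mk' M) := by rw [hRm]; exact haW
  have h2 : b ∈ R.map (QuotientGroup.mk' M) := by rw [hRm]; exact hbW
  obtain ⟨a', ha', rfl⟩ := h1
  obtain ⟨b', hb', rfl⟩ := h2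
  have e1 : a' * a' = 1 := hinj _ (R.mul_mem ha' ha') (by rw [map_mul]; exact ha)
  have e2 : b' * b' = 1 := hinj _ (R.mul_mem hb' hb') (by rw [map_mul]; exact hb)
  have e3 : a' ≠ 1 := fun e => ha1 (by rw [e, map_one])
  have e4 : b' ≠ 1 := fun e => hb1 (by rw [e, map_one])
  have e5 := orderOf_mem Nat.prime_two hR (R.mul_mem ha' hb')
  rw [unique_invol hS M hp3 hMp hM1 e1 e2 e3 e4 e5]

/-- Two commuting involutions in the quotient are equal. -/
theorem invol_eq {G : Type u} [Group G] [Finite G] (hS : IsO G) (M : Subgroup G) [hMn : M.Normal]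
    {p : ℕ} [hp : Fact p.Prime] (hp3 : p = 3 ∨ p = 5) (hMp : IsPGroup p M) (hM1 : M ≠ ⊥)
    {a b : G ⧸ M} (ha : a * a = 1) (hb : b * b = 1) (ha1 : a ≠ 1) (hb1 : b ≠ 1)
    (hab : (a * b) ^ 2 = 1) : a = b := by
  obtain ⟨X, hX, hXa, hXb⟩ := dihedral_two ha hb (Cfsg.Agent.Lib.Ord5.Top.two_pow_of (n := 1)
    (by simpa using hab))
  exact invol_unique hS M hp3 hMp hM1 X hX hXa hXb ha hb ha1 hb1

variable {Γ : Type v} [Group Γ]

/-- Factoring through a normal subgroup of the kernel. -/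
theorem lift_data {G : Type u} [Group G] [Finite G] (ρ : G →* Γ) (hρ : Function.Surjective ρ)
    (hs : Group.IsSolvable ρ.ker) (M : Subgroup G) [hMn : M.Normal] (hMR : M ≤ ρ.ker) :
    ∃ ρ' : G ⧸ M →* Γ, Function.Surjective ρ' ∧ Group.IsSolvable ρ'.ker ∧
      ∀ x, ρ' (QuotientGroup.mk' M x) = ρ x := by
  let ρ' : G ⧸ M →* Γ := QuotientGroup.lift M ρ (fun x hx => hMR hx)
  have he : ∀ x, ρ' (QuotientGroup.mk' M x) = ρ x := fun x => rfl
  refine ⟨ρ', ?_, ?_, he⟩
  · intro y
    obtain ⟨x, rfl⟩ := hρ y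
    exact ⟨QuotientGroup.mk' M x, rfl⟩
  · let f : ρ.ker →* ρ'.ker :=
      ((QuotientGroup.mk' M).comp ρ.ker.subtype).codRestrict ρ'.ker (fun x => by
        rw [MonoidHom.mem_ker]
        exact x.2)
    refine Group.isSolvable_of_surjective (f := f) ?_
    rintro ⟨y, hy⟩
    obtain ⟨x, rfl⟩ := QuotientGroup.mk'_surjective M y
    refine ⟨⟨x, ?_⟩, rfl⟩
    have := hy
    rw [MonoidHom.mem_ker, he] at this
    exact this

theorem card_quot_lt {G : Type u} [Group G] [Finite G] (M : Subgroup G) [hMn : M.Normal] (hM1 : M ≠ ⊥) :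
    Nat.card (G ⧸ M) < Nat.card G := by
  have h1 := Subgroup.card_eq_card_quotient_mul_card_subgroup M
  have h2 : Nat.card M ≠ 1 := fun e => hM1 (Subgroup.eq_bot_of_card_eq M e)
  have h3 : 0 < Nat.card M := Nat.card_pos
  have h4 : 0 < Nat.card (G ⧸ M) := Nat.card_pos
  rw [h1]
  nlinarith [show 2 ≤ Nat.card M by omega]

/-- Commuting involutions in `A₅`. -/
def a₀ : alternatingGroup (Fin 5) :=
  ⟨Equiv.swap 0 1 * Equiv.swap 2 3, Equiv.Perm.mem_alternatingGroup.2 (by decide)⟩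

/-- Commuting involutions in `A₅`. -/
def b₀ : alternatingGroup (Fin 5) :=
  ⟨Equiv.swap 0 2 * Equiv.swap 1 3, Equiv.Perm.mem_alternatingGroup.2 (by decide)⟩

/-- An element of order `3` in `A₅`. -/
def s₀ : alternatingGroup (Fin 5) :=
  ⟨Equiv.swap 0 1 * Equiv.swap 1 2, Equiv.Perm.mem_alternatingGroup.2 (by decide)⟩

/-- An involution inverting `s₀`. -/
def u₀ : alternatingGroup (Fin 5) :=
  ⟨Equiv.swap 0 1 * Equiv.swap 3 4, Equiv.Perm.mem_alternatingGroup.2 (by decide)⟩

theorem a5_a : a₀ * a₀ = 1 := by decide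
theorem a5_b : b₀ * b₀ = 1 := by decide
theorem a5_a1 : a₀ ≠ 1 := by decide
theorem a5_b1 : b₀ ≠ 1 := by decide
theorem a5_ne : a₀ ≠ b₀ := by decide
theorem a5_ab : (a₀ * b₀) ^ 2 = 1 := by decide
theorem a5_s : s₀ ^ 3 = 1 := by decide
theorem a5_s1 : s₀ ≠ 1 := by decide
theorem a5_u : u₀ * u₀ = 1 := by decide
theorem a5_us : u₀ * s₀ * u₀⁻¹ * s₀ = 1 := by decide

theorem a5_s_order : orderOf s₀ = 3 := by
  haveI : Fact (Nat.Prime 3) := ⟨Nat.prime_three⟩
  exact orderOf_eq_prime a5_s a5_s1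

/-- Elements of `A₆`. -/
theorem a6_ne : Cfsg.Agent.Lib.Ord5.Top.x₀ ≠ Cfsg.Agent.Lib.Ord5.Top.y₀ := by decide

theorem a6_y1 : Cfsg.Agent.Lib.Ord5.Top.y₀ ≠ 1 := by decide

/-- Injective lifts give commuting involutions. -/
theorem no_klein {G : Type u} [Group G] [Finite G] (hS : IsO G) (M : Subgroup G)
    [hMn : M.Normal] {p : ℕ} [hp : Fact p.Prime] (hp3 : p = 3 ∨ p = 5) (hMp : IsPGroup p M)
    (hM1 : M ≠ ⊥) (ρ' : G ⧸ M →* Γ) (hρ' : Function.Surjective ρ') (hinj : Function.Injective ρ')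
    {a b : Γ} (ha : a * a = 1) (hb : b * b = 1) (ha1 : a ≠ 1) (hb1 : b ≠ 1) (hab : (a * b) ^ 2 = 1) :
    a = b := by
  obtain ⟨x, rfl⟩ := hρ' a
  obtain ⟨y, rfl⟩ := hρ' b
  have h1 : x * x = 1 := hinj (by rw [map_mul, ha, map_one])
  have h2 : y * y = 1 := hinj (by rw [map_mul, hb, map_one])
  have h3 : x ≠ 1 := fun e => ha1 (by rw [e, map_one])
  have h4 : y ≠ 1 := fun e => hb1 (by rw [e, map_one])
  have h5 : (x * y) ^ 2 = 1 := hinj (by rw [map_pow, map_mul, hab, map_one])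
  rw [invol_eq hS M hp3 hMp hM1 h1 h2 h3 h4 h5]

/-- **The case of `A₆`.** -/
theorem a6_case {G : Type u} [Group G] [Finite G] (hS : IsO G) (ρ : G →* alternatingGroup (Fin 6))
    (hρ : Function.Surjective ρ) (hs : Group.IsSolvable ρ.ker) : ρ.ker = ⊥ := by
  classical
  induction hn : Nat.card G using Nat.strong_induction_on generalizing G with
  | _ n ih =>
    by_contra hne
    obtain ⟨M, hMn, hM1, hMR, p, hp, hMp⟩ := exists_min_p hS ρ.ker inferInstance hs hne
    haveI := hMn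
    obtain ⟨ρ', hρ', hs', -⟩ := lift_data ρ hρ hs M hMR
    have hlt : Nat.card (G ⧸ M) < n := by
      rw [← hn]
      exact card_quot_lt M hM1
    have hb := ih _ hlt (hS.quotient M) ρ' hρ' hs' rfl
    have hinj : Function.Injective ρ' := (MonoidHom.ker_eq_bot_iff _).1 hb
    have hcardQ : Nat.card (G ⧸ M) = 360 := by
      rw [Nat.card_congr (Equiv.ofBijective ρ' ⟨hinj, hρ'⟩)]
      rw [Nat.card_eq_fintype_card]
      decide +kernel
    have hkl : ∀ {q : ℕ} [hq : Fact q.Prime], (q = 3 ∨ q = 5) → IsPGroup q M → False := by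
      intro q hq hq3 hMq
      have := no_klein hS M hq3 hMq hM1 ρ' hρ' hinj Cfsg.Agent.Lib.Ord5.Top.a6_x
        Cfsg.Agent.Lib.Ord5.Top.a6_y Cfsg.Agent.Lib.Ord5.Top.a6_x1 a6_y1 Cfsg.Agent.Lib.Ord5.Top.a6_xy
      exact a6_ne this
    rcases hp with rfl | rfl | rfl
    · haveI : Fact (Nat.Prime 3) := ⟨Nat.prime_three⟩
      obtain ⟨Rb, hRb⟩ := Sylow.exists_subgroup_card_pow_prime (G := G ⧸ M) 3 (n := 2)
        (by rw [hcardQ]; decide)
      have hRb' : IsPGroup 3 Rb := IsPGroup.of_card hRb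
      have hker : IsPGroup 2 (QuotientGroup.mk' M).ker := by
        rw [QuotientGroup.ker_mk']
        exact hMp
      obtain ⟨R, hR, hRm, -⟩ := exists_lift (QuotientGroup.mk' M) (QuotientGroup.mk'_surjective M)
        Nat.prime_two Nat.prime_three (by norm_num) hker Rb hRb'
      have h1 := card_le_of_rgroup hS M Nat.prime_two (Or.inl rfl) (by norm_num) hMp hM1 R hR
      have h4 : Nat.card (R.map (QuotientGroup.mk' M)) ≤ Nat.card R :=
        Nat.le_of_dvd Nat.card_pos (Subgroup.card_map_dvd R _)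
      rw [hRm, hRb] at h4
      omega
    · haveI : Fact (Nat.Prime 3) := ⟨Nat.prime_three⟩
      exact hkl (Or.inl rfl) hMp
    · haveI : Fact (Nat.Prime 5) := ⟨Nat.prime_five⟩
      exact hkl (Or.inr rfl) hMp

/-- **The case of `A₅`.** -/
theorem a5_case {G : Type u} [Group G] [Finite G] (hS : IsO G) (ρ : G →* alternatingGroup (Fin 5))
    (hρ : Function.Surjective ρ) (hs : Group.IsSolvable ρ.ker) : IsPGroup 2 ρ.ker := by
  classical
  haveI : Fact (Nat.Prime 2) := ⟨Nat.prime_two⟩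
  induction hn : Nat.card G using Nat.strong_induction_on generalizing G with
  | _ n ih =>
    by_cases hne : ρ.ker = ⊥
    · rw [hne]
      exact IsPGroup.of_card (n := 0) (by simp)
    obtain ⟨M, hMn, hM1, hMR, p, hp, hMp⟩ := exists_min_p hS ρ.ker inferInstance hs hne
    haveI := hMn
    obtain ⟨ρ', hρ', hs', hρe⟩ := lift_data ρ hρ hs M hMR
    have hlt : Nat.card (G ⧸ M) < n := by
      rw [← hn]
      exact card_quot_lt M hM1
    have hb : IsPGroup 2 ρ'.ker := ih _ hlt (hS.quotient M) ρ' hρ' hs' rfl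
    have hodd : ∀ {q : ℕ} [hq : Fact q.Prime], (q = 3 ∨ q = 5) → IsPGroup q M → False := by
      intro q hq hq3 hMq
      by_cases hX : ρ'.ker = ⊥
      · have hinj : Function.Injective ρ' := (MonoidHom.ker_eq_bot_iff _).1 hX
        have := no_klein hS M hq3 hMq hM1 ρ' hρ' hinj a5_a a5_b a5_a1 a5_b1 a5_ab
        exact a5_ne this
      · -- a central involution
        obtain ⟨k, hk⟩ := IsPGroup.iff_card.1 hb
        have hk0 : k ≠ 0 := by
          rintro rfl
          exact hX (Subgroup.eq_bot_of_card_eq _ (by simpa using hk))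
        have h2 : 2 ∣ Nat.card ρ'.ker := by
          rw [hk]
          exact dvd_pow_self 2 hk0
        obtain ⟨z, hz⟩ := exists_prime_orderOf_dvd_card' 2 h2
        have hz' : orderOf (z : G ⧸ M) = 2 := by rw [Subgroup.orderOf_coe, hz]
        have hz2 : (z : G ⧸ M) * z = 1 := by
          rw [← pow_two, ← hz']
          exact pow_orderOf_eq_one _
        have hz1 : (z : G ⧸ M) ≠ 1 := by
          intro e
          rw [e, orderOf_one] at hz'
          omega
        have hcen : ∀ g : G ⧸ M, g * z * g⁻¹ = z := by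
          intro g
          have hm : g * (z : G ⧸ M) * g⁻¹ ∈ ρ'.ker := (MonoidHom.normal_ker ρ').conj_mem _ z.2 g
          refine invol_unique hS M hq3 hMq hM1 ρ'.ker hb hm z.2 ?_ hz2 ?_ hz1
          · calc g * (z : G ⧸ M) * g⁻¹ * (g * z * g⁻¹) = g * (z * z) * g⁻¹ := by group
              _ = 1 := by rw [hz2]; group
          · intro e
            apply hz1
            have : (z : G ⧸ M) = g⁻¹ * (g * z * g⁻¹) * g := by group
            rw [this, e]; group
        obtain ⟨s, hs⟩ := hρ' s₀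
        have hso : orderOf s = 3 := (hS.quotient M).orderOf_lift ρ' (Or.inl rfl) (by rw [hs]; exact a5_s_order)
        have hc : Commute s (z : G ⧸ M) := by
          calc s * (z : G ⧸ M) = s * z * s⁻¹ * s := by group
            _ = z * s := by rw [hcen s]
        have hco : Nat.Coprime (orderOf s) (orderOf (z : G ⧸ M)) := by
          rw [hso, hz']
          norm_num
        rcases (hS.quotient M).eq_one_of_coprime hc hco with e | e
        · rw [e, orderOf_one] at hso
          omega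
        · exact hz1 e
    rcases hp with rfl | rfl | rfl
    · intro x
      have h1 : QuotientGroup.mk' M (x : G) ∈ ρ'.ker := by
        rw [MonoidHom.mem_ker, hρe]
        exact x.2
      obtain ⟨k, hk⟩ := hb ⟨_, h1⟩
      have h2 : QuotientGroup.mk' M ((x : G) ^ 2 ^ k) = 1 := by
        rw [map_pow]
        simpa using congrArg Subtype.val hk
      have h3 : (x : G) ^ 2 ^ k ∈ M := (QuotientGroup.eq_one_iff _).1 h2
      obtain ⟨j, hj⟩ := hMp ⟨_, h3⟩
      refine ⟨k + j, ?_⟩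
      apply Subtype.ext
      have h4 : ((x : G) ^ 2 ^ k) ^ 2 ^ j = 1 := by simpa using congrArg Subtype.val hj
      rw [pow_add, Subgroup.coe_pow, pow_mul]
      exact h4
    · haveI : Fact (Nat.Prime 3) := ⟨Nat.prime_three⟩
      exact (hodd (Or.inl rfl) hMp).elim
    · haveI : Fact (Nat.Prime 5) := ⟨Nat.prime_five⟩
      exact (hodd (Or.inr rfl) hMp).elim

end Cfsg.Agent.Lib.Ord5.Bottom
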