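import Cfsg.Agent.Lib.Ord5.OddNorm
import Cfsg.Agent.Lib.Ord5.Two3
import Cfsg.Agent.S0199

/-!
# Classes of involutions in the simple case
-/

set_option autoImplicit false
set_option linter.style.haveILetI false
set_option linter.unusedSectionVars false

namespace Cfsg.Agent.Lib.Ord5.Classes

open Subgroup Cfsg.Agent.Lib.Ord5.Basic Cfsg.Agent.Lib.Ord5.Fpf Cfsg.Agent.Lib.Ord5.Local
open Cfsg.Agent.Lib.Ord5.Count Cfsg.Agent.Lib.Ord5.OddNorm Cfsg.Agent.Lib.Ord5.Two3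

universe u

variable {G : Type u} [Group G] [Finite G]

/-- Two involutions whose product has odd order are conjugate. -/
theorem conj_of_odd {a b : G} (ha : a * a = 1) (hb : b * b = 1) (h : Odd (orderOf (a * b))) :
    IsConj a b := by
  obtain ⟨m, hm⟩ := h
  set w := a * b with hw
  have hw1 : w ^ (2 * m + 1) = 1 := by rw [← hm]; exact pow_orderOf_eq_one w
  have hai : a⁻¹ = a := inv_eq_of_mul_eq_one_left ha
  have hbi : b⁻¹ = b := inv_eq_of_mul_eq_one_left hb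
  have hconj : a * w * a⁻¹ = w⁻¹ := by
    rw [hw, mul_inv_rev, hai, hbi, ← mul_assoc, ha, one_mul]
  set v := w ^ (m + 1) with hv
  have hvv : v * v = w := by
    calc v * v = w ^ (2 * m + 1) * w := by
          rw [hv, ← pow_add, ← pow_succ]; congr 1; ring
      _ = w := by rw [hw1, one_mul]
  have hav : a * v * a⁻¹ = v⁻¹ := by
    rw [hv, ← conj_pow, hconj, inv_pow]
  rw [isConj_iff]
  refine ⟨v⁻¹, ?_⟩
  have e1 : v⁻¹ * a = a * v := by
    rw [← hav, hai]
    calc a * v * a * a = a * v * (a * a) := by group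
      _ = a * v := by rw [ha, mul_one]
  calc v⁻¹ * a * v⁻¹⁻¹ = a * (v * v) := by rw [inv_inv, e1, mul_assoc]
    _ = a * (a * b) := by rw [hvv, hw]
    _ = b := by rw [← mul_assoc, ha, one_mul]

/-- Involutions in the normalizer of a nontrivial Sylow subgroup for `3` or `5` are conjugate. -/
theorem conj_of_mem_norm (hS : IsO G) {p : ℕ} [hp : Fact p.Prime] (hp3 : p = 3 ∨ p = 5)
    (P : Sylow p G) (hP : (P : Subgroup G) ≠ ⊥) {a b : G} (ha : a * a = 1) (hb : b * b = 1)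
    (ha1 : a ≠ 1) (hb1 : b ≠ 1) (haN : a ∈ normalizer ((P : Subgroup G) : Set G))
    (hbN : b ∈ normalizer ((P : Subgroup G) : Set G)) : IsConj a b := by
  have hM : IsO (NN (P : Subgroup G)) := hS.subgroup _
  have hpne : p ≠ 2 := by rcases hp3 with rfl | rfl <;> norm_num
  obtain ⟨d, hd⟩ := Subgroup.ne_bot_iff_exists_ne_one.1 hP
  have hD' : IsPGroup p (DD (P : Subgroup G)) := P.2.comap_subtype
  let d' : NN (P : Subgroup G) := ⟨d, le_nn _ d.2⟩
  have hd' : d' ∈ DD (P : Subgroup G) := d.2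
  let x : NN (P : Subgroup G) := ⟨a, haN⟩
  let y : NN (P : Subgroup G) := ⟨b, hbN⟩
  have hx' : x * x = 1 := Subtype.ext ha
  have hy' : y * y = 1 := Subtype.ext hb
  have hx1 : x ≠ 1 := fun e => ha1 (congrArg Subtype.val e)
  have hy1 : y ≠ 1 := fun e => hb1 (congrArg Subtype.val e)
  have h1 := inverts hM (DD (P : Subgroup G)) hp.out hpne hD' hx' hx1 hd'
  have h2 := inverts hM (DD (P : Subgroup G)) hp.out hpne hD' hy' hy1 hd'
  have h3 : (x * y) * d' = d' * (x * y) := by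
    have h4 : (x * y) * d' * (x * y)⁻¹ = d' := by
      calc (x * y) * d' * (x * y)⁻¹ = x * (y * d' * y⁻¹) * x⁻¹ := by group
        _ = (x * d' * x⁻¹)⁻¹ := by rw [h2]; group
        _ = d' := by rw [h1]; simp
    calc (x * y) * d' = (x * y) * d' * (x * y)⁻¹ * (x * y) := by group
      _ = d' * (x * y) := by rw [h4]
  have h5 : a * b ∈ (P : Subgroup G) :=
    mem_of_commute hS hp3 P d.2 (fun e => hd (Subtype.ext e)) (congrArg Subtype.val h3)
  obtain ⟨k, hk⟩ := orderOf_mem hp.out P.2 h5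
  apply conj_of_odd ha hb
  rw [hk]
  apply Odd.pow
  rcases hp3 with rfl | rfl <;> decide

/-- A conjugation-invariant version. -/
theorem conj_of_sylow (hS : IsO G) {p : ℕ} [hp : Fact p.Prime] (hp3 : p = 3 ∨ p = 5)
    (P Q : Sylow p G) (hP : (P : Subgroup G) ≠ ⊥) {a b : G} (ha : a * a = 1) (hb : b * b = 1)
    (ha1 : a ≠ 1) (hb1 : b ≠ 1) (haN : a ∈ normalizer ((P : Subgroup G) : Set G))
    (hbN : b ∈ normalizer ((Q : Subgroup G) : Set G)) : IsConj a b := by
  obtain ⟨g, rfl⟩ := MulAction.exists_smul_eq G P Q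
  have h1 : (g⁻¹ * b * g) • P = P := by
    have h2 : b • (g • P) = g • P := Sylow.smul_eq_iff_mem_normalizer.2 hbN
    rw [mul_smul, mul_smul, h2, inv_smul_smul]
  have h3 : g⁻¹ * b * g ∈ normalizer ((P : Subgroup G) : Set G) :=
    Sylow.smul_eq_iff_mem_normalizer.1 h1
  have h4 := conj_of_mem_norm hS hp3 P hP ha (b := g⁻¹ * b * g) (by
    calc g⁻¹ * b * g * (g⁻¹ * b * g) = g⁻¹ * (b * b) * g := by group
      _ = 1 := by rw [hb]; group) ha1 (by
    intro e
    apply hb1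
    have : b = g * (g⁻¹ * b * g) * g⁻¹ := by group
    rw [this, e]; group) haN h3
  refine h4.trans ?_
  rw [isConj_iff]
  exact ⟨g, by group⟩

/-- Baer–Suzuki for involutions. -/
theorem exists_partner (hS : IsO G) (hn2 : ∀ N : Subgroup G, N.Normal → IsPGroup 2 N → N = ⊥) {a : G}
    (ha : a * a = 1) (ha1 : a ≠ 1) :
    ∃ g : G, orderOf (a * (g * a * g⁻¹)) = 3 ∨ orderOf (a * (g * a * g⁻¹)) = 5 := by
  by_contra hcon
  push Not at hcon
  haveI : Fact (Nat.Prime 2) := ⟨Nat.prime_two⟩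
  have hX : IsPGroup 2 (zpowers a) := by
    apply IsPGroup.of_card (n := 1)
    rw [Nat.card_zpowers, orderOf_invol ha ha1, pow_one]
  obtain ⟨N, hNn, hNp, hXN⟩ := Cfsg.Agent.S0199.result (p := 2) (zpowers a) hX (by
    intro g
    have h1 : (g * a * g⁻¹) * (g * a * g⁻¹) = 1 := by
      calc (g * a * g⁻¹) * (g * a * g⁻¹) = g * (a * a) * g⁻¹ := by group
        _ = 1 := by rw [ha]; group
    obtain ⟨h3, h5⟩ := hcon g
    have h2 : ∃ k, orderOf (a * (g * a * g⁻¹)) = 2 ^ k := by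
      rcases hS.cases (a * (g * a * g⁻¹)) with e | e | e | e | e
      · exact ⟨0, by rw [e]; rfl⟩
      · exact ⟨1, by rw [e]; rfl⟩
      · exact absurd e h3
      · exact ⟨2, by rw [e]; rfl⟩
      · exact absurd e h5
    obtain ⟨X, hXp, hXa, hXb⟩ := dihedral_two ha h1 h2
    refine hXp.to_le ?_
    apply sup_le
    · rw [Subgroup.zpowers_le]; exact hXa
    · rw [MonoidHom.map_zpowers, Subgroup.zpowers_le]
      exact hXb)
  have := hn2 N hNn hNp
  rw [this] at hXN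
  have h6 := hXN (mem_zpowers a)
  rw [Subgroup.mem_bot] at h6
  exact ha1 h6

/-- Every involution normalizes a nontrivial Sylow subgroup for `3` or `5`. -/
theorem exists_sylow (hS : IsO G) (hn2 : ∀ N : Subgroup G, N.Normal → IsPGroup 2 N → N = ⊥) {a : G}
    (ha : a * a = 1) (ha1 : a ≠ 1) :
    (∃ P : Sylow 3 G, (P : Subgroup G) ≠ ⊥ ∧ a ∈ normalizer ((P : Subgroup G) : Set G)) ∨
    (∃ P : Sylow 5 G, (P : Subgroup G) ≠ ⊥ ∧ a ∈ normalizer ((P : Subgroup G) : Set G)) := by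
  haveI : Fact (Nat.Prime 3) := ⟨Nat.prime_three⟩
  haveI : Fact (Nat.Prime 5) := ⟨Nat.prime_five⟩
  obtain ⟨g, hg⟩ := exists_partner hS hn2 ha ha1
  have key : ∀ {p : ℕ} [hp : Fact p.Prime], (p = 3 ∨ p = 5) → orderOf (a * (g * a * g⁻¹)) = p →
      ∃ P : Sylow p G, (P : Subgroup G) ≠ ⊥ ∧ a ∈ normalizer ((P : Subgroup G) : Set G) := by
    intro p hp hp3 ho
    set ρ := a * (g * a * g⁻¹) with hρ
    have hρ1 : ρ ≠ 1 := by
      intro e
      rw [e, orderOf_one] at ho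
      exact hp.out.one_lt.ne ho
    have hz : IsPGroup p (zpowers ρ) := by
      apply IsPGroup.of_card (n := 1)
      rw [Nat.card_zpowers, ho, pow_one]
    obtain ⟨P, hP⟩ := hz.exists_le_sylow
    have hρP : ρ ∈ (P : Subgroup G) := hP (mem_zpowers ρ)
    refine ⟨P, ?_, ?_⟩
    · intro hb
      rw [hb, Subgroup.mem_bot] at hρP
      exact hρ1 hρP
    · have hai : a⁻¹ = a := inv_eq_of_mul_eq_one_left ha
      have hinv : a * ρ * a⁻¹ = ρ⁻¹ := by
        rw [hρ, hai]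
        have h1 : (g * a * g⁻¹) * (g * a * g⁻¹) = 1 := by
          calc (g * a * g⁻¹) * (g * a * g⁻¹) = g * (a * a) * g⁻¹ := by group
            _ = 1 := by rw [ha]; group
        rw [mul_inv_rev, hai, inv_eq_of_mul_eq_one_left h1, ← mul_assoc a a, ha, one_mul]
      by_contra hnot
      have hne : a • P ≠ P := fun e => hnot (Sylow.smul_eq_iff_mem_normalizer.1 e)
      have h2 := ti_odd hS hp3 (a • P) P hne
      have h3 : ρ⁻¹ ∈ ((a • P : Sylow p G) : Subgroup G) := by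
        rw [← hinv, Sylow.coe_subgroup_smul]
        exact ⟨ρ, hρP, rfl⟩
      have h4 : ρ⁻¹ ∈ ((a • P : Sylow p G) : Subgroup G) ⊓ P := ⟨h3, P.1.inv_mem hρP⟩
      rw [h2, Subgroup.mem_bot] at h4
      exact hρ1 (inv_eq_one.1 h4)
  rcases hS.cases (a * (g * a * g⁻¹)) with e | e | e | e | e
  · rcases hg with e' | e' <;> omega
  · rcases hg with e' | e' <;> omega
  · exact Or.inl (key (Or.inl rfl) e)
  · rcases hg with e' | e' <;> omega
  · exact Or.inr (key (Or.inr rfl) e)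

/-- At most two classes of involutions. -/
theorem twoCl (hS : IsO G) (hn2 : ∀ N : Subgroup G, N.Normal → IsPGroup 2 N → N = ⊥) : TwoCl G := by
  haveI : Fact (Nat.Prime 3) := ⟨Nat.prime_three⟩
  haveI : Fact (Nat.Prime 5) := ⟨Nat.prime_five⟩
  intro a b c ha hb hc ha1 hb1 hc1
  rcases exists_sylow hS hn2 ha ha1 with ⟨P, hP, haN⟩ | ⟨P, hP, haN⟩ <;>
  rcases exists_sylow hS hn2 hb hb1 with ⟨Q, hQ, hbN⟩ | ⟨Q, hQ, hbN⟩ <;>
  rcases exists_sylow hS hn2 hc hc1 with ⟨R, hR, hcN⟩ | ⟨R, hR, hcN⟩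
  · exact Or.inl (conj_of_sylow hS (Or.inl rfl) P Q hP ha hb ha1 hb1 haN hbN)
  · exact Or.inl (conj_of_sylow hS (Or.inl rfl) P Q hP ha hb ha1 hb1 haN hbN)
  · exact Or.inr (Or.inl (conj_of_sylow hS (Or.inl rfl) P R hP ha hc ha1 hc1 haN hcN))
  · exact Or.inr (Or.inr (conj_of_sylow hS (Or.inr rfl) Q R hQ hb hc hb1 hc1 hbN hcN))
  · exact Or.inr (Or.inr (conj_of_sylow hS (Or.inl rfl) Q R hQ hb hc hb1 hc1 hbN hcN))
  · exact Or.inr (Or.inl (conj_of_sylow hS (Or.inr rfl) P R hP ha hc ha1 hc1 haN hcN))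
  · exact Or.inl (conj_of_sylow hS (Or.inr rfl) P Q hP ha hb ha1 hb1 haN hbN)
  · exact Or.inl (conj_of_sylow hS (Or.inr rfl) P Q hP ha hb ha1 hb1 haN hbN)

end Cfsg.Agent.Lib.Ord5.Classes
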