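import Cfsg.Agent.Lib.Ord5.TICore

/-!
# Counting with free actions
-/

set_option autoImplicit false
set_option linter.style.haveILetI false
set_option linter.unusedSectionVars false

namespace Cfsg.Agent.Lib.Ord5.Count

open Subgroup Cfsg.Agent.Lib.Ord5.Basic Cfsg.Agent.Lib.Ord5.Fpf

universe u

variable {G : Type u} [Group G] [Finite G]

/-- A subgroup acting freely by conjugation on the nonidentity elements of `D`. -/
theorem card_dvd_card_sub_one (K D : Subgroup G) (hK : K ≤ normalizer (D : Set G))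
    (hfree : ∀ k ∈ K, ∀ d ∈ D, k * d = d * k → k = 1 ∨ d = 1) :
    Nat.card K ∣ Nat.card D - 1 := by
  classical
  have hmem : ∀ k ∈ K, ∀ d ∈ D, k * d * k⁻¹ ∈ D := fun k hk d hd =>
    (Subgroup.mem_normalizer_iff.1 (hK hk) d).1 hd
  let act : K → {d : D // d ≠ 1} → {d : D // d ≠ 1} := fun k d =>
    ⟨⟨(k : G) * d.1 * (k : G)⁻¹, hmem k k.2 _ d.1.2⟩, by
      intro h
      have h1 : (k : G) * d.1 * (k : G)⁻¹ = 1 := congrArg Subtype.val h
      apply d.2
      apply Subtype.ext
      have h2 : ((d.1 : D) : G) = (k : G)⁻¹ * ((k : G) * d.1 * (k : G)⁻¹) * k := by group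
      rw [h2, h1]
      simp⟩
  have h := card_dvd_of_free act
    (fun x => Subtype.ext (Subtype.ext (by simp [act])))
    (fun k l x => Subtype.ext (Subtype.ext (by simp [act, mul_assoc])))
    (fun k x hk => by
      have h1 : (k : G) * (x.1 : G) * (k : G)⁻¹ = x.1 :=
        congrArg (fun y : {d : D // d ≠ 1} => ((y.1 : D) : G)) hk
      have h2 : (k : G) * (x.1 : G) = x.1 * k := by
        calc (k : G) * (x.1 : G) = (k : G) * (x.1 : G) * (k : G)⁻¹ * k := by group
          _ = x.1 * k := by rw [h1]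
      rcases hfree k k.2 _ x.1.2 h2 with h3 | h3
      · exact Subtype.ext h3
      · exact absurd (Subtype.ext h3) x.2)
  haveI := Fintype.ofFinite D
  have e : Nat.card {d : D // d ≠ 1} = Nat.card D - 1 := by
    rw [Nat.card_eq_fintype_card, Nat.card_eq_fintype_card, Fintype.card_subtype_compl,
      Fintype.card_subtype_eq]
  rwa [e] at h

variable {p : ℕ} [hp : Fact p.Prime]

/-- The number of Sylow subgroups is `1` modulo the order, for trivial intersections. -/
theorem card_dvd_card_sylow_sub_one (P : Sylow p G)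
    (hTI : ∀ Q : Sylow p G, Q ≠ P → (P : Subgroup G) ⊓ Q = ⊥) :
    Nat.card P ∣ Nat.card (Sylow p G) - 1 := by
  classical
  have hnorm : ∀ x ∈ (P : Subgroup G), x • P = P := fun x hx =>
    Sylow.smul_eq_iff_mem_normalizer.2 (Subgroup.le_normalizer hx)
  let act : P → {Q : Sylow p G // Q ≠ P} → {Q : Sylow p G // Q ≠ P} := fun x Q =>
    ⟨(x : G) • Q.1, by
      intro h
      apply Q.2
      have h1 : (x : G)⁻¹ • ((x : G) • Q.1) = (x : G)⁻¹ • P := by rw [h]
      rw [inv_smul_smul] at h1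
      rw [h1]
      exact hnorm _ (P.1.inv_mem x.2)⟩
  have h := card_dvd_of_free act
    (fun x => Subtype.ext (by simp [act]))
    (fun k l x => Subtype.ext (by simp [act, mul_smul]))
    (fun k x hk => by
      have h1 : (k : G) • x.1 = x.1 := congrArg Subtype.val hk
      have h2 : (k : G) ∈ normalizer ((x.1 : Subgroup G) : Set G) :=
        Sylow.smul_eq_iff_mem_normalizer.1 h1
      -- `k` lies in `x`
      obtain ⟨j, hj⟩ := orderOf_mem hp.out P.2 k.2
      have h3 : IsPGroup p (zpowers (k : G)) := by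
        apply IsPGroup.of_card (n := j)
        rw [Nat.card_zpowers, hj]
      have h4 : zpowers (k : G) ≤ normalizer ((x.1 : Subgroup G) : Set G) :=
        (Subgroup.zpowers_le).2 h2
      have h5 : IsPGroup p ((zpowers (k : G) ⊔ (x.1 : Subgroup G) : Subgroup G)) :=
        h3.to_sup_of_normal_right' x.1.2 h4
      have h6 := x.1.is_maximal' h5 le_sup_right
      have h7 : (k : G) ∈ (x.1 : Subgroup G) := by
        rw [← h6]
        exact (le_sup_left : zpowers (k : G) ≤ _) (mem_zpowers _)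
      have h8 : (k : G) ∈ (P : Subgroup G) ⊓ x.1 := ⟨k.2, h7⟩
      rw [hTI x.1 x.2, Subgroup.mem_bot] at h8
      exact Subtype.ext h8)
  haveI := Fintype.ofFinite (Sylow p G)
  have e : Nat.card {Q : Sylow p G // Q ≠ P} = Nat.card (Sylow p G) - 1 := by
    rw [Nat.card_eq_fintype_card, Nat.card_eq_fintype_card, Fintype.card_subtype_compl,
      Fintype.card_subtype_eq]
  rwa [e] at h

/-- Two involutions whose product has `2`-power order lie in a `2`-subgroup. -/
theorem dihedral_two {a b : G} (ha : a * a = 1) (hb : b * b = 1)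
    (hab : ∃ k, orderOf (a * b) = 2 ^ k) : ∃ X : Subgroup G, IsPGroup 2 X ∧ a ∈ X ∧ b ∈ X := by
  haveI : Fact (Nat.Prime 2) := ⟨Nat.prime_two⟩
  obtain ⟨k, hk⟩ := hab
  have hai : a⁻¹ = a := inv_eq_of_mul_eq_one_left ha
  have hbi : b⁻¹ = b := inv_eq_of_mul_eq_one_left hb
  have h1 : IsPGroup 2 (zpowers (a * b)) := by
    apply IsPGroup.of_card (n := k)
    rw [Nat.card_zpowers, hk]
  have h2 : IsPGroup 2 (zpowers a) := by
    have h3 : orderOf a ∣ 2 ^ 1 := orderOf_dvd_of_pow_eq_one (by rw [pow_one, pow_two]; exact ha)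
    obtain ⟨m, -, hm⟩ := (Nat.dvd_prime_pow Nat.prime_two).1 h3
    apply IsPGroup.of_card (n := m)
    rw [Nat.card_zpowers, hm]
  have hinv : ∀ x ∈ zpowers (a * b), a * x * a⁻¹ ∈ zpowers (a * b) := by
    intro x hx
    obtain ⟨n, rfl⟩ := Subgroup.mem_zpowers_iff.1 hx
    rw [← conj_zpow]
    have e : a * (a * b) * a⁻¹ = (a * b)⁻¹ := by
      rw [mul_inv_rev, hai, hbi, ← mul_assoc, ha, one_mul]
    rw [e]
    exact Subgroup.zpow_mem _ (Subgroup.inv_mem _ (mem_zpowers _)) n
  have h4 : zpowers a ≤ normalizer ((zpowers (a * b) : Subgroup G) : Set G) := by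
    rw [Subgroup.zpowers_le, Subgroup.mem_normalizer_iff]
    intro x
    refine ⟨hinv x, fun hx => ?_⟩
    have := hinv _ hx
    have e : a * (a * x * a⁻¹) * a⁻¹ = x := by
      calc a * (a * x * a⁻¹) * a⁻¹ = (a * a) * x * (a⁻¹ * a⁻¹) := by group
        _ = x := by rw [hai, ha]; simp
    rwa [e] at this
  have h5 := h2.to_sup_of_normal_right' h1 h4
  refine ⟨_, h5, (le_sup_left : zpowers a ≤ _) (mem_zpowers a), ?_⟩
  have e : a * (a * b) = b := by rw [← mul_assoc, ha, one_mul]
  have h6 : a * (a * b) ∈ zpowers a ⊔ zpowers (a * b) :=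
    Subgroup.mul_mem _ ((le_sup_left : zpowers a ≤ _) (mem_zpowers a))
      ((le_sup_right : zpowers (a * b) ≤ _) (mem_zpowers _))
  rwa [e] at h6

end Cfsg.Agent.Lib.Ord5.Count
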