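import Cfsg.Agent.Lib.Ord5.Count
import Cfsg.Agent.Lib.Ord5.Sol3

/-!
# The small quotients `N(D)/D`
-/

set_option autoImplicit false
set_option linter.style.haveILetI false
set_option linter.unusedSectionVars false

namespace Cfsg.Agent.Lib.Ord5.Gamma

open Subgroup Cfsg.Agent.Lib.Ord5.Basic Cfsg.Agent.Lib.Ord5.Fpf Cfsg.Agent.Lib.Ord5.Count

universe u

/-- Hypotheses on the quotient. -/
structure Hyp (Γ : Type u) [Group Γ] [Finite Γ] : Prop where
  isO : IsO Γ
  no2 : ∀ X : Subgroup Γ, X.Normal → IsPGroup 2 X → X = ⊥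
  ti : ∀ X Y : Sylow 2 Γ, X ≠ Y → (X : Subgroup Γ) ⊓ Y = ⊥
  le3 : ∀ R : Subgroup Γ, IsPGroup 3 R → Nat.card R ≤ 3
  le5 : ∀ R : Subgroup Γ, IsPGroup 5 R → Nat.card R ≤ 5
  even : 2 ∣ Nat.card Γ

variable {Γ : Type u} [Group Γ] [Finite Γ]

/-- Every involution inverts an element of order `3` or `5`. -/
theorem Hyp.exists_inverted (h : Hyp Γ) {a : Γ} (ha : a * a = 1) (ha1 : a ≠ 1) :
    ∃ y : Γ, (orderOf y = 3 ∨ orderOf y = 5) ∧ a * y * a⁻¹ * y = 1 := by
  haveI : Fact (Nat.Prime 2) := ⟨Nat.prime_two⟩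
  have hai : a⁻¹ = a := inv_eq_of_mul_eq_one_left ha
  -- a Sylow subgroup containing `a`
  have hXa : IsPGroup 2 (zpowers a) := by
    have h3 : orderOf a ∣ 2 ^ 1 := orderOf_dvd_of_pow_eq_one (by rw [pow_one, pow_two]; exact ha)
    obtain ⟨m, -, hm⟩ := (Nat.dvd_prime_pow Nat.prime_two).1 h3
    apply IsPGroup.of_card (n := m)
    rw [Nat.card_zpowers, hm]
  obtain ⟨T, hT⟩ := hXa.exists_le_sylow
  have haT : a ∈ (T : Subgroup Γ) := hT (mem_zpowers a)
  -- a conjugate outside
  have hout : ∃ g : Γ, g * a * g⁻¹ ∉ (T : Subgroup Γ) := by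
    by_contra hcon
    push Not at hcon
    have hle : normalClosure ({a} : Set Γ) ≤ T := by
      rw [normalClosure, closure_le]
      intro x hx
      obtain ⟨c, hc, hconj⟩ := Group.mem_conjugatesOfSet_iff.1 hx
      have hc' : c = a := hc
      obtain ⟨g, rfl⟩ := isConj_iff.1 hconj
      rw [hc']
      exact hcon g
    have hN := h.no2 (normalClosure ({a} : Set Γ)) inferInstance (T.2.to_le hle)
    have : a ∈ normalClosure ({a} : Set Γ) := subset_normalClosure rfl
    rw [hN, Subgroup.mem_bot] at this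
    exact ha1 this
  obtain ⟨g, hg⟩ := hout
  set b := g * a * g⁻¹ with hb
  have hb2 : b * b = 1 := by
    rw [hb]
    calc g * a * g⁻¹ * (g * a * g⁻¹) = g * (a * a) * g⁻¹ := by group
      _ = 1 := by rw [ha]; group
  have hbi : b⁻¹ = b := inv_eq_of_mul_eq_one_left hb2
  refine ⟨a * b, ?_, ?_⟩
  · -- the order of the product
    by_contra hne
    push Not at hne
    have h2pow : ∃ k, orderOf (a * b) = 2 ^ k := by
      rcases h.isO.cases (a * b) with e | e | e | e | e
      · exact ⟨0, by simpa using e⟩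
      · exact ⟨1, by simpa using e⟩
      · exact absurd e hne.1
      · exact ⟨2, by simpa using e⟩
      · exact absurd e hne.2
    obtain ⟨X, hX, hXa', hXb⟩ := dihedral_two ha hb2 h2pow
    obtain ⟨T', hT'⟩ := hX.exists_le_sylow
    have hTT : T' = T := by
      by_contra hne2
      have := h.ti T' T hne2
      have hmem : a ∈ (T' : Subgroup Γ) ⊓ T := ⟨hT' hXa', haT⟩
      rw [this, Subgroup.mem_bot] at hmem
      exact ha1 hmem
    apply hg
    rw [← hTT]
    exact hT' hXb
  · calc a * (a * b) * a⁻¹ * (a * b) = (a * a) * (b * a⁻¹ * a) * b := by group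
      _ = 1 := by simp [ha, hb2]

/-- The possible shapes of the quotient. -/
theorem Hyp.shape (h : Hyp Γ) (T : Sylow 2 Γ) :
    (Nat.card T = 2 ∧ (Nat.card Γ = 6 ∨ Nat.card Γ = 10) ∧
        normalizer ((T : Subgroup Γ) : Set Γ) = T) ∨
      (Nat.card T = 4 ∧ Nat.card Γ = 20 ∧ normalizer ((T : Subgroup Γ) : Set Γ) = T) ∨
      (Nat.card T = 4 ∧ Nat.card Γ = 60 ∧ Nat.card (normalizer ((T : Subgroup Γ) : Set Γ)) = 12) := by
  haveI : Fact (Nat.Prime 2) := ⟨Nat.prime_two⟩
  haveI : Fact (Nat.Prime 3) := ⟨Nat.prime_three⟩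
  haveI : Fact (Nat.Prime 5) := ⟨Nat.prime_five⟩
  obtain ⟨a, b, c, habc⟩ := h.isO.card_eq
  -- the shape of the order
  have hb : b ≤ 1 := by
    by_contra hb
    have hd : 3 ^ b ∣ Nat.card Γ := by
      rw [habc]
      exact Dvd.dvd.mul_right (Dvd.intro_left _ rfl) _
    obtain ⟨Q, hQ⟩ := Sylow.exists_subgroup_card_pow_prime 3 hd
    have h1 := h.le3 Q (IsPGroup.of_card hQ)
    rw [hQ] at h1
    have : 3 ^ 2 ≤ 3 ^ b := Nat.pow_le_pow_right (by norm_num) (by omega)
    omega
  have hc : c ≤ 1 := by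
    by_contra hc
    have hd : 5 ^ c ∣ Nat.card Γ := by
      rw [habc]
      exact Dvd.intro_left _ rfl
    obtain ⟨Q, hQ⟩ := Sylow.exists_subgroup_card_pow_prime 5 hd
    have h1 := h.le5 Q (IsPGroup.of_card hQ)
    rw [hQ] at h1
    have : 5 ^ 2 ≤ 5 ^ c := Nat.pow_le_pow_right (by norm_num) (by omega)
    omega
  set m := 3 ^ b * 5 ^ c with hm
  have hcard : Nat.card Γ = 2 ^ a * m := by rw [habc, hm, mul_assoc]
  have hmo : Nat.Coprime (2 ^ a) m := by
    apply Nat.Coprime.pow_left
    rw [hm]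
    exact Nat.Coprime.mul_right (Nat.Coprime.pow_right _ (by norm_num))
      (Nat.Coprime.pow_right _ (by norm_num))
  obtain ⟨k, hk⟩ := IsPGroup.iff_card.1 T.2
  have hTi : Nat.card T * (T : Subgroup Γ).index = Nat.card Γ := (T : Subgroup Γ).card_mul_index
  have hm2 : Nat.Coprime 2 m := by
    rw [hm]
    exact Nat.Coprime.mul_right (Nat.Coprime.pow_right _ (by norm_num))
      (Nat.Coprime.pow_right _ (by norm_num))
  have hka : k = a := by
    have h1 : 2 ^ k ∣ 2 ^ a * m := by rw [← hcard, ← hk]; exact Dvd.intro _ hTi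
    have h2 : Nat.Coprime (2 ^ k) m := Nat.Coprime.pow_left _ hm2
    have h3 : 2 ^ k ∣ 2 ^ a := h2.dvd_of_dvd_mul_right h1
    have h6 : 2 ^ a ∣ 2 ^ k := by
      rw [← hk]
      exact T.pow_dvd_card_of_pow_dvd_card (by rw [hcard]; exact Dvd.intro _ rfl)
    have h7 := Nat.pow_dvd_pow_iff_le_right (x := 2) (k := k) (l := a) (by norm_num) |>.1 h3
    have h8 := Nat.pow_dvd_pow_iff_le_right (x := 2) (k := a) (l := k) (by norm_num) |>.1 h6
    omega
  subst hka
  have hidx : (T : Subgroup Γ).index = m := by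
    rw [hk, hcard] at hTi
    exact Nat.eq_of_mul_eq_mul_left (by positivity) hTi
  have ha0 : k ≠ 0 := by
    rintro rfl
    have h1 := h.even
    rw [hcard, pow_zero, one_mul] at h1
    exact absurd (Nat.Coprime.eq_one_of_dvd hm2 h1) (by norm_num)
  set n := Nat.card (Sylow 2 Γ) with hn
  have hnm : n ∣ m := by rw [← hidx]; exact T.card_dvd_index
  have hfree : 2 ^ k ∣ n - 1 := by
    rw [← hk]
    exact card_dvd_card_sylow_sub_one T (fun Q hQ => h.ti T Q hQ.symm)
  have hn1 : n ≠ 1 := by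
    intro e
    haveI : Subsingleton (Sylow 2 Γ) := (Nat.card_eq_one_iff_unique.1 e).1
    have hnt := h.no2 T (Sylow.normal_of_subsingleton T) T.2
    rw [hnt, Subgroup.card_bot] at hk
    have : 2 ≤ 2 ^ k := by
      calc 2 = 2 ^ 1 := rfl
        _ ≤ 2 ^ k := Nat.pow_le_pow_right (by norm_num) (by omega)
    omega
  have hN : n = (normalizer ((T : Subgroup Γ) : Set Γ)).index := T.card_eq_index_normalizer
  have hNc : Nat.card (normalizer ((T : Subgroup Γ) : Set Γ)) * n = Nat.card Γ := by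
    rw [hN]; exact Subgroup.card_mul_index _
  have hTN : (T : Subgroup Γ) ≤ normalizer ((T : Subgroup Γ) : Set Γ) := Subgroup.le_normalizer
  have hnpos : 0 < n := Nat.card_pos
  have hmle : m = 1 ∨ m = 3 ∨ m = 5 ∨ m = 15 := by
    rw [hm]
    interval_cases b <;> interval_cases c <;> simp
  have hncases : n = 3 ∨ n = 5 ∨ n = 15 := by
    rcases hmle with e | e | e | e <;> rw [e] at hnm <;>
      have := Nat.le_of_dvd (by omega) hnm <;> interval_cases n <;> first | omega | simp | (revert hnm; decide)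
  have hNT : Nat.card (normalizer ((T : Subgroup Γ) : Set Γ)) ≤ Nat.card T →
      normalizer ((T : Subgroup Γ) : Set Γ) = T := fun hle =>
    (Subgroup.eq_of_le_of_card_ge hTN hle).symm
  have hkle : k = 1 ∨ (k = 2 ∧ n = 5) := by
    have h4 : ¬ 2 ≤ k ∨ n = 5 := by
      by_cases h2k : 2 ≤ k
      · right
        have h5 : 2 ^ 2 ∣ n - 1 := (pow_dvd_pow 2 h2k).trans hfree
        rcases hncases with e | e | e
        · rw [e] at h5; exact absurd h5 (by decide)
        · exact e
        · rw [e] at h5; exact absurd h5 (by decide)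
      · left; exact h2k
    rcases h4 with h5 | h5
    · left; omega
    · rw [h5] at hfree
      have h6 : 2 ^ k ∣ 2 ^ 2 := hfree
      have h7 := Nat.pow_dvd_pow_iff_le_right (x := 2) (k := k) (l := 2) (by norm_num) |>.1 h6
      by_cases hk1 : k = 1
      · exact Or.inl hk1
      · exact Or.inr ⟨by omega, h5⟩
  rcases hkle with rfl | ⟨rfl, hn5⟩
  · left
    rw [pow_one] at hk
    rcases hmle with e | e | e | e
    · rw [e] at hnm
      exact absurd (Nat.dvd_one.1 hnm) hn1
    · -- `|Γ| = 6`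
      have hn3 : n = 3 := by
        rw [e] at hnm
        rcases hncases with e' | e' | e'
        · exact e'
        · rw [e'] at hnm; exact absurd hnm (by decide)
        · rw [e'] at hnm; exact absurd hnm (by decide)
      have h6 : Nat.card Γ = 6 := by rw [hcard, e]; rfl
      refine ⟨hk, Or.inl h6, hNT ?_⟩
      rw [hn3, h6] at hNc
      rw [hk]
      omega
    · have hn3 : n = 5 := by
        rw [e] at hnm
        rcases hncases with e' | e' | e'
        · rw [e'] at hnm; exact absurd hnm (by decide)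
        · exact e'
        · rw [e'] at hnm; exact absurd hnm (by decide)
      have h6 : Nat.card Γ = 10 := by rw [hcard, e]; rfl
      refine ⟨hk, Or.inr h6, hNT ?_⟩
      rw [hn3, h6] at hNc
      rw [hk]
      omega
    · -- order `30`
      exfalso
      have h6 : Nat.card Γ = 30 := by rw [hcard, e]; rfl
      have hsq : Squarefree (Nat.card Γ) := by rw [h6]; decide +kernel
      haveI : IsZGroup Γ := IsZGroup.of_squarefree hsq
      haveI : Group.IsSolvable Γ := inferInstance
      exact Cfsg.Agent.Lib.Ord5.Sol3.not_three_primes h.isO (by rw [h6]; decide) (by rw [h6]; decide)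
        (by rw [h6]; decide)
  · right
    have hk4 : Nat.card T = 4 := by rw [hk]; rfl
    rcases hmle with e | e | e | e
    · rw [e] at hnm
      exact absurd (Nat.dvd_one.1 hnm) hn1
    · rw [e, hn5] at hnm
      exact absurd hnm (by decide)
    · left
      have h6 : Nat.card Γ = 20 := by rw [hcard, e]; rfl
      refine ⟨hk4, h6, hNT ?_⟩
      rw [hn5, h6] at hNc
      rw [hk4]
      omega
    · right
      have h6 : Nat.card Γ = 60 := by rw [hcard, e]; rfl
      refine ⟨hk4, h6, ?_⟩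
      rw [hn5, h6] at hNc
      omega

end Cfsg.Agent.Lib.Ord5.Gamma
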