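import Cfsg.Agent.Lib.Ord5.TICore
import Cfsg.Agent.Lib.WBound.Basic

/-!
# Maximal intersections of distinct Sylow subgroups
-/

set_option autoImplicit false
set_option linter.style.haveILetI false
set_option linter.unusedSectionVars false

namespace Cfsg.Agent.Lib.Ord5.Local

open Subgroup Cfsg.Agent.Lib.Ord5.Basic Cfsg.Agent.Lib.Ord5.Fpf Cfsg.Agent.Lib.Ord5.TICore

universe u

variable {G : Type u} [Group G] [Finite G] {p : ℕ} [hp : Fact p.Prime]

/-- The maximal intersection configuration. -/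
structure Cfg (D : Subgroup G) (P Q : Sylow p G) : Prop where
  ne : P ≠ Q
  eq : D = (P : Subgroup G) ⊓ Q
  nt : D ≠ ⊥
  max : ∀ R R' : Sylow p G, R ≠ R' → D ≤ R → D ≤ R' → (R : Subgroup G) ⊓ R' = D

theorem exists_cfg (h : ∃ P Q : Sylow p G, P ≠ Q ∧ (P : Subgroup G) ⊓ Q ≠ ⊥) :
    ∃ (D : Subgroup G) (P Q : Sylow p G), Cfg D P Q := by
  classical
  obtain ⟨P₀, Q₀, hne, hnt⟩ := h
  let X := {x : Sylow p G × Sylow p G // x.1 ≠ x.2}
  haveI : Nonempty X := ⟨⟨(P₀, Q₀), hne⟩⟩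
  obtain ⟨x, hx⟩ := Finite.exists_max
    (fun x : X => Nat.card ↥((x.1.1 : Subgroup G) ⊓ (x.1.2 : Subgroup G)))
  refine ⟨_, x.1.1, x.1.2, ⟨x.2, rfl, ?_, ?_⟩⟩
  · intro hb
    have h1 := hx ⟨(P₀, Q₀), hne⟩
    simp only at h1
    rw [hb, Subgroup.card_bot] at h1
    have h2 : Nat.card ↥((P₀ : Subgroup G) ⊓ (Q₀ : Subgroup G)) ≠ 1 :=
      fun h => hnt (Subgroup.eq_bot_of_card_eq _ h)
    have h3 : 0 < Nat.card ↥((P₀ : Subgroup G) ⊓ (Q₀ : Subgroup G)) := Nat.card_pos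
    omega
  · intro R R' hne hR hR'
    have h1 := hx ⟨(R, R'), hne⟩
    exact (Subgroup.eq_of_le_of_card_ge (le_inf hR hR') h1).symm

namespace Cfg

variable {D : Subgroup G} {P Q : Sylow p G}

theorem symm (h : Cfg D P Q) : Cfg D Q P :=
  ⟨h.ne.symm, by rw [h.eq, inf_comm], h.nt, h.max⟩

theorem le_left (h : Cfg D P Q) : D ≤ P := by rw [h.eq]; exact inf_le_left

theorem le_right (h : Cfg D P Q) : D ≤ Q := by rw [h.eq]; exact inf_le_right

theorem isP (h : Cfg D P Q) : IsPGroup p D := P.2.to_le h.le_left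

theorem uniq (h : Cfg D P Q) {R R' : Sylow p G} (hR : D ≤ R) (hR' : D ≤ R') {x : G} (hx : x ∈ R)
    (hx' : x ∈ R') (hxD : x ∉ D) : R = R' := by
  by_contra hne
  have := h.max R R' hne hR hR'
  exact hxD (this ▸ ⟨hx, hx'⟩)

theorem lt_left (h : Cfg D P Q) : D < P := by
  refine lt_of_le_of_ne h.le_left ?_
  intro e
  have h1 : (P : Subgroup G) ≤ Q := e ▸ h.le_right
  apply h.ne
  have h2 := P.is_maximal' Q.2 h1
  exact Sylow.ext h2.symm

theorem exists_mem (h : Cfg D P Q) :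
    ∃ x ∈ (P : Subgroup G), x ∉ D ∧ x ∈ normalizer (D : Set G) :=
  Cfsg.Agent.Lib.WBound.exists_mem_normalizer P.2 h.lt_left

end Cfg

/-- The normalizer. -/
abbrev NN (D : Subgroup G) : Subgroup G := normalizer (D : Set G)

/-- `D` in its normalizer. -/
abbrev DD (D : Subgroup G) : Subgroup (NN D) := D.subgroupOf (NN D)

/-- The quotient. -/
abbrev QQ (D : Subgroup G) : Type u := ↥(NN D) ⧸ DD D

/-- The projection. -/
abbrev pi (D : Subgroup G) : NN D →* QQ D := QuotientGroup.mk' (DD D)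

theorem pi_surj (D : Subgroup G) : Function.Surjective (pi D) := QuotientGroup.mk'_surjective _

theorem le_nn (D : Subgroup G) : D ≤ NN D := Subgroup.le_normalizer

theorem pi_eq_one_iff {D : Subgroup G} {x : NN D} : pi D x = 1 ↔ (x : G) ∈ D :=
  QuotientGroup.eq_one_iff x

theorem pi_mem (D : Subgroup G) {d : G} (hd : d ∈ D) : pi D ⟨d, le_nn D hd⟩ = 1 :=
  pi_eq_one_iff.2 hd

theorem ker_isP {D : Subgroup G} (hD : IsPGroup p D) : IsPGroup p (pi D).ker := by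
  rw [QuotientGroup.ker_mk']
  exact hD.comap_subtype

theorem comap_isP {D : Subgroup G} (hD : IsPGroup p D) {X : Subgroup (QQ D)} (hX : IsPGroup p X) :
    IsPGroup p (X.comap (pi D)) := hX.comap_of_ker_isPGroup _ (ker_isP hD)

namespace Cfg

variable {D : Subgroup G} {P Q : Sylow p G}

/-- Normal `p`-subgroups of the normalizer lie in `P`. -/
theorem normal_le (h : Cfg D P Q) (X : Subgroup (NN D)) (hXn : X.Normal) (hX : IsPGroup p X)
    {x : NN D} (hx : x ∈ X) : (x : G) ∈ (P : Subgroup G) := by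
  haveI := hXn
  let Y : Subgroup (NN D) := X ⊔ (P : Subgroup G).subgroupOf (NN D)
  have hY : IsPGroup p Y := hX.to_sup_of_normal_left P.2.comap_subtype
  obtain ⟨R, hR⟩ := (hY.map (NN D).subtype).exists_le_sylow
  obtain ⟨z, hzP, hzD, hzM⟩ := h.exists_mem
  have hmem : ∀ y : NN D, (y : G) ∈ (P : Subgroup G) → (y : G) ∈ (R : Subgroup G) := by
    intro y hy
    apply hR
    exact ⟨y, (le_sup_right : _ ≤ Y) hy, rfl⟩
  have hDR : D ≤ R := fun d hd => hmem ⟨d, le_nn D hd⟩ (h.le_left hd)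
  have hRP : R = P := h.uniq hDR h.le_left (hmem ⟨z, hzM⟩ hzP) hzP hzD
  have : (x : G) ∈ (R : Subgroup G) := hR ⟨x, (le_sup_left : _ ≤ Y) hx, rfl⟩
  rwa [hRP] at this

/-- No nontrivial normal `p`-subgroups in the quotient. -/
theorem quot_normal (h : Cfg D P Q) (X : Subgroup (QQ D)) (hXn : X.Normal) (hX : IsPGroup p X) :
    X = ⊥ := by
  rw [eq_bot_iff]
  intro x hx
  obtain ⟨y, rfl⟩ := pi_surj D x
  have hy : y ∈ X.comap (pi D) := hx
  have hn : (X.comap (pi D)).Normal := hXn.comap _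
  have hp' := comap_isP h.isP hX
  have h1 := h.normal_le _ hn hp' hy
  have h2 := h.symm.normal_le _ hn hp' hy
  have h3 : (y : G) ∈ D := h.eq.symm.le ⟨h1, h2⟩
  rw [Subgroup.mem_bot]
  exact pi_eq_one_iff.2 h3

theorem exists_ne (h : Cfg D P Q) : ∃ x : NN D, (x : G) ∈ (P : Subgroup G) ∧ pi D x ≠ 1 := by
  obtain ⟨z, hzP, hzD, hzM⟩ := h.exists_mem
  exact ⟨⟨z, hzM⟩, hzP, fun h1 => hzD (pi_eq_one_iff.1 h1)⟩

/-- The image of `P` in the quotient is a Sylow subgroup. -/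
def sylowImage (h : Cfg D P Q) : Sylow p (QQ D) where
  toSubgroup := ((P : Subgroup G).subgroupOf (NN D)).map (pi D)
  isPGroup' := P.2.comap_subtype.map _
  is_maximal' := by
    intro U hU hle
    have hA := comap_isP h.isP hU
    obtain ⟨R, hR⟩ := (hA.map (NN D).subtype).exists_le_sylow
    have hmem : ∀ y : NN D, (y : G) ∈ (P : Subgroup G) → (y : G) ∈ (R : Subgroup G) := by
      intro y hy
      apply hR
      refine ⟨y, ?_, rfl⟩
      exact hle ⟨y, hy, rfl⟩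
    obtain ⟨z, hzP, hzD, hzM⟩ := h.exists_mem
    have hDR : D ≤ R := fun d hd => hmem ⟨d, le_nn D hd⟩ (h.le_left hd)
    have hRP : R = P := h.uniq hDR h.le_left (hmem ⟨z, hzM⟩ hzP) hzP hzD
    refine le_antisymm ?_ hle
    intro u hu
    obtain ⟨y, rfl⟩ := pi_surj D u
    have hy : y ∈ U.comap (pi D) := hu
    have hyR : (y : G) ∈ (R : Subgroup G) := hR ⟨y, hy, rfl⟩
    rw [hRP] at hyR
    exact ⟨y, hyR, rfl⟩

theorem coe_sylowImage (h : Cfg D P Q) :
    (h.sylowImage : Subgroup (QQ D)) = ((P : Subgroup G).subgroupOf (NN D)).map (pi D) := rfl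

theorem dvd_card (h : Cfg D P Q) : p ∣ Nat.card (QQ D) := by
  obtain ⟨x, hxP, hx⟩ := h.exists_ne
  have hm : pi D x ∈ (h.sylowImage : Subgroup (QQ D)) := ⟨x, hxP, rfl⟩
  obtain ⟨k, hk⟩ := orderOf_mem hp.out h.sylowImage.2 hm
  have hk0 : k ≠ 0 := by
    rintro rfl
    rw [pow_zero] at hk
    exact hx (orderOf_eq_one_iff.1 hk)
  have h1 : p ∣ orderOf (pi D x) := by rw [hk]; exact dvd_pow_self p hk0
  exact h1.trans (orderOf_dvd_natCard _)

/-- Distinct Sylow subgroups of the quotient meet trivially. -/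
theorem quot_ti (h : Cfg D P Q) (X Y : Sylow p (QQ D)) (hne : X ≠ Y) :
    (X : Subgroup (QQ D)) ⊓ Y = ⊥ := by
  by_contra hb
  obtain ⟨z, hz⟩ := Subgroup.ne_bot_iff_exists_ne_one.1 hb
  obtain ⟨y, hy⟩ := pi_surj D (z : QQ D)
  have hA := comap_isP h.isP X.2
  have hB := comap_isP h.isP Y.2
  obtain ⟨R, hR⟩ := (hA.map (NN D).subtype).exists_le_sylow
  obtain ⟨R', hR'⟩ := (hB.map (NN D).subtype).exists_le_sylow
  have hDR : D ≤ R := fun d hd =>
    hR ⟨⟨d, le_nn D hd⟩, by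
      change pi D ⟨d, le_nn D hd⟩ ∈ (X : Subgroup (QQ D))
      rw [pi_mem D hd]; exact Subgroup.one_mem _, rfl⟩
  have hDR' : D ≤ R' := fun d hd =>
    hR' ⟨⟨d, le_nn D hd⟩, by
      change pi D ⟨d, le_nn D hd⟩ ∈ (Y : Subgroup (QQ D))
      rw [pi_mem D hd]; exact Subgroup.one_mem _, rfl⟩
  have hyR : (y : G) ∈ (R : Subgroup G) := hR ⟨y, by
    change pi D y ∈ (X : Subgroup (QQ D))
    rw [hy]; exact z.2.1, rfl⟩
  have hyR' : (y : G) ∈ (R' : Subgroup G) := hR' ⟨y, by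
    change pi D y ∈ (Y : Subgroup (QQ D))
    rw [hy]; exact z.2.2, rfl⟩
  have hyD : (y : G) ∉ D := by
    intro h1
    apply hz
    apply Subtype.ext
    rw [← hy]
    exact pi_eq_one_iff.2 h1
  have hRR := h.uniq hDR hDR' hyR hyR' hyD
  subst hRR
  let W : Subgroup (QQ D) := ((R : Subgroup G).subgroupOf (NN D)).map (pi D)
  have hW : IsPGroup p W := R.2.comap_subtype.map _
  have hXW : (X : Subgroup (QQ D)) ≤ W := by
    intro u hu
    obtain ⟨a, rfl⟩ := pi_surj D u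
    exact ⟨a, hR ⟨a, hu, rfl⟩, rfl⟩
  have hYW : (Y : Subgroup (QQ D)) ≤ W := by
    intro u hu
    obtain ⟨a, rfl⟩ := pi_surj D u
    exact ⟨a, hR' ⟨a, hu, rfl⟩, rfl⟩
  have e1 := X.is_maximal' hW hXW
  have e2 := Y.is_maximal' hW hYW
  exact hne (Sylow.ext (e1.symm.trans e2))

end Cfg

/-- **Distinct Sylow `3`- and `5`-subgroups meet trivially.** -/
theorem ti_odd (hS : IsO G) (hp3 : p = 3 ∨ p = 5) (P Q : Sylow p G) (hne : P ≠ Q) :
    (P : Subgroup G) ⊓ Q = ⊥ := by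
  by_contra hb
  obtain ⟨D, P', Q', h⟩ := exists_cfg (p := p) (G := G) ⟨P, Q, hne, hb⟩
  have hM : IsO (NN D) := hS.subgroup _
  have hΓ : IsO (QQ D) := hM.quotient _
  obtain ⟨r, hpr⟩ : ∃ r, (p = 3 ∧ r = 5) ∨ (p = 5 ∧ r = 3) := by
    rcases hp3 with rfl | rfl
    · exact ⟨5, Or.inl ⟨rfl, rfl⟩⟩
    · exact ⟨3, Or.inr ⟨rfl, rfl⟩⟩
  have hrp : r.Prime := by rcases hpr with ⟨rfl, rfl⟩ | ⟨rfl, rfl⟩ <;> norm_num
  have hr : r = 3 ∨ r = 5 := by rcases hpr with ⟨-, rfl⟩ | ⟨-, rfl⟩ <;> simp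
  have hpr' : p ≠ r := by rcases hpr with ⟨rfl, rfl⟩ | ⟨rfl, rfl⟩ <;> norm_num
  have hD' : IsPGroup p (DD D) := h.isP.comap_subtype
  have hD1 : DD D ≠ ⊥ := by
    obtain ⟨d, hd⟩ := Subgroup.ne_bot_iff_exists_ne_one.1 h.nt
    intro hb
    have : (⟨d, le_nn D d.2⟩ : NN D) ∈ DD D := d.2
    rw [hb, Subgroup.mem_bot] at this
    have h5 : (d : G) = 1 := by simpa using congrArg Subtype.val this
    exact hd (Subtype.ext h5)
  refine ti_core hΓ hpr h.dvd_card h.quot_normal ?_ ?_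
  · intro Rb hRb
    obtain ⟨R, hR, hRm, -⟩ := exists_lift (pi D) (pi_surj D) hp.out hrp hpr' (ker_isP h.isP) Rb hRb
    have h1 := card_le_of_rgroup hM (DD D) hp.out hr hpr' hD' hD1 R hR
    rw [← hRm]
    exact (Nat.le_of_dvd Nat.card_pos (Subgroup.card_map_dvd R (pi D))).trans h1
  · intro a b ha hb ha1 hb1 hc
    have hne2 : p ≠ 2 := by rcases hp3 with rfl | rfl <;> norm_num
    obtain ⟨R, hR, hRm, hinj⟩ := exists_lift (pi D) (pi_surj D) hp.out Nat.prime_two hne2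
      (ker_isP h.isP) (vFour a b ha hb hc) (isPGroup_vFour a b ha hb hc)
    have h1 : a ∈ R.map (pi D) := by rw [hRm]; exact mem_vFour_left a b ha hb hc
    have h2 : b ∈ R.map (pi D) := by rw [hRm]; exact mem_vFour_right a b ha hb hc
    obtain ⟨a', ha', rfl⟩ := h1
    obtain ⟨b', hb', rfl⟩ := h2
    have e1 : a' * a' = 1 := hinj _ (R.mul_mem ha' ha') (by rw [map_mul]; exact ha)
    have e2 : b' * b' = 1 := hinj _ (R.mul_mem hb' hb') (by rw [map_mul]; exact hb)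
    have e3 : a' ≠ 1 := fun e => ha1 (by rw [e, map_one])
    have e4 : b' ≠ 1 := fun e => hb1 (by rw [e, map_one])
    have e5 := orderOf_mem Nat.prime_two hR (R.mul_mem ha' hb')
    rw [unique_invol hM (DD D) hp3 hD' hD1 e1 e2 e3 e4 e5]

end Cfsg.Agent.Lib.Ord5.Local
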