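import Cfsg.Agent.Lib.Ord5.Two1
import Cfsg.Agent.S0016

/-!
# Normalizers of Sylow `3`- and `5`-subgroups
-/

set_option autoImplicit false
set_option linter.style.haveILetI false
set_option linter.unusedSectionVars false

namespace Cfsg.Agent.Lib.Ord5.OddNorm

open Subgroup Cfsg.Agent.Lib.Ord5.Basic Cfsg.Agent.Lib.Ord5.Fpf Cfsg.Agent.Lib.Ord5.Local
open Cfsg.Agent.Lib.Ord5.Count

universe u

variable {G : Type u} [Group G] [Finite G] {p : ℕ} [hp : Fact p.Prime]

/-- A lift of an involution of the quotient by an odd `p`-group is an involution. -/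
theorem invol_of_sq_mem (hS : IsO G) (hp3 : p = 3 ∨ p = 5) {P : Subgroup G} (hP : IsPGroup p P)
    {x : G} (hx : x ∉ P) (hx2 : x * x ∈ P) : x * x = 1 := by
  obtain ⟨k, hk⟩ := orderOf_mem hp.out hP hx2
  have hx22 : x * x = x ^ 2 := (pow_two x).symm
  rcases hS.cases x with h | h | h | h | h
  · exact absurd (by rw [orderOf_eq_one_iff.1 h]; exact P.one_mem) hx
  · rw [hx22, ← h]; exact pow_orderOf_eq_one x
  · exfalso
    apply hx
    have h3 : x ^ 3 = 1 := by rw [← h]; exact pow_orderOf_eq_one x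
    have e : x = (x * x) * (x * x) := by
      calc x = x ^ 3 * x := by rw [h3, one_mul]
        _ = (x * x) * (x * x) := by simp only [pow_succ, pow_zero, one_mul, mul_assoc]
    rw [e]
    exact P.mul_mem hx2 hx2
  · exfalso
    have h4 : x ^ 4 = 1 := by rw [← h]; exact pow_orderOf_eq_one x
    have h1 : x * x ≠ 1 := by
      intro e
      have : orderOf x ∣ 2 := orderOf_dvd_of_pow_eq_one (by rw [← hx22]; exact e)
      rw [h] at this
      omega
    have h2 : (x * x) * (x * x) = 1 := by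
      rw [← h4]; simp only [pow_succ, pow_zero, one_mul, mul_assoc]
    have h3 := orderOf_invol h2 h1
    rw [hk] at h3
    rcases k with _ | k
    · simp at h3
    · have : p ∣ 2 := by rw [← h3]; exact dvd_pow_self p (by omega)
      have := Nat.le_of_dvd (by norm_num) this
      rcases hp3 with rfl | rfl <;> omega
  · exfalso
    apply hx
    have h5 : x ^ 5 = 1 := by rw [← h]; exact pow_orderOf_eq_one x
    have e : x = (x * x) * (x * x) * (x * x) := by
      calc x = x ^ 5 * x := by rw [h5, one_mul]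
        _ = (x * x) * (x * x) * (x * x) := by simp only [pow_succ, pow_zero, one_mul, mul_assoc]
    rw [e]
    exact P.mul_mem (P.mul_mem hx2 hx2) hx2

/-- Elements commuting with a nontrivial element of `P` lie in `P`. -/
theorem mem_of_commute (hS : IsO G) (hp3 : p = 3 ∨ p = 5) (P : Sylow p G) {x y : G}
    (hx : x ∈ (P : Subgroup G)) (hx1 : x ≠ 1) (hc : y * x = x * y) : y ∈ (P : Subgroup G) := by
  obtain ⟨j, hj⟩ := orderOf_mem hp.out P.2 hx
  have hC := hS.isPGroup_centralizer (p := p) (by rcases hp3 with rfl | rfl <;> simp) hj hx1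
  obtain ⟨Q, hQ⟩ := hC.exists_le_sylow
  have hxC : x ∈ centralizer ({x} : Set G) := by
    rw [Subgroup.mem_centralizer_singleton_iff]
  have hyC : y ∈ centralizer ({x} : Set G) := by
    rw [Subgroup.mem_centralizer_singleton_iff]
    exact hc
  by_cases he : P = Q
  · rw [he]
    exact hQ hyC
  · have h1 := ti_odd hS hp3 P Q he
    have h2 : x ∈ (P : Subgroup G) ⊓ Q := ⟨hx, hQ hxC⟩
    rw [h1, Subgroup.mem_bot] at h2
    exact absurd h2 hx1

section Quot

variable (hS : IsO G) (hp3 : p = 3 ∨ p = 5) (P : Sylow p G) (hP : (P : Subgroup G) ≠ ⊥)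

include hS hp3 P hP

/-- The quotient has at most one involution. -/
theorem involution_unique {a b : QQ (P : Subgroup G)} (ha : a * a = 1) (hb : b * b = 1)
    (ha1 : a ≠ 1) (hb1 : b ≠ 1) : a = b := by
  obtain ⟨x, rfl⟩ := pi_surj _ a
  obtain ⟨y, rfl⟩ := pi_surj _ b
  have hM : IsO (NN (P : Subgroup G)) := hS.subgroup _
  have hpne : p ≠ 2 := by rcases hp3 with rfl | rfl <;> norm_num
  have hxP : (x : G) ∉ (P : Subgroup G) := fun e => ha1 (pi_eq_one_iff.2 e)
  have hyP : (y : G) ∉ (P : Subgroup G) := fun e => hb1 (pi_eq_one_iff.2 e)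
  have hx2 : (x : G) * x ∈ (P : Subgroup G) := by
    have : pi (P : Subgroup G) (x * x) = 1 := by rw [map_mul]; exact ha
    exact pi_eq_one_iff.1 this
  have hy2 : (y : G) * y ∈ (P : Subgroup G) := by
    have : pi (P : Subgroup G) (y * y) = 1 := by rw [map_mul]; exact hb
    exact pi_eq_one_iff.1 this
  have hx' : x * x = 1 := Subtype.ext (invol_of_sq_mem hS hp3 P.2 hxP hx2)
  have hy' : y * y = 1 := Subtype.ext (invol_of_sq_mem hS hp3 P.2 hyP hy2)
  have hx1 : x ≠ 1 := by
    rintro rfl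
    exact ha1 (map_one _)
  have hy1 : y ≠ 1 := by
    rintro rfl
    exact hb1 (map_one _)
  obtain ⟨d, hd⟩ := Subgroup.ne_bot_iff_exists_ne_one.1 hP
  have hD' : IsPGroup p (DD (P : Subgroup G)) := P.2.comap_subtype
  let d' : NN (P : Subgroup G) := ⟨d, le_nn _ d.2⟩
  have hd' : d' ∈ DD (P : Subgroup G) := d.2
  have h1 := inverts hM (DD (P : Subgroup G)) hp.out hpne hD' hx' hx1 hd'
  have h2 := inverts hM (DD (P : Subgroup G)) hp.out hpne hD' hy' hy1 hd'
  have h3 : (x * y) * d' = d' * (x * y) := by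
    have h4 : (x * y) * d' * (x * y)⁻¹ = d' := by
      calc (x * y) * d' * (x * y)⁻¹ = x * (y * d' * y⁻¹) * x⁻¹ := by group
        _ = (x * d' * x⁻¹)⁻¹ := by rw [h2]; group
        _ = d' := by rw [h1]; simp
    calc (x * y) * d' = (x * y) * d' * (x * y)⁻¹ * (x * y) := by group
      _ = d' * (x * y) := by rw [h4]
  have h5 : ((x * y : NN (P : Subgroup G)) : G) ∈ (P : Subgroup G) :=
    mem_of_commute hS hp3 P d.2 (fun e => hd (Subtype.ext e)) (congrArg Subtype.val h3)
  have h6 : pi (P : Subgroup G) x * pi (P : Subgroup G) y = 1 := by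
    rw [← map_mul]; exact pi_eq_one_iff.2 h5
  have h7 := eq_inv_of_mul_eq_one_left h6
  rw [h7, inv_eq_of_mul_eq_one_left hb]

omit hS hp3 hP in
/-- The order of the normalizer. -/
theorem card_nn : Nat.card (NN (P : Subgroup G)) =
    Nat.card (QQ (P : Subgroup G)) * Nat.card P := by
  have h1 := Subgroup.card_eq_card_quotient_mul_card_subgroup (DD (P : Subgroup G))
  have h2 : Nat.card (DD (P : Subgroup G)) = Nat.card P :=
    Nat.card_congr (Subgroup.subgroupOfEquivOfLe (le_nn _)).toEquiv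
  rw [h2] at h1
  exact h1

omit hS hp3 hP in
/-- The index is not divisible by `p`. -/
theorem not_dvd : ¬ p ∣ Nat.card (QQ (P : Subgroup G)) := by
  intro hd
  have h1 : Nat.card (NN (P : Subgroup G)) * (NN (P : Subgroup G)).index = Nat.card G :=
    Subgroup.card_mul_index _
  have h2 : Nat.card P * (P : Subgroup G).index = Nat.card G := Subgroup.card_mul_index _
  rw [card_nn, ← h2, mul_comm (Nat.card (QQ (P : Subgroup G))), mul_assoc] at h1
  have h3 := Nat.eq_of_mul_eq_mul_left Nat.card_pos h1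
  have h4 : p ∣ (P : Subgroup G).index := by
    rw [← h3]
    exact Dvd.dvd.mul_right hd _
  exact P.not_dvd_index h4

/-- The structure of the quotient. -/
theorem cases {r : ℕ} (hpr : (p = 3 ∧ r = 5) ∨ (p = 5 ∧ r = 3)) :
    ∃ q : ℕ, q.Prime ∧ q ≠ p ∧ IsPGroup q (QQ (P : Subgroup G)) ∧
      (Nat.card (QQ (P : Subgroup G)) = 1 ∨ Nat.card (QQ (P : Subgroup G)) = 2 ∨
        Nat.card (QQ (P : Subgroup G)) = 4 ∨ Nat.card (QQ (P : Subgroup G)) = 8 ∨
        Nat.card (QQ (P : Subgroup G)) = r) := by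
  classical
  have hΓ : IsO (QQ (P : Subgroup G)) := (hS.subgroup _).quotient _
  have hrp : r.Prime := by rcases hpr with ⟨rfl, rfl⟩ | ⟨rfl, rfl⟩ <;> norm_num
  have hr : r = 3 ∨ r = 5 := by rcases hpr with ⟨-, rfl⟩ | ⟨-, rfl⟩ <;> simp
  have hpr' : p ≠ r := by rcases hpr with ⟨rfl, rfl⟩ | ⟨rfl, rfl⟩ <;> norm_num
  have hnd := not_dvd P
  obtain ⟨a, b, c, hcard⟩ := hΓ.card_eq
  -- the order is a power of `2` times a power of `r`
  obtain ⟨j, hcard'⟩ : ∃ j, Nat.card (QQ (P : Subgroup G)) = 2 ^ a * r ^ j := by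
    rcases hpr with ⟨rfl, rfl⟩ | ⟨rfl, rfl⟩
    · have hb : b = 0 := by
        by_contra hb
        apply hnd
        rw [hcard]
        exact Dvd.dvd.mul_right (Dvd.dvd.mul_left (dvd_pow_self 3 hb) _) _
      exact ⟨c, by rw [hcard, hb]; simp⟩
    · have hc : c = 0 := by
        by_contra hc
        apply hnd
        rw [hcard]
        exact Dvd.dvd.mul_left (dvd_pow_self 5 hc) _
      exact ⟨b, by rw [hcard, hc]; simp⟩
  by_cases h2 : 2 ∣ Nat.card (QQ (P : Subgroup G))
  · haveI : Fact (Nat.Prime 2) := ⟨Nat.prime_two⟩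
    haveI : Fact r.Prime := ⟨hrp⟩
    obtain ⟨u, hu⟩ := exists_prime_orderOf_dvd_card' 2 h2
    have hu2 : u * u = 1 := by rw [← pow_two, ← hu]; exact pow_orderOf_eq_one u
    have hu1 : u ≠ 1 := by
      rintro rfl
      rw [orderOf_one] at hu
      omega
    have hr' : ¬ r ∣ Nat.card (QQ (P : Subgroup G)) := by
      intro hd
      obtain ⟨y, hy⟩ := exists_prime_orderOf_dvd_card' r hd
      have e1 : (y * u * y⁻¹) * (y * u * y⁻¹) = 1 := by
        calc (y * u * y⁻¹) * (y * u * y⁻¹) = y * (u * u) * y⁻¹ := by group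
          _ = 1 := by rw [hu2]; group
      have e2 : y * u * y⁻¹ ≠ 1 := by
        intro e
        apply hu1
        have : u = y⁻¹ * (y * u * y⁻¹) * y := by group
        rw [this, e]; group
      have e3 := involution_unique hS hp3 P hP e1 hu2 e2 hu1
      have e4 : Commute y u := by
        calc y * u = y * u * y⁻¹ * y := by group
          _ = u * y := by rw [e3]
      have hco : Nat.Coprime (orderOf y) (orderOf u) := by
        rw [hy, hu, Nat.coprime_comm]
        rcases hr with rfl | rfl <;> norm_num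
      rcases hΓ.eq_one_of_coprime e4 hco with e5 | e5
      · rw [e5, orderOf_one] at hy
        exact hrp.one_lt.ne hy
      · exact hu1 e5
    have hj : j = 0 := by
      by_contra hj
      apply hr'
      rw [hcard']
      exact Dvd.dvd.mul_left (dvd_pow_self r hj) _
    rw [hj, pow_zero, mul_one] at hcard'
    have hG2 : IsPGroup 2 (QQ (P : Subgroup G)) := IsPGroup.of_card hcard'
    refine ⟨2, Nat.prime_two, ?_, hG2, ?_⟩
    · rcases hp3 with rfl | rfl <;> norm_num
    have hmem : ∀ H : Subgroup (QQ (P : Subgroup G)), Nat.card H = 2 →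
        ∀ y, y ∈ H ↔ (y = 1 ∨ y = u) := by
      intro H hH
      haveI := Fintype.ofFinite H
      obtain ⟨w, hw, hwu⟩ := (Nat.card_eq_two_iff' (1 : H)).1 hH
      have hw1 : (w : QQ (P : Subgroup G)) ≠ 1 := fun e => hw (Subtype.ext e)
      have hw2 : (w : QQ (P : Subgroup G)) * w = 1 := by
        have h4 := pow_card_eq_one' (x := w)
        rw [hH, pow_two] at h4
        exact congrArg Subtype.val h4
      have hwe : (w : QQ (P : Subgroup G)) = u := involution_unique hS hp3 P hP hw2 hu2 hw1 hu1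
      intro y
      constructor
      · intro hy
        by_cases hy1 : y = 1
        · exact Or.inl hy1
        · right
          have := hwu ⟨y, hy⟩ (fun e => hy1 (congrArg Subtype.val e))
          rw [← hwe]
          exact congrArg Subtype.val this
      · rintro (rfl | rfl)
        · exact H.one_mem
        · rw [← hwe]; exact w.2
    rcases Cfsg.Agent.S0016.result (G := QQ (P : Subgroup G)) 2 hG2
      (fun H K hH hK => by
        ext y
        rw [hmem H hH, hmem K hK]) with hcyc | ⟨-, n, ⟨e⟩⟩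
    · obtain ⟨g, hg⟩ := hcyc.exists_generator
      have hg1 := orderOf_eq_card_of_forall_mem_zpowers hg
      have h5 := (hΓ g).1
      rw [hg1, hcard'] at h5
      rw [hcard']
      rcases a with _ | _ | _ | a
      · simp
      · simp
      · simp
      · exfalso
        have : 2 ^ 3 ≤ 2 ^ (a + 1 + 1 + 1) := Nat.pow_le_pow_right (by norm_num) (by omega)
        norm_num at this
        omega
    · haveI : NeZero (2 ^ n) := ⟨by positivity⟩
      have h6 : orderOf (e.symm (QuaternionGroup.a 1)) = 2 * 2 ^ n := by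
        rw [MulEquiv.orderOf_eq, QuaternionGroup.orderOf_a_one]
      have h7 := (hΓ (e.symm (QuaternionGroup.a 1))).1
      rw [h6] at h7
      have h8 : Nat.card (QQ (P : Subgroup G)) = 4 * 2 ^ n := by
        rw [Nat.card_congr e.toEquiv, Nat.card_eq_fintype_card, QuaternionGroup.card]
      rw [h8]
      rcases n with _ | _ | n
      · simp
      · simp
      · exfalso
        have : 2 ^ 2 ≤ 2 ^ (n + 1 + 1) := Nat.pow_le_pow_right (by norm_num) (by omega)
        have e5 : 2 * 2 ^ (n + 1 + 1) ≥ 2 * 2 ^ 2 := Nat.mul_le_mul_left 2 this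
        norm_num at e5
        omega
  · -- odd order: an `r`-group
    have ha : a = 0 := by
      by_contra ha
      apply h2
      rw [hcard']
      exact Dvd.dvd.mul_right (dvd_pow_self 2 ha) _
    rw [ha, pow_zero, one_mul] at hcard'
    haveI : Fact r.Prime := ⟨hrp⟩
    have hGr : IsPGroup r (QQ (P : Subgroup G)) := IsPGroup.of_card hcard'
    refine ⟨r, hrp, hpr'.symm, hGr, ?_⟩
    have hM : IsO (NN (P : Subgroup G)) := hS.subgroup _
    have hD' : IsPGroup p (DD (P : Subgroup G)) := P.2.comap_subtype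
    have hD1 : DD (P : Subgroup G) ≠ ⊥ := by
      obtain ⟨d, hd⟩ := Subgroup.ne_bot_iff_exists_ne_one.1 hP
      intro hb
      have : (⟨d, le_nn _ d.2⟩ : NN (P : Subgroup G)) ∈ DD (P : Subgroup G) := d.2
      rw [hb, Subgroup.mem_bot] at this
      have h5 : (d : G) = 1 := by simpa using congrArg Subtype.val this
      exact hd (Subtype.ext h5)
    obtain ⟨R, hR, hRm, -⟩ := exists_lift (pi (P : Subgroup G)) (pi_surj _) hp.out hrp hpr'
      (ker_isP P.2) ⊤ (hGr.to_subgroup ⊤)
    have h1 := card_le_of_rgroup hM (DD (P : Subgroup G)) hp.out hr hpr' hD' hD1 R hR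
    have h3 : Nat.card (QQ (P : Subgroup G)) ≤ r := by
      have h4 : Nat.card (R.map (pi (P : Subgroup G))) ≤ Nat.card R :=
        Nat.le_of_dvd Nat.card_pos (Subgroup.card_map_dvd R _)
      rw [hRm, Subgroup.card_top] at h4
      exact h4.trans h1
    rw [hcard'] at h3 ⊢
    rcases j with _ | _ | j
    · simp
    · simp
    · exfalso
      have h5 : r ^ 2 ≤ r ^ (j + 1 + 1) := Nat.pow_le_pow_right hrp.pos (by omega)
      have h6 := hrp.one_lt
      nlinarith

/-- The index of `P` in its normalizer divides `|P| - 1`. -/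
theorem card_dvd {q : ℕ} (hq : q.Prime) (hqp : q ≠ p) (hG : IsPGroup q (QQ (P : Subgroup G))) :
    Nat.card (QQ (P : Subgroup G)) ∣ Nat.card P - 1 := by
  obtain ⟨R, hR, hRm, hinj⟩ := exists_lift (pi (P : Subgroup G)) (pi_surj _) hp.out hq hqp.symm
    (ker_isP P.2) ⊤ (hG.to_subgroup ⊤)
  have h1 := Cfsg.Agent.Lib.Ord5.Two1.card_map_mul (pi (P : Subgroup G)) R
  have h2 : (R ⊓ (pi (P : Subgroup G)).ker : Subgroup _) = ⊥ := by
    rw [eq_bot_iff]
    rintro x ⟨hx, hx'⟩
    rw [Subgroup.mem_bot]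
    exact hinj x hx hx'
  rw [h2, Subgroup.card_bot, one_mul, hRm, Subgroup.card_top] at h1
  let R' : Subgroup G := R.map (NN (P : Subgroup G)).subtype
  have hR'c : Nat.card R' = Nat.card R :=
    (Nat.card_congr (Subgroup.equivMapOfInjective R _ (NN (P : Subgroup G)).subtype_injective).toEquiv).symm
  have hR'p : IsPGroup q R' := hR.map _
  have hle : R' ≤ normalizer ((P : Subgroup G) : Set G) := by
    rintro _ ⟨x, -, rfl⟩
    exact x.2
  have h3 := card_dvd_card_sub_one R' (P : Subgroup G) hle (by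
    intro k hk d hd hc
    obtain ⟨i, hi⟩ := orderOf_mem hq hR'p hk
    obtain ⟨j, hj⟩ := orderOf_mem hp.out P.2 hd
    exact eq_one_of_commute_pow hS hq hp.out hqp hi hj hc)
  rw [hR'c, ← h1] at h3
  exact h3

/-- Summary for the odd primes. -/
theorem summary {r : ℕ} (hpr : (p = 3 ∧ r = 5) ∨ (p = 5 ∧ r = 3)) :
    ∃ f : ℕ, (f = 1 ∨ f = 2 ∨ f = 4 ∨ f = 8 ∨ f = r) ∧ f ∣ Nat.card P - 1 ∧
      Nat.card (Sylow p G) * (f * Nat.card P) = Nat.card G ∧
      Nat.card P ∣ Nat.card (Sylow p G) - 1 := by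
  obtain ⟨q, hq, hqp, hG, hc⟩ := cases hS hp3 P hP hpr
  refine ⟨_, hc, card_dvd hS hp3 P hP hq hqp hG, ?_, ?_⟩
  · rw [← card_nn, Sylow.card_eq_index_normalizer P, mul_comm]
    exact Subgroup.card_mul_index _
  · exact card_dvd_card_sylow_sub_one P (fun Q hQ => ti_odd hS hp3 P Q hQ.symm)

end Quot

end Cfsg.Agent.Lib.Ord5.OddNorm
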