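import Cfsg.Agent.Lib.Ord5.TI2
import Cfsg.Agent.Lib.Ord5.Arith
import Cfsg.Agent.S0496

/-!
# Simple groups with element orders at most `5`
-/

set_option autoImplicit false
set_option linter.style.haveILetI false
set_option linter.unusedSectionVars false

namespace Cfsg.Agent.Lib.Ord5.Simple

open Subgroup Cfsg.Agent.Lib.Ord5.Basic Cfsg.Agent.Lib.Ord5.Fpf Cfsg.Agent.Lib.Ord5.Local
open Cfsg.Agent.Lib.Ord5.Count Cfsg.Agent.Lib.Ord5.OddNorm Cfsg.Agent.Lib.Ord5.Two3
open Cfsg.Agent.Lib.Ord5.Classes Cfsg.Agent.Lib.Ord5.Two2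
open Cfsg

universe u

variable {G : Type u} [Group G] [Finite G] [IsSimpleGroup G]

theorem comm_of_center (hz : Subgroup.center G ≠ ⊥) : IsMulCommutative G := by
  have h1 := IsSimpleGroup.eq_bot_or_eq_top_of_normal (Subgroup.center G) inferInstance
  rcases h1 with h1 | h1
  · exact absurd h1 hz
  · refine ⟨⟨fun a b => ?_⟩⟩
    have h2 : a ∈ Subgroup.center G := by rw [h1]; trivial
    exact (Subgroup.mem_center_iff.1 h2 b).symm

theorem normal_p_eq_bot (hnc : ¬ IsMulCommutative G) {p : ℕ} [hp : Fact p.Prime] (N : Subgroup G)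
    (hN : N.Normal) (hNp : IsPGroup p N) : N = ⊥ := by
  rcases IsSimpleGroup.eq_bot_or_eq_top_of_normal N hN with h | h
  · exact h
  · exfalso
    apply hnc
    subst h
    have h1 : IsPGroup p G := fun g => by
      obtain ⟨k, hk⟩ := hNp ⟨g, trivial⟩
      exact ⟨k, by simpa using congrArg Subtype.val hk⟩
    haveI := h1.center_nontrivial
    exact comm_of_center ((Subgroup.nontrivial_iff_ne_bot _).1 inferInstance)

theorem two_le_card_sylow (hnc : ¬ IsMulCommutative G) {p : ℕ} [hp : Fact p.Prime] (P : Sylow p G)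
    (hP : (P : Subgroup G) ≠ ⊥) : 2 ≤ Nat.card (Sylow p G) := by
  have h1 : 0 < Nat.card (Sylow p G) := Nat.card_pos
  by_contra hcon
  have h2 : Nat.card (Sylow p G) = 1 := by omega
  haveI : Subsingleton (Sylow p G) := (Nat.card_eq_one_iff_unique.1 h2).1
  exact hP (normal_p_eq_bot hnc _ (Sylow.normal_of_subsingleton P) P.2)

omit [IsSimpleGroup G] in
theorem sylow_ne_bot {p : ℕ} [hp : Fact p.Prime] (P : Sylow p G) (hd : p ∣ Nat.card G) :
    (P : Subgroup G) ≠ ⊥ := by
  intro hb
  apply P.not_dvd_index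
  rw [hb, Subgroup.index_bot]
  exact hd

/-- The existence of a suitable central involution which is not isolated. -/
theorem exists_noniso (hS : IsO G) (hnc : ¬ IsMulCommutative G) (T : Sylow 2 G)
    (hT : (T : Subgroup G) ≠ ⊥) (h2 : 2 ∣ Nat.card G) :
    ∃ z g : G, z ∈ (T : Subgroup G) ∧ (∀ t ∈ (T : Subgroup G), t * z = z * t) ∧ z ≠ 1 ∧ z * z = 1 ∧
      Commute z (g * z * g⁻¹) ∧ g * z * g⁻¹ ≠ z := by
  haveI : Fact (Nat.Prime 2) := ⟨Nat.prime_two⟩
  obtain ⟨w, hwT, hw1, hwc⟩ := exists_central T.2 le_rfl Subgroup.le_normalizer hT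
  obtain ⟨z, hzT, hzc, hz1, hz2⟩ : ∃ z ∈ (T : Subgroup G), (∀ t ∈ (T : Subgroup G), t * z = z * t) ∧
      z ≠ 1 ∧ z * z = 1 := by
    by_cases hww : w * w = 1
    · exact ⟨w, hwT, hwc, hw1, hww⟩
    · refine ⟨w * w, T.1.mul_mem hwT hwT, ?_, hww, ?_⟩
      · intro t ht
        rw [← mul_assoc, hwc t ht, mul_assoc, hwc t ht, mul_assoc]
      · have := pow_four_mem hS T.2 hwT
        rw [← this]
        simp only [pow_succ, pow_zero, one_mul, mul_assoc]
  refine ⟨z, ?_⟩
  by_contra hcon
  push Not at hcon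
  have hiso : IsIsolatedInvolution z :=
    ⟨orderOf_invol hz2 hz1, fun g hg => hcon g hzT hzc hz1 hz2 hg⟩
  have hcore : Cfsg.pPrimeCore 2 G = ⊥ := by
    rcases IsSimpleGroup.eq_bot_or_eq_top_of_normal (Cfsg.pPrimeCore 2 G) inferInstance with h | h
    · exact h
    · exfalso
      have h3 := Cfsg.Agent.Lib.Core.Basic.pPrimeCore_eq_top_iff.1 h
      have h4 := Nat.dvd_gcd h2 (dvd_refl 2)
      have h5 : Nat.gcd (Nat.card G) 2 = 1 := h3
      rw [h5] at h4
      omega
  apply hnc
  apply comm_of_center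
  intro hb
  have hz : z ∈ Subgroup.center G := by
    rw [Subgroup.mem_center_iff]
    intro g
    have h3 := Cfsg.Agent.Lib.ZStar.Cor.zstar' hiso g
    rw [hcore, Subgroup.mem_bot] at h3
    have h4 : z * g = g * z := by
      calc z * g = (z * g * z⁻¹ * g⁻¹) * (g * z) := by group
        _ = g * z := by rw [h3, one_mul]
    exact h4.symm
  rw [hb, Subgroup.mem_bot] at hz
  exact hz1 hz

/-- **The order of a nonabelian simple group with element orders at most `5`.** -/
theorem card_eq (hS : IsO G) (hnc : ¬ IsMulCommutative G) :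
    Nat.card G = 60 ∨ Nat.card G = 360 := by
  classical
  haveI : Fact (Nat.Prime 2) := ⟨Nat.prime_two⟩
  haveI : Fact (Nat.Prime 3) := ⟨Nat.prime_three⟩
  haveI : Fact (Nat.Prime 5) := ⟨Nat.prime_five⟩
  have hnsol : ¬ Group.IsSolvable G := by
    intro hs
    apply hnc
    have h1 := IsSimpleGroup.comm_iff_isSolvable.2 hs
    exact ⟨⟨h1⟩⟩
  obtain ⟨a, b, c, hcard⟩ := hS.card_eq
  have ha1 : 1 ≤ a := by
    by_contra ha
    have ha0 : a = 0 := by omega
    subst ha0
    apply hnsol
    exact Cfsg.Agent.Lib.Char.Burnside.isSolvable_of_card_eq 3 5 b c Nat.prime_three Nat.prime_five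
      (by rw [hcard]; simp)
  have hb1 : 1 ≤ b := by
    by_contra hb
    have hb0 : b = 0 := by omega
    subst hb0
    apply hnsol
    exact Cfsg.Agent.Lib.Char.Burnside.isSolvable_of_card_eq 2 5 a c Nat.prime_two Nat.prime_five
      (by rw [hcard]; simp)
  have hc1 : 1 ≤ c := by
    by_contra hc
    have hc0 : c = 0 := by omega
    subst hc0
    apply hnsol
    exact Cfsg.Agent.Lib.Char.Burnside.isSolvable_of_card_eq 2 3 a b Nat.prime_two Nat.prime_three
      (by rw [hcard]; simp)
  have h2d : 2 ∣ Nat.card G := by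
    rw [hcard]
    exact Dvd.dvd.mul_right (Dvd.dvd.mul_right (dvd_pow_self 2 (by omega)) _) _
  have h3d : 3 ∣ Nat.card G := by
    rw [hcard]
    exact Dvd.dvd.mul_right (Dvd.dvd.mul_left (dvd_pow_self 3 (by omega)) _) _
  have h5d : 5 ∣ Nat.card G := by
    rw [hcard]
    exact Dvd.dvd.mul_left (dvd_pow_self 5 (by omega)) _
  have hne : Nat.card G ≠ 0 := Nat.card_pos.ne'
  -- orders of the Sylow subgroups
  have hfac2 : (Nat.card G).factorization 2 = a := by
    rw [hcard, Nat.factorization_mul (by positivity) (by positivity),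
      Nat.factorization_mul (by positivity) (by positivity)]
    simp [Nat.factorization_pow, Nat.Prime.factorization Nat.prime_two,
      Nat.Prime.factorization Nat.prime_three, Nat.Prime.factorization Nat.prime_five]
  have hfac3 : (Nat.card G).factorization 3 = b := by
    rw [hcard, Nat.factorization_mul (by positivity) (by positivity),
      Nat.factorization_mul (by positivity) (by positivity)]
    simp [Nat.factorization_pow, Nat.Prime.factorization Nat.prime_two,
      Nat.Prime.factorization Nat.prime_three, Nat.Prime.factorization Nat.prime_five]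
  have hfac5 : (Nat.card G).factorization 5 = c := by
    rw [hcard, Nat.factorization_mul (by positivity) (by positivity),
      Nat.factorization_mul (by positivity) (by positivity)]
    simp [Nat.factorization_pow, Nat.Prime.factorization Nat.prime_two,
      Nat.Prime.factorization Nat.prime_three, Nat.Prime.factorization Nat.prime_five]
  obtain ⟨P₃⟩ : Nonempty (Sylow 3 G) := inferInstance
  obtain ⟨P₅⟩ : Nonempty (Sylow 5 G) := inferInstance
  obtain ⟨T⟩ : Nonempty (Sylow 2 G) := inferInstance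
  have hP₃c : Nat.card P₃ = 3 ^ b := by rw [Sylow.card_eq_multiplicity, hfac3]
  have hP₅c : Nat.card P₅ = 5 ^ c := by rw [Sylow.card_eq_multiplicity, hfac5]
  have hTc : ∀ T : Sylow 2 G, Nat.card T = 2 ^ a := fun T => by rw [Sylow.card_eq_multiplicity, hfac2]
  have hP₃ := sylow_ne_bot P₃ h3d
  have hP₅ := sylow_ne_bot P₅ h5d
  have hT := sylow_ne_bot T h2d
  obtain ⟨f, hf, hfd, hn, hnd⟩ := summary hS (Or.inl rfl) P₃ hP₃ (r := 5) (Or.inl ⟨rfl, rfl⟩)
  obtain ⟨g, hg, hgd, hm, hmd⟩ := summary hS (Or.inr rfl) P₅ hP₅ (r := 3) (Or.inr ⟨rfl, rfl⟩)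
  rw [hP₃c] at hfd hn hnd
  rw [hP₅c] at hgd hm hmd
  rw [hcard] at hn hm
  have hn1 := two_le_card_sylow hnc P₃ hP₃
  have hm1 := two_le_card_sylow hnc P₅ hP₅
  have hn2 : ∀ N : Subgroup G, N.Normal → IsPGroup 2 N → N = ⊥ := fun N hN hNp =>
    normal_p_eq_bot hnc N hN hNp
  -- the order of a Sylow `2`-subgroup
  have hbound : a ≤ 6 ∧ 2 ^ a * 3 ^ b * 5 ^ c ≤ 1092 := by
    by_cases hcfg : ∃ P Q : Sylow 2 G, P ≠ Q ∧ (P : Subgroup G) ⊓ Q ≠ ⊥
    · obtain ⟨D, T₁, T₂, h⟩ := exists_cfg hcfg
      have h1 := card_T hS h (twoCl hS hn2)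
      rw [hTc] at h1
      have ha36 : a = 3 ∨ a = 6 := by
        rcases h1 with h1 | h1
        · left
          exact Nat.pow_right_injective (le_refl 2) (by simpa using h1)
        · right
          exact Nat.pow_right_injective (le_refl 2) (by simpa using h1)
      have := Cfsg.Agent.Lib.Ord5.Arith.main ha1 (by omega) hb1 hc1 hf hg hfd hgd hn hm hnd hmd hn1 hm1
      rcases this with h3 | h3
      · exact h3
      · omega
    · push Not at hcfg
      have hTI : ∀ Q : Sylow 2 G, Q ≠ T → (T : Subgroup G) ⊓ Q = ⊥ := fun Q hQ => hcfg T Q hQ.symm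
      obtain ⟨z, g', hzT, hzc, hz1, hz2, hzg, hgz⟩ := exists_noniso hS hnc T hT h2d
      have hle := Cfsg.Agent.Lib.Ord5.TI2.card_le T hTI hS hn2 hzT hzc hz1 hz2 hzg hgz
      rw [hTc] at hle
      have ha8 : a ≤ 8 := by
        by_contra hcon
        have : 2 ^ 9 ≤ 2 ^ a := Nat.pow_le_pow_right (by norm_num) (by omega)
        norm_num at this
        omega
      have := Cfsg.Agent.Lib.Ord5.Arith.main ha1 ha8 hb1 hc1 hf hg hfd hgd hn hm hnd hmd hn1 hm1
      rcases this with h3 | h3
      · exact h3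
      · exfalso
        have h4 := two_le_card_sylow hnc T hT
        have h5 := card_dvd_card_sylow_sub_one T hTI
        rw [hTc] at h5
        have h6 : 2 ^ a ≤ Nat.card (Sylow 2 G) - 1 := Nat.le_of_dvd (by omega) h5
        have h7 : Nat.card (Sylow 2 G) ∣ 3 ^ b * 5 ^ c := by
          have h8 : (T : Subgroup G).index = 3 ^ b * 5 ^ c := by
            have h9 := Subgroup.card_mul_index (T : Subgroup G)
            rw [hTc, hcard, mul_assoc] at h9
            exact Nat.eq_of_mul_eq_mul_left (by positivity) h9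
          rw [← h8, Sylow.card_eq_index_normalizer T]
          exact Subgroup.index_dvd_of_le Subgroup.le_normalizer
        have h9 := Nat.le_of_dvd (by positivity) h7
        omega
  have h1092 : Nat.card G ≤ 1092 := by rw [hcard]; exact hbound.2
  have hprime : ∀ q : ℕ, q.Prime → q ∣ Nat.card G → q = 2 ∨ q = 3 ∨ q = 5 := fun q hq hd =>
    hS.prime_cases hq hd
  rcases Cfsg.Agent.S0496.result hnc h1092 with e | e | e | e | e | e
  · exact Or.inl e
  · exfalso
    rcases hprime 7 (by norm_num) (by rw [e]; decide) with h | h | h <;> omega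
  · exact Or.inr e
  · exfalso
    rcases hprime 7 (by norm_num) (by rw [e]; decide) with h | h | h <;> omega
  · exfalso
    rcases hprime 11 (by norm_num) (by rw [e]; decide) with h | h | h <;> omega
  · exfalso
    rcases hprime 7 (by norm_num) (by rw [e]; decide) with h | h | h <;> omega

end Cfsg.Agent.Lib.Ord5.Simple
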