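import Cfsg.Agent.Lib.Ord5.Two1

/-!
# A bound on the order of a `2`-group with a small central `Ω₁`
-/

set_option autoImplicit false
set_option linter.style.haveILetI false
set_option linter.unusedSectionVars false

namespace Cfsg.Agent.Lib.Ord5.TIBound

open Subgroup

universe u

variable {T : Type u} [Group T] [Finite T]

/-- Finite subsets of a subgroup. -/
theorem finset_card_le (V : Subgroup T) (S : Finset T) (hS : ∀ s ∈ S, s ∈ V) :
    S.card ≤ Nat.card V := by
  classical
  let f : S → V := fun s => ⟨s, hS s s.2⟩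
  have hf : Function.Injective f := by
    intro a b hab
    exact Subtype.ext (congrArg (fun x : V => (x : T)) hab)
  have h1 := Nat.card_le_card_of_injective f hf
  have h2 : Nat.card S = S.card := by
    rw [Nat.card_eq_fintype_card (α := S), Fintype.card_coe]
  omega

theorem four_list (V : Subgroup T) (hV4 : Nat.card V = 4) {a b c d : T} (ha : a ∈ V) (hb : b ∈ V)
    (hc : c ∈ V) (hd : d ∈ V) (h1 : a ≠ b) (h2 : a ≠ c) (h3 : a ≠ d) (h4 : b ≠ c) (h5 : b ≠ d)
    (h6 : c ≠ d) {v : T} (hv : v ∈ V) : v = a ∨ v = b ∨ v = c ∨ v = d := by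
  classical
  by_contra hcon
  push Not at hcon
  obtain ⟨e1, e2, e3, e4⟩ := hcon
  have := finset_card_le V {v, a, b, c, d} (by
    intro s hs
    simp only [Finset.mem_insert, Finset.mem_singleton] at hs
    rcases hs with rfl | rfl | rfl | rfl | rfl <;> assumption)
  have hcard : ({v, a, b, c, d} : Finset T).card = 5 := by
    rw [Finset.card_insert_of_notMem (by simp [e1, e2, e3, e4]),
      Finset.card_insert_of_notMem (by simp [h1, h2, h3]),
      Finset.card_insert_of_notMem (by simp [h4, h5]),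
      Finset.card_insert_of_notMem (by simp [h6])]
    simp
  omega

theorem card_le_cover (H V : Subgroup T) (l : Fin 4 → T)
    (hc : ∀ t ∈ H, ∃ i, t * (l i)⁻¹ ∈ V) : Nat.card H ≤ Nat.card V * 4 := by
  classical
  choose! i hi using hc
  let g : H → V × Fin 4 := fun t => (⟨t * (l (i t))⁻¹, hi t t.2⟩, i t)
  have hg : Function.Injective g := by
    intro a b hab
    have h1 := congrArg Prod.snd hab
    have h2 : (a : T) * (l (i a))⁻¹ = (b : T) * (l (i b))⁻¹ :=
      congrArg (fun x : V × Fin 4 => ((x.1 : V) : T)) hab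
    have h3 : i (a : T) = i (b : T) := h1
    rw [h3] at h2
    exact Subtype.ext (mul_right_cancel h2)
  have h := Nat.card_le_card_of_injective g hg
  rwa [Nat.card_prod, Nat.card_fin] at h

variable (V : Subgroup T)

theorem comm_mem (hVc : ∀ v ∈ V, ∀ t, t * v = v * t) (hsq : ∀ t, t * t ∈ V) (x t : T) :
    x * t * x⁻¹ * t⁻¹ ∈ V := by
  have h1 : t⁻¹ * (x * x)⁻¹ = (x * x)⁻¹ * t⁻¹ := hVc _ (V.inv_mem (hsq x)) _
  have h2 : x * t * x⁻¹ * t⁻¹ = (x * t * (x * t)) * ((x * x)⁻¹ * (t * t)⁻¹) := by
    calc x * t * x⁻¹ * t⁻¹ = (x * t * (x * t)) * (t⁻¹ * (x * x)⁻¹ * t⁻¹) := by group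
      _ = (x * t * (x * t)) * ((x * x)⁻¹ * t⁻¹ * t⁻¹) := by rw [h1]
      _ = _ := by group
  rw [h2]
  exact V.mul_mem (hsq _) (V.mul_mem (V.inv_mem (hsq x)) (V.inv_mem (hsq t)))

/-- The commutator map into a central subgroup. -/
def commHom (hVc : ∀ v ∈ V, ∀ t, t * v = v * t) (hsq : ∀ t, t * t ∈ V) (x : T) : T →* V where
  toFun t := ⟨x * t * x⁻¹ * t⁻¹, comm_mem V hVc hsq x t⟩
  map_one' := by
    apply Subtype.ext
    simp
  map_mul' := by
    intro a b
    apply Subtype.ext
    have h1 : a * (x * b * x⁻¹ * b⁻¹) = (x * b * x⁻¹ * b⁻¹) * a := hVc _ (comm_mem V hVc hsq x b) a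
    simp only [Subgroup.coe_mul]
    calc x * (a * b) * x⁻¹ * (a * b)⁻¹ = x * (a * (x⁻¹ * x)) * (b * x⁻¹ * b⁻¹) * a⁻¹ := by group
      _ = x * a * x⁻¹ * (x * b * x⁻¹ * b⁻¹) * a⁻¹ := by group
      _ = x * a * x⁻¹ * ((x * b * x⁻¹ * b⁻¹) * a * a⁻¹) * a⁻¹ := by group
      _ = x * a * x⁻¹ * (a * (x * b * x⁻¹ * b⁻¹) * a⁻¹) * a⁻¹ := by rw [h1]
      _ = x * a * x⁻¹ * a⁻¹ * (a * (a * (x * b * x⁻¹ * b⁻¹) * a⁻¹) * a⁻¹) := by group
      _ = x * a * x⁻¹ * a⁻¹ * (x * b * x⁻¹ * b⁻¹) := by
          rw [h1]
          simp only [mul_inv_cancel_right]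
          rw [h1]
          simp only [mul_inv_cancel_right]

theorem step (hVc : ∀ v ∈ V, ∀ t, t * v = v * t) (hsq : ∀ t, t * t ∈ V) (hV4 : Nat.card V = 4)
    (H : Subgroup T) (x : T) :
    Nat.card H ≤ Nat.card (H ⊓ centralizer ({x} : Set T) : Subgroup T) * 4 := by
  have h1 := Cfsg.Agent.Lib.Ord5.Two1.card_map_mul (commHom V hVc hsq x) H
  have h2 : (H ⊓ (commHom V hVc hsq x).ker : Subgroup T) = H ⊓ centralizer ({x} : Set T) := by
    ext t
    simp only [Subgroup.mem_inf, MonoidHom.mem_ker, Subgroup.mem_centralizer_singleton_iff]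
    constructor
    · rintro ⟨h3, h4⟩
      refine ⟨h3, ?_⟩
      have h5 : x * t * x⁻¹ * t⁻¹ = 1 := congrArg Subtype.val h4
      have h6 : x * t = t * x := by
        calc x * t = (x * t * x⁻¹ * t⁻¹) * (t * x) := by group
          _ = t * x := by rw [h5, one_mul]
      exact h6.symm
    · rintro ⟨h3, h4⟩
      refine ⟨h3, Subtype.ext ?_⟩
      change x * t * x⁻¹ * t⁻¹ = 1
      rw [← h4]
      group
  rw [h2] at h1
  have h3 : Nat.card ((H.map (commHom V hVc hsq x))) ≤ 4 := by
    rw [← hV4]
    exact Subgroup.card_le_card_group _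
  rw [← h1]
  exact Nat.mul_le_mul_left _ h3

/-- The order bound. -/
theorem card_le (hVc : ∀ v ∈ V, ∀ t, t * v = v * t) (hel : ∀ v ∈ V, v * v = 1)
    (hV4 : Nat.card V = 4) (hsq : ∀ t, t * t ∈ V) (hinv : ∀ t, t * t = 1 → t ∈ V) :
    Nat.card T ≤ 256 := by
  classical
  by_cases hx : ∃ x, x ∉ V
  · obtain ⟨x, hx⟩ := hx
    have hx2 : x * x ≠ 1 := fun e => hx (hinv x e)
    have h1 := step V hVc hsq hV4 ⊤ x
    rw [Subgroup.card_top, top_inf_eq] at h1
    have hmem : ∀ {t a : T}, t * a = a * t → t * t = a * a → t * a⁻¹ ∈ V := by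
      intro t a hc hs
      apply hinv
      have h2 : t * a⁻¹ = a⁻¹ * t := by
        calc t * a⁻¹ = a⁻¹ * (a * t) * a⁻¹ := by group
          _ = a⁻¹ * (t * a) * a⁻¹ := by rw [hc]
          _ = _ := by group
      calc t * a⁻¹ * (t * a⁻¹) = t * (a⁻¹ * t) * a⁻¹ := by group
        _ = t * (t * a⁻¹) * a⁻¹ := by rw [h2]
        _ = (t * t) * (a * a)⁻¹ := by group
        _ = 1 := by rw [hs]; group
    by_cases hy : ∃ y ∈ centralizer ({x} : Set T), y ∉ V ∧ y * x⁻¹ ∉ V
    · obtain ⟨y, hyc, hyV, hyx⟩ := hy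
      have hyx' : y * x = x * y := Subgroup.mem_centralizer_singleton_iff.1 hyc
      have hy2 : y * y ≠ 1 := fun e => hyV (hinv y e)
      have hne : x * x ≠ y * y := fun e => hyx (hmem hyx' e.symm)
      have h2 := step V hVc hsq hV4 (centralizer ({x} : Set T)) y
      have hxy2 : (x * y) * (x * y) = (x * x) * (y * y) := by
        calc (x * y) * (x * y) = x * (y * x) * y := by group
          _ = x * (x * y) * y := by rw [hyx']
          _ = _ := by group
      have hprod1 : (x * x) * (y * y) ≠ 1 := by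
        intro e
        apply hne
        have := hel _ (hsq x)
        calc x * x = (x * x) * ((x * x) * (y * y)) := by
              rw [e, mul_one]
          _ = ((x * x) * (x * x)) * (y * y) := by group
          _ = y * y := by rw [this, one_mul]
      have hprod2 : x * x ≠ (x * x) * (y * y) := by
        intro e
        apply hy2
        have : (x * x) * 1 = (x * x) * (y * y) := by rw [mul_one]; exact e
        exact (mul_left_cancel this).symm
      have hprod3 : y * y ≠ (x * x) * (y * y) := by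
        intro e
        apply hx2
        have : 1 * (y * y) = (x * x) * (y * y) := by rw [one_mul]; exact e
        exact (mul_right_cancel this).symm
      have h3 : Nat.card (centralizer ({x} : Set T) ⊓ centralizer ({y} : Set T) : Subgroup T) ≤ 4 * 4 := by
        nth_rw 1 [← hV4]
        refine card_le_cover _ V ![1, x, y, x * y] ?_
        rintro t ⟨ht1, ht2⟩
        have ht1' : t * x = x * t := Subgroup.mem_centralizer_singleton_iff.1 ht1
        have ht2' : t * y = y * t := Subgroup.mem_centralizer_singleton_iff.1 ht2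
        rcases four_list V hV4 V.one_mem (hsq x) (hsq y) (V.mul_mem (hsq x) (hsq y)) hx2.symm hy2.symm
          hprod1.symm hne hprod2 hprod3 (hsq t) with e | e | e | e
        · refine ⟨0, ?_⟩
          have : t * (1 : T)⁻¹ ∈ V := hmem (by group) (by rw [e]; group)
          simpa using this
        · exact ⟨1, hmem ht1' e⟩
        · exact ⟨2, hmem ht2' e⟩
        · refine ⟨3, ?_⟩
          have hc : t * (x * y) = (x * y) * t := by
            calc t * (x * y) = (t * x) * y := by group
              _ = x * (t * y) := by rw [ht1']; group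
              _ = x * (y * t) := by rw [ht2']
              _ = _ := by group
          have hf : t * t = (x * y) * (x * y) := by rw [hxy2, e]
          exact hmem hc hf
      omega
    · push Not at hy
      have h3 : Nat.card (centralizer ({x} : Set T)) ≤ 4 * 4 := by
        nth_rw 1 [← hV4]
        refine card_le_cover _ V ![1, x, 1, 1] ?_
        intro t ht
        by_cases htV : t ∈ V
        · refine ⟨0, ?_⟩
          simpa using htV
        · exact ⟨1, hy t ht htV⟩
      omega
  · push Not at hx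
    have h1 : (⊤ : Subgroup T) = V := by
      ext t
      simp [hx t]
    have h2 : Nat.card (⊤ : Subgroup T) = 4 := by rw [h1]; exact hV4
    rw [Subgroup.card_top] at h2
    omega

end Cfsg.Agent.Lib.Ord5.TIBound
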