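import Cfsg.Agent.Lib.Ord5.Classes
import Cfsg.Agent.Lib.Ord5.TIBound
import Cfsg.Agent.Lib.ZStar.Cor
import Cfsg.Agent.Lib.Char.Burnside

/-!
# Sylow `2`-subgroups with trivial intersections
-/

set_option autoImplicit false
set_option linter.style.haveILetI false
set_option linter.unusedSectionVars false

namespace Cfsg.Agent.Lib.Ord5.TI2

open Subgroup Cfsg.Agent.Lib.Ord5.Basic Cfsg.Agent.Lib.Ord5.Fpf Cfsg.Agent.Lib.Ord5.Local
open Cfsg.Agent.Lib.Ord5.Count Cfsg.Agent.Lib.Ord5.OddNorm Cfsg.Agent.Lib.Ord5.Two3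
open Cfsg.Agent.Lib.Ord5.Classes Cfsg.Agent.Lib.Ord5.Two2

universe u

variable {G : Type u} [Group G] [Finite G]

section

variable (T : Sylow 2 G) (hTI : ∀ Q : Sylow 2 G, Q ≠ T → (T : Subgroup G) ⊓ Q = ⊥)

include hTI

theorem norm_of_meet {x g : G} (hx : x ∈ (T : Subgroup G)) (hx1 : x ≠ 1)
    (hgx : g * x * g⁻¹ ∈ (T : Subgroup G)) : g ∈ normalizer ((T : Subgroup G) : Set G) := by
  haveI : Fact (Nat.Prime 2) := ⟨Nat.prime_two⟩
  by_contra hnot
  have hne : g • T ≠ T := fun e => hnot (Sylow.smul_eq_iff_mem_normalizer.1 e)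
  have h1 := hTI _ hne
  have h2 : g * x * g⁻¹ ∈ ((g • T : Sylow 2 G) : Subgroup G) := by
    rw [Sylow.coe_subgroup_smul]
    exact ⟨x, hx, rfl⟩
  have h3 : g * x * g⁻¹ ∈ (T : Subgroup G) ⊓ ((g • T : Sylow 2 G) : Subgroup G) := ⟨hgx, h2⟩
  rw [h1, Subgroup.mem_bot] at h3
  apply hx1
  have : x = g⁻¹ * (g * x * g⁻¹) * g := by group
  rw [this, h3]; group

variable (hS : IsO G) (hn2 : ∀ N : Subgroup G, N.Normal → IsPGroup 2 N → N = ⊥)

include hS

/-- Involutions in distinct Sylow subgroups have a product of odd order. -/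
theorem odd_prod (Q : Sylow 2 G) (hQ : Q ≠ T) {u w : G} (hu : u ∈ (T : Subgroup G)) (hw : w ∈ (Q : Subgroup G))
    (hu2 : u * u = 1) (hw2 : w * w = 1) (hu1 : u ≠ 1) (hw1 : w ≠ 1) : Odd (orderOf (u * w)) := by
  haveI : Fact (Nat.Prime 2) := ⟨Nat.prime_two⟩
  by_contra hodd
  have h2 : ∃ k, orderOf (u * w) = 2 ^ k := by
    rcases hS.cases (u * w) with e | e | e | e | e
    · exact ⟨0, by rw [e]; rfl⟩
    · exact ⟨1, by rw [e]; rfl⟩
    · exact absurd (by rw [e]; decide) hodd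
    · exact ⟨2, by rw [e]; rfl⟩
    · exact absurd (by rw [e]; decide) hodd
  obtain ⟨X, hXp, hXa, hXb⟩ := dihedral_two hu2 hw2 h2
  obtain ⟨R, hR⟩ := hXp.exists_le_sylow
  have hRT : R = T := by
    by_contra hne
    have h1 := hTI R hne
    have h3 : u ∈ (T : Subgroup G) ⊓ R := ⟨hu, hR hXa⟩
    rw [h1, Subgroup.mem_bot] at h3
    exact hu1 h3
  have h1 := hTI Q hQ
  have h3 : w ∈ (T : Subgroup G) ⊓ Q := ⟨hRT ▸ hR hXb, hw⟩
  rw [h1, Subgroup.mem_bot] at h3
  exact hw1 h3

include hn2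

/-- All involutions of `T` are conjugate under its normalizer. -/
theorem exists_conj {z u : G} (hz : z ∈ (T : Subgroup G)) (hu : u ∈ (T : Subgroup G))
    (hz2 : z * z = 1) (hu2 : u * u = 1) (hz1 : z ≠ 1) (hu1 : u ≠ 1) :
    ∃ h ∈ normalizer ((T : Subgroup G) : Set G), h * z * h⁻¹ = u := by
  haveI : Fact (Nat.Prime 2) := ⟨Nat.prime_two⟩
  -- a conjugate of `T`
  obtain ⟨x, hx⟩ : ∃ x : G, x ∉ normalizer ((T : Subgroup G) : Set G) := by
    by_contra hcon
    push Not at hcon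
    have htop : normalizer ((T : Subgroup G) : Set G) = ⊤ := eq_top_iff.2 (fun y _ => hcon y)
    have hn := Subgroup.normalizer_eq_top_iff.1 htop
    have := hn2 _ hn T.2
    rw [this, Subgroup.mem_bot] at hz
    exact hz1 hz
  have hne : x • T ≠ T := fun e => hx (Sylow.smul_eq_iff_mem_normalizer.1 e)
  have hw : x * z * x⁻¹ ∈ ((x • T : Sylow 2 G) : Subgroup G) := by
    rw [Sylow.coe_subgroup_smul]
    exact ⟨z, hz, rfl⟩
  have hw2 : (x * z * x⁻¹) * (x * z * x⁻¹) = 1 := by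
    calc (x * z * x⁻¹) * (x * z * x⁻¹) = x * (z * z) * x⁻¹ := by group
      _ = 1 := by rw [hz2]; group
  have hw1 : x * z * x⁻¹ ≠ 1 := by
    intro e
    apply hz1
    have : z = x⁻¹ * (x * z * x⁻¹) * x := by group
    rw [this, e]; group
  have h1 := conj_of_odd hz2 hw2 (odd_prod T hTI hS _ hne hz hw hz2 hw2 hz1 hw1)
  have h2 := conj_of_odd hu2 hw2 (odd_prod T hTI hS _ hne hu hw hu2 hw2 hu1 hw1)
  have h3 := h1.trans h2.symm
  obtain ⟨h, hh⟩ := isConj_iff.1 h3
  refine ⟨h, norm_of_meet T hTI hz hz1 (by rw [hh]; exact hu), hh⟩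

end

section Main

variable (T : Sylow 2 G) (hTI : ∀ Q : Sylow 2 G, Q ≠ T → (T : Subgroup G) ⊓ Q = ⊥)
  (hS : IsO G) (hn2 : ∀ N : Subgroup G, N.Normal → IsPGroup 2 N → N = ⊥)
  {z g : G} (hzT : z ∈ (T : Subgroup G)) (hzc : ∀ t ∈ (T : Subgroup G), t * z = z * t)
  (hz1 : z ≠ 1) (hz2 : z * z = 1) (hzg : Commute z (g * z * g⁻¹)) (hgz : g * z * g⁻¹ ≠ z)

include hTI hS hn2 hzT hzc hz1 hz2

/-- All involutions of `T` are central in `T`. -/
theorem central_of_invol {u : G} (hu : u ∈ (T : Subgroup G)) (hu2 : u * u = 1) (hu1 : u ≠ 1) :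
    ∀ t ∈ (T : Subgroup G), t * u = u * t := by
  obtain ⟨h, hh, rfl⟩ := exists_conj T hTI hS hn2 hzT hu hz2 hu2 hz1 hu1
  intro t ht
  have h1 : h⁻¹ * t * h ∈ (T : Subgroup G) := by
    have := (Subgroup.mem_normalizer_iff.1 (Subgroup.inv_mem _ hh) t).1 ht
    simpa using this
  have h2 := hzc _ h1
  calc t * (h * z * h⁻¹) = h * ((h⁻¹ * t * h) * z) * h⁻¹ := by group
    _ = h * (z * (h⁻¹ * t * h)) * h⁻¹ := by rw [h2]
    _ = _ := by group

/-- The subgroup of involutions of `T`. -/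
def vv (hcen : ∀ u ∈ (T : Subgroup G), u * u = 1 → ∀ t ∈ (T : Subgroup G), t * u = u * t) :
    Subgroup G where
  carrier := {t | t ∈ (T : Subgroup G) ∧ t * t = 1}
  one_mem' := ⟨T.1.one_mem, one_mul 1⟩
  inv_mem' := by
    rintro a ⟨h1, h2⟩
    refine ⟨T.1.inv_mem h1, ?_⟩
    rw [inv_eq_of_mul_eq_one_left h2]
    exact h2
  mul_mem' := by
    rintro a b ⟨h1, h2⟩ ⟨h3, h4⟩
    refine ⟨T.1.mul_mem h1 h3, ?_⟩
    have h5 := hcen b h3 h4 a h1
    calc a * b * (a * b) = a * (b * a) * b := by group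
      _ = a * (a * b) * b := by rw [← h5]
      _ = (a * a) * (b * b) := by group
      _ = 1 := by rw [h2, h4, one_mul]

omit hTI hS hn2 hzT hzc hz1 hz2 in
theorem mem_vv {hcen : ∀ u ∈ (T : Subgroup G), u * u = 1 → ∀ t ∈ (T : Subgroup G), t * u = u * t} {t : G} :
    t ∈ vv T hcen ↔ t ∈ (T : Subgroup G) ∧ t * t = 1 := Iff.rfl

include hzg hgz

/-- `|V| = 4`. -/
theorem card_vv (hcen : ∀ u ∈ (T : Subgroup G), u * u = 1 → ∀ t ∈ (T : Subgroup G), t * u = u * t) :
    Nat.card (vv T hcen) = 4 := by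
  classical
  haveI : Fact (Nat.Prime 2) := ⟨Nat.prime_two⟩
  haveI : Fact (Nat.Prime 3) := ⟨Nat.prime_three⟩
  haveI : Fact (Nat.Prime 5) := ⟨Nat.prime_five⟩
  set V := vv T hcen with hV
  have hM : IsO (NN (T : Subgroup G)) := hS.subgroup _
  have hΓ : IsO (QQ (T : Subgroup G)) := hM.quotient _
  have hzV : z ∈ V := ⟨hzT, hz2⟩
  have hD' : IsPGroup 2 (DD (T : Subgroup G)) := T.2.comap_subtype
  have hD1 : DD (T : Subgroup G) ≠ ⊥ := by
    intro hb
    have : (⟨z, le_nn _ hzT⟩ : NN (T : Subgroup G)) ∈ DD (T : Subgroup G) := hzT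
    rw [hb, Subgroup.mem_bot] at this
    exact hz1 (by simpa using congrArg Subtype.val this)
  -- `g` normalizes `T`
  have hmemT : ∀ {x : G}, x ∈ (T : Subgroup G) ↔ x * z = z * x := central_eq hS T hzc hz1 hz2
  have hgT : g * z * g⁻¹ ∈ (T : Subgroup G) := hmemT.2 hzg.symm.eq
  have hgN : g ∈ normalizer ((T : Subgroup G) : Set G) := norm_of_meet T hTI hzT hz1 hgT
  have hg1 : pi (T : Subgroup G) ⟨g, hgN⟩ ≠ 1 := by
    intro e
    have h1 : g ∈ (T : Subgroup G) := pi_eq_one_iff.1 e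
    apply hgz
    rw [hzc g h1]
    group
  -- the order of the quotient
  have hnd := not_dvd T
  obtain ⟨a, b, c, hcard⟩ := hΓ.card_eq
  have ha : a = 0 := by
    by_contra ha
    apply hnd
    rw [hcard]
    exact Dvd.dvd.mul_right (Dvd.dvd.mul_right (dvd_pow_self 2 ha) _) _
  rw [ha, pow_zero, one_mul] at hcard
  have hpart : ∀ {r k : ℕ}, (r = 3 ∨ r = 5) → r ^ k ∣ Nat.card (QQ (T : Subgroup G)) → k ≤ 1 := by
    intro r k hr hd
    have hrp : r.Prime := by rcases hr with rfl | rfl <;> norm_num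
    haveI : Fact r.Prime := ⟨hrp⟩
    obtain ⟨Rb, hRb⟩ := Sylow.exists_subgroup_card_pow_prime r hd
    have hRb' : IsPGroup r Rb := IsPGroup.of_card hRb
    have hsr : (2 : ℕ) ≠ r := by rcases hr with rfl | rfl <;> norm_num
    obtain ⟨R, hR, hRm, -⟩ := exists_lift (pi (T : Subgroup G)) (pi_surj _) Nat.prime_two hrp hsr
      (ker_isP T.2) Rb hRb'
    have h1 := card_le_of_rgroup hM (DD (T : Subgroup G)) Nat.prime_two hr hsr hD' hD1 R hR
    have h4 : Nat.card (R.map (pi (T : Subgroup G))) ≤ Nat.card R :=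
      Nat.le_of_dvd Nat.card_pos (Subgroup.card_map_dvd R _)
    rw [hRm, hRb] at h4
    have h5 := h4.trans h1
    by_contra hk
    have h6 : r ^ 2 ≤ r ^ k := Nat.pow_le_pow_right hrp.pos (by omega)
    have h7 := hrp.one_lt
    nlinarith
  have hb : b ≤ 1 := hpart (Or.inl rfl) (by rw [hcard]; exact Dvd.intro _ rfl)
  have hc : c ≤ 1 := hpart (Or.inr rfl) (by rw [hcard]; exact Dvd.intro_left _ rfl)
  -- the lift of an element of prime order
  have hlift : ∀ {r : ℕ}, (r = 3 ∨ r = 5) → r ∣ Nat.card (QQ (T : Subgroup G)) →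
      r ∣ Nat.card V - 1 := by
    intro r hr hd
    have hrp : r.Prime := by rcases hr with rfl | rfl <;> norm_num
    haveI : Fact r.Prime := ⟨hrp⟩
    obtain ⟨yb, hyb⟩ := exists_prime_orderOf_dvd_card' r hd
    obtain ⟨y, rfl⟩ := pi_surj _ yb
    have hy := hM.orderOf_lift (pi _) hr hyb
    have hy' : orderOf (y : G) = r := by rw [Subgroup.orderOf_coe, hy]
    have h1 := card_dvd_card_sub_one (zpowers (y : G)) V (by
      rw [Subgroup.zpowers_le, Subgroup.mem_normalizer_iff]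
      intro v
      have hyN : (y : G) ∈ normalizer ((T : Subgroup G) : Set G) := y.2
      constructor
      · rintro ⟨h2, h3⟩
        refine ⟨(Subgroup.mem_normalizer_iff.1 hyN v).1 h2, ?_⟩
        calc (y : G) * v * (y : G)⁻¹ * ((y : G) * v * (y : G)⁻¹) = (y : G) * (v * v) * (y : G)⁻¹ := by group
          _ = 1 := by rw [h3]; group
      · rintro ⟨h2, h3⟩
        refine ⟨(Subgroup.mem_normalizer_iff.1 hyN v).2 h2, ?_⟩
        have e : v * v = (y : G)⁻¹ * (((y : G) * v * (y : G)⁻¹) * ((y : G) * v * (y : G)⁻¹)) * (y : G) := by group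
        rw [e, h3]; group) (by
      intro k hk d hd hc
      have hk' : orderOf k ∣ r := by
        rw [← hy']
        exact orderOf_dvd_of_mem_zpowers hk
      have hd' : orderOf d ∣ 2 := orderOf_dvd_of_pow_eq_one (by rw [pow_two]; exact hd.2)
      have hco : Nat.Coprime (orderOf k) (orderOf d) := by
        have : Nat.Coprime r 2 := by rcases hr with rfl | rfl <;> norm_num
        exact Nat.Coprime.coprime_dvd_left hk' (Nat.Coprime.coprime_dvd_right hd' this)
      exact hS.eq_one_of_coprime hc hco)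
    rwa [Nat.card_zpowers, hy'] at h1
  -- an injection from the involutions into the quotient
  have hle : Nat.card V - 1 ≤ Nat.card (QQ (T : Subgroup G)) := by
    have hex : ∀ v : {v : V // v ≠ 1}, ∃ h : NN (T : Subgroup G), (h : G) * z * (h : G)⁻¹ = v.1 := by
      intro v
      have hv1 : (v.1 : G) ≠ 1 := fun e => v.2 (Subtype.ext e)
      obtain ⟨h, hh, e⟩ := exists_conj T hTI hS hn2 hzT v.1.2.1 hz2 v.1.2.2 hz1 hv1
      exact ⟨⟨h, hh⟩, e⟩
    choose φ hφ using hex
    let f : {v : V // v ≠ 1} → QQ (T : Subgroup G) := fun v => pi _ (φ v)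
    have hf : Function.Injective f := by
      intro v w hvw
      have h1 : pi (T : Subgroup G) ((φ w)⁻¹ * φ v) = 1 := by
        rw [map_mul, map_inv]
        have : pi (T : Subgroup G) (φ v) = pi (T : Subgroup G) (φ w) := hvw
        rw [this]; simp
      have h2 : ((φ w : G))⁻¹ * (φ v : G) ∈ (T : Subgroup G) := by
        simpa using pi_eq_one_iff.1 h1
      have h3 := hzc _ h2
      apply Subtype.ext
      apply Subtype.ext
      rw [← hφ v, ← hφ w]
      have e5 : (φ v : G) = (φ w : G) * (((φ w : G))⁻¹ * (φ v : G)) := by group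
      calc (φ v : G) * z * (φ v : G)⁻¹ = (φ w : G) * ((((φ w : G))⁻¹ * (φ v : G)) * z) * (φ v : G)⁻¹ := by group
        _ = (φ w : G) * (z * (((φ w : G))⁻¹ * (φ v : G))) * (φ v : G)⁻¹ := by rw [h3]
        _ = _ := by group
    have h1 := Nat.card_le_card_of_injective f hf
    haveI := Fintype.ofFinite V
    have e : Nat.card {d : V // d ≠ 1} = Nat.card V - 1 := by
      rw [Nat.card_eq_fintype_card, Nat.card_eq_fintype_card, Fintype.card_subtype_compl,
        Fintype.card_subtype_eq]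
    rwa [e] at h1
  have hVpos : 2 ≤ Nat.card V := by
    have h1 : Nat.card V ≠ 1 := by
      intro e
      have h2 := Subgroup.eq_bot_of_card_eq V e
      rw [h2, Subgroup.mem_bot] at hzV
      exact hz1 hzV
    have h2 : 0 < Nat.card V := Nat.card_pos
    omega
  have hVp : IsPGroup 2 V := T.2.to_le (fun x hx => hx.1)
  obtain ⟨k, hk⟩ := IsPGroup.iff_card.1 hVp
  -- the cases
  have hb' : b = 0 ∨ b = 1 := by omega
  have hc' : c = 0 ∨ c = 1 := by omega
  rcases hb' with rfl | rfl <;> rcases hc' with rfl | rfl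
  · exfalso
    apply hg1
    have h1 : Nat.card (QQ (T : Subgroup G)) = 1 := by rw [hcard]; rfl
    haveI : Subsingleton (QQ (T : Subgroup G)) := (Nat.card_eq_one_iff_unique.1 h1).1
    exact Subsingleton.elim _ _
  · exfalso
    have h5 := hlift (Or.inr rfl) (by rw [hcard]; decide)
    have h6 : Nat.card (QQ (T : Subgroup G)) = 5 := by rw [hcard]; rfl
    rw [h6] at hle
    have h7 : Nat.card V = 6 := by omega
    rw [hk] at h7
    rcases k with _ | _ | _ | k
    · simp at h7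
    · simp at h7
    · simp at h7
    · have : 2 ^ 3 ≤ 2 ^ (k + 1 + 1 + 1) := Nat.pow_le_pow_right (by norm_num) (by omega)
      omega
  · have h5 := hlift (Or.inl rfl) (by rw [hcard]; decide)
    have h6 : Nat.card (QQ (T : Subgroup G)) = 3 := by rw [hcard]; rfl
    rw [h6] at hle
    omega
  · -- order `15`: the normalizer is solvable
    exfalso
    have h15 : Nat.card (QQ (T : Subgroup G)) = 3 ^ 1 * 5 ^ 1 := hcard
    haveI : Group.IsSolvable (QQ (T : Subgroup G)) :=
      Cfsg.Agent.Lib.Char.Burnside.isSolvable_of_card_eq 3 5 1 1 Nat.prime_three Nat.prime_five h15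
    haveI : Group.IsNilpotent (DD (T : Subgroup G)) := hD'.isNilpotent
    haveI : Group.IsSolvable (NN (T : Subgroup G)) :=
      Group.isSolvable_of_ker_le_range (DD (T : Subgroup G)).subtype (pi (T : Subgroup G)) (by
        intro x hx
        have h1 : x ∈ DD (T : Subgroup G) := pi_eq_one_iff.1 hx
        exact ⟨⟨x, h1⟩, rfl⟩)
    have hNc := card_nn T
    refine Cfsg.Agent.Lib.Ord5.Sol3.not_three_primes hM ?_ ?_ ?_
    · rw [hNc]
      have h1 : 2 ∣ Nat.card T := by
        obtain ⟨j, hj⟩ := orderOf_mem Nat.prime_two T.2 hzT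
        have h2 : orderOf z ∣ Nat.card T := Subgroup.orderOf_dvd_natCard _ hzT
        rw [orderOf_invol hz2 hz1] at h2
        exact h2
      exact Dvd.dvd.mul_left h1 _
    · rw [hNc, h15]
      exact Dvd.dvd.mul_right (by decide) _
    · rw [hNc, h15]
      exact Dvd.dvd.mul_right (by decide) _

/-- The bound on `|T|` in the case of trivial intersections. -/
theorem card_le : Nat.card T ≤ 256 := by
  have hcen : ∀ u ∈ (T : Subgroup G), u * u = 1 → ∀ t ∈ (T : Subgroup G), t * u = u * t := by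
    intro u hu hu2 t ht
    by_cases hu1 : u = 1
    · rw [hu1]; simp
    · exact central_of_invol T hTI hS hn2 hzT hzc hz1 hz2 hu hu2 hu1 t ht
  have h4 := card_vv T hTI hS hn2 hzT hzc hz1 hz2 hzg hgz hcen
  let V' : Subgroup (T : Subgroup G) := (vv T hcen).subgroupOf (T : Subgroup G)
  have hle : vv T hcen ≤ (T : Subgroup G) := fun x hx => hx.1
  have hc : Nat.card V' = 4 := by
    rw [← h4]
    exact Nat.card_congr (Subgroup.subgroupOfEquivOfLe hle).toEquiv
  refine Cfsg.Agent.Lib.Ord5.TIBound.card_le V' ?_ ?_ hc ?_ ?_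
  · intro v hv t
    apply Subtype.ext
    exact hcen v v.2 hv.2 t t.2
  · intro v hv
    apply Subtype.ext
    exact hv.2
  · intro t
    refine ⟨T.1.mul_mem t.2 t.2, ?_⟩
    have h5 := pow_four_mem hS T.2 t.2
    change (t : G) * t * ((t : G) * t) = 1
    rw [← h5]
    simp only [pow_succ, pow_zero, one_mul, mul_assoc]
  · intro t ht
    refine ⟨t.2, ?_⟩
    exact congrArg Subtype.val ht

end Main

end Cfsg.Agent.Lib.Ord5.TI2
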