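import Cfsg.Agent.Lib.Ord5.Fpf
import Cfsg.Agent.Lib.ZStar.Cor
import Cfsg.Agent.Lib.Char.Burnside
import Cfsg.Agent.Lib.Solvable.EPPO2
import Cfsg.Agent.S3999

/-!
# The configuration excluded by the trivial intersection argument
-/

set_option autoImplicit false
set_option linter.style.haveILetI false
set_option linter.unusedSectionVars false

namespace Cfsg.Agent.Lib.Ord5.TICore

open Cfsg Cfsg.Agent.Lib.Ord5.Basic Cfsg.Agent.Lib.Ord5.Fpf Cfsg.Agent.Lib.Solvable.Basic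

universe u

variable {Γ : Type u} [Group Γ] [Finite Γ]

/-- The Klein four-group generated by two commuting involutions. -/
def vFour (a b : Γ) (ha : a * a = 1) (hb : b * b = 1) (hc : a * b = b * a) : Subgroup Γ where
  carrier := {x | x = 1 ∨ x = a ∨ x = b ∨ x = a * b}
  one_mem' := Or.inl rfl
  inv_mem' := by
    have e1 : a⁻¹ = a := inv_eq_of_mul_eq_one_left ha
    have e2 : b⁻¹ = b := inv_eq_of_mul_eq_one_left hb
    have e3 : b * a = a * b := hc.symm
    intro x hx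
    have hx' : x = 1 ∨ x = a ∨ x = b ∨ x = a * b := hx
    change x⁻¹ = 1 ∨ x⁻¹ = a ∨ x⁻¹ = b ∨ x⁻¹ = a * b
    rcases hx' with h | h | h | h <;> rw [h]
    · exact Or.inl inv_one
    · exact Or.inr (Or.inl e1)
    · exact Or.inr (Or.inr (Or.inl e2))
    · refine Or.inr (Or.inr (Or.inr ?_))
      rw [mul_inv_rev, e1, e2, e3]
  mul_mem' := by
    have e3 : b * a = a * b := hc.symm
    have e1 : a * b * a = b := by rw [mul_assoc, e3, ← mul_assoc, ha, one_mul]
    have e2 : a * b * b = a := by rw [mul_assoc, hb, mul_one]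
    have e4 : b * (a * b) = a := by rw [← mul_assoc, e3, e2]
    have e5 : a * (a * b) = b := by rw [← mul_assoc, ha, one_mul]
    have e6 : a * b * (a * b) = 1 := by rw [← mul_assoc, e1, hb]
    intro x y hx hy
    have hx' : x = 1 ∨ x = a ∨ x = b ∨ x = a * b := hx
    have hy' : y = 1 ∨ y = a ∨ y = b ∨ y = a * b := hy
    change x * y = 1 ∨ x * y = a ∨ x * y = b ∨ x * y = a * b
    rcases hx' with h | h | h | h <;> rcases hy' with h' | h' | h' | h' <;> rw [h, h'] <;>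
      simp only [one_mul, mul_one, ha, hb, e1, e2, e3, e4, e5, e6] <;> simp

theorem mem_vFour_left (a b : Γ) (ha : a * a = 1) (hb : b * b = 1) (hc : a * b = b * a) :
    a ∈ vFour a b ha hb hc := by
  change a = 1 ∨ a = a ∨ a = b ∨ a = a * b
  exact Or.inr (Or.inl rfl)

theorem mem_vFour_right (a b : Γ) (ha : a * a = 1) (hb : b * b = 1) (hc : a * b = b * a) :
    b ∈ vFour a b ha hb hc := by
  change b = 1 ∨ b = a ∨ b = b ∨ b = a * b
  exact Or.inr (Or.inr (Or.inl rfl))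

theorem isPGroup_vFour (a b : Γ) (ha : a * a = 1) (hb : b * b = 1) (hc : a * b = b * a) :
    IsPGroup 2 (vFour a b ha hb hc) := by
  have e3 : b * a = a * b := hc.symm
  have e1 : a * b * a = b := by rw [mul_assoc, e3, ← mul_assoc, ha, one_mul]
  have e6 : a * b * (a * b) = 1 := by rw [← mul_assoc, e1, hb]
  rintro ⟨x, hx⟩
  refine ⟨1, Subtype.ext ?_⟩
  change x ^ (2 ^ 1) = 1
  rw [pow_one, pow_two]
  have hx' : x = 1 ∨ x = a ∨ x = b ∨ x = a * b := hx
  rcases hx' with rfl | rfl | rfl | rfl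
  · simp
  · exact ha
  · exact hb
  · exact e6

/-- Normal `r`-subgroups are trivial when `p`-elements exist. -/
theorem normal_r_eq_bot (hΓ : IsO Γ) {p r : ℕ} (hpr : (p = 3 ∧ r = 5) ∨ (p = 5 ∧ r = 3))
    (hp : p ∣ Nat.card Γ) (hOr : ∀ R : Subgroup Γ, IsPGroup r R → Nat.card R ≤ r)
    (R : Subgroup Γ) (hRn : R.Normal) (hR : IsPGroup r R) : R = ⊥ := by
  have hpp : p.Prime := by rcases hpr with ⟨rfl, rfl⟩ | ⟨rfl, rfl⟩ <;> norm_num
  have hrp : r.Prime := by rcases hpr with ⟨rfl, rfl⟩ | ⟨rfl, rfl⟩ <;> norm_num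
  haveI : Fact p.Prime := ⟨hpp⟩
  haveI : Fact r.Prime := ⟨hrp⟩
  by_contra hne
  obtain ⟨k, hk⟩ := IsPGroup.iff_card.1 hR
  have h1 := hOr R hR
  have hcard : Nat.card R = r := by
    rcases Nat.eq_zero_or_pos k with rfl | hk0
    · exact absurd (Subgroup.eq_bot_of_card_eq R (by simpa using hk)) hne
    · have : k = 1 := by
        by_contra hk1
        have h2 : r ^ 2 ≤ r ^ k := Nat.pow_le_pow_right hrp.pos (by omega)
        rw [← hk] at h2
        rcases hpr with ⟨rfl, rfl⟩ | ⟨rfl, rfl⟩ <;> omega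
      rw [hk, this, pow_one]
  obtain ⟨g, hg⟩ := exists_prime_orderOf_dvd_card' p hp
  obtain ⟨z, hz1⟩ := Subgroup.ne_bot_iff_exists_ne_one.1 hne
  have hz1' : (z : Γ) ≠ 1 := fun h => hz1 (Subtype.ext h)
  have hco : Nat.Coprime p (r - 1) := by
    rcases hpr with ⟨rfl, rfl⟩ | ⟨rfl, rfl⟩ <;> norm_num
  have hcomm := Cfsg.Agent.S3999.commute_of_normal_prime hpp hrp hco R hRn hcard g
    (by rw [← hg]; exact pow_orderOf_eq_one g) z z.2
  obtain ⟨j, hj⟩ := orderOf_mem hrp hR z.2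
  have hg' : orderOf g = p ^ 1 := by rw [hg, pow_one]
  have hpr' : p ≠ r := by rcases hpr with ⟨rfl, rfl⟩ | ⟨rfl, rfl⟩ <;> norm_num
  rcases eq_one_of_commute_pow hΓ hpp hrp hpr' hg' hj hcomm with h | h
  · rw [h, orderOf_one] at hg
    exact hpp.one_lt.ne hg
  · exact hz1' h

/-- A nontrivial normal subgroup of odd order contains a normal `3`- or `5`-subgroup. -/
theorem exists_normal_of_odd (hΓ : IsO Γ) (Y : Subgroup Γ) (hYn : Y.Normal) (hY1 : Y ≠ ⊥)
    (hYo : Nat.Coprime (Nat.card Y) 2) :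
    ∃ (N : Subgroup Γ) (q : ℕ), N.Normal ∧ N ≠ ⊥ ∧ (q = 3 ∨ q = 5) ∧ IsPGroup q N := by
  obtain ⟨N, hN, hNY⟩ := exists_isMinNormal_le Y hYn hY1
  have hNo : Nat.Coprime (Nat.card N) 2 :=
    Nat.Coprime.coprime_dvd_left (Subgroup.card_dvd_of_le hNY) hYo
  obtain ⟨a, b, c, habc⟩ := (hΓ.subgroup N).card_eq
  have ha : a = 0 := by
    by_contra ha
    have : 2 ∣ Nat.card N := by
      rw [habc]
      exact Dvd.dvd.mul_right (Dvd.dvd.mul_right (dvd_pow_self 2 ha) _) _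
    have h1 := Nat.Coprime.coprime_dvd_left this hNo
    exact absurd h1 (by norm_num)
  have hcard : Nat.card N = 3 ^ b * 5 ^ c := by rw [habc, ha]; simp
  have hs : Group.IsSolvable N :=
    Cfsg.Agent.Lib.Char.Burnside.isSolvable_of_card_eq 3 5 b c (by norm_num) (by norm_num) hcard
  have hcomm := Cfsg.Agent.Lib.Solvable.EPPO2.isMinNormal_comm_of_solvable hN hs
  obtain ⟨q, hq, hexp⟩ := Cfsg.Agent.Lib.Solvable.EPPO2.isMinNormal_exponent_of_comm hN hcomm
  have hNp : IsPGroup q N := isPGroup_of_pow_eq_one hexp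
  refine ⟨N, q, hN.1, hN.2.1, ?_, hNp⟩
  haveI : Fact q.Prime := ⟨hq⟩
  haveI : Nontrivial N := (Subgroup.nontrivial_iff_ne_bot N).2 hN.2.1
  obtain ⟨n, hn⟩ := IsPGroup.iff_card.1 hNp
  have hq1 : q ∣ Nat.card N := by
    rw [hn]
    refine dvd_pow_self q ?_
    rintro rfl
    have h := Finite.one_lt_card (α := N)
    rw [hn] at h
    simp at h
  rw [hcard] at hq1
  rcases (Nat.Prime.dvd_mul hq).1 hq1 with h | h
  · exact Or.inl ((Nat.prime_dvd_prime_iff_eq hq Nat.prime_three).1 (hq.dvd_of_dvd_pow h))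
  · exact Or.inr ((Nat.prime_dvd_prime_iff_eq hq Nat.prime_five).1 (hq.dvd_of_dvd_pow h))

theorem ti_core (hΓ : IsO Γ) {p r : ℕ} (hpr : (p = 3 ∧ r = 5) ∨ (p = 5 ∧ r = 3))
    (hp : p ∣ Nat.card Γ) (hOp : ∀ X : Subgroup Γ, X.Normal → IsPGroup p X → X = ⊥)
    (hOr : ∀ R : Subgroup Γ, IsPGroup r R → Nat.card R ≤ r)
    (h2 : ∀ a b : Γ, a * a = 1 → b * b = 1 → a ≠ 1 → b ≠ 1 → a * b = b * a → a = b) : False := by
  have hpp : p.Prime := by rcases hpr with ⟨rfl, rfl⟩ | ⟨rfl, rfl⟩ <;> norm_num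
  haveI : Fact p.Prime := ⟨hpp⟩
  have hno : ∀ Y : Subgroup Γ, Y.Normal → Nat.Coprime (Nat.card Y) 2 → Y = ⊥ := by
    intro Y hYn hYo
    by_contra hY1
    obtain ⟨N, q, hNn, hN1, hq, hNp⟩ := exists_normal_of_odd hΓ Y hYn hY1 hYo
    have : q = p ∨ q = r := by
      rcases hpr with ⟨rfl, rfl⟩ | ⟨rfl, rfl⟩ <;> rcases hq with rfl | rfl <;> simp
    rcases this with rfl | rfl
    · exact hN1 (hOp N hNn hNp)
    · exact hN1 (normal_r_eq_bot hΓ hpr hp hOr N hNn hNp)
  have hY : pPrimeCore 2 Γ = ⊥ :=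
    hno _ inferInstance Cfsg.Agent.Lib.Core.Basic.pPrimeCore_coprime
  obtain ⟨g, hg⟩ := exists_prime_orderOf_dvd_card' p hp
  have hg1 : g ≠ 1 := by
    rintro rfl
    rw [orderOf_one] at hg
    exact hpp.one_lt.ne hg
  by_cases heven : 2 ∣ Nat.card Γ
  · haveI : Fact (Nat.Prime 2) := ⟨Nat.prime_two⟩
    obtain ⟨z, hz⟩ := exists_prime_orderOf_dvd_card' 2 heven
    have hz2 : z * z = 1 := by rw [← pow_two, ← hz]; exact pow_orderOf_eq_one z
    have hz1 : z ≠ 1 := by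
      rintro rfl
      rw [orderOf_one] at hz
      omega
    have hiso : IsIsolatedInvolution z := by
      refine ⟨hz, fun x hx => ?_⟩
      have e : x * z * x⁻¹ * (x * z * x⁻¹) = 1 := by
        calc x * z * x⁻¹ * (x * z * x⁻¹) = x * (z * z) * x⁻¹ := by group
          _ = 1 := by rw [hz2]; group
      have e1 : x * z * x⁻¹ ≠ 1 := by
        intro h
        apply hz1
        have : z = x⁻¹ * (x * z * x⁻¹) * x := by group
        rw [this, h]; group
      exact (h2 z _ hz2 e hz1 e1 hx).symm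
    have hcen := Cfsg.Agent.Lib.ZStar.Cor.zstar' hiso g
    rw [hY, Subgroup.mem_bot] at hcen
    have hcomm : Commute z g := by
      have h3 : z * g * z⁻¹ = g := mul_inv_eq_one.1 hcen
      exact mul_inv_eq_iff_eq_mul.1 h3
    have hz' : orderOf z = 2 ^ 1 := by rw [hz, pow_one]
    have hg' : orderOf g = p ^ 1 := by rw [hg, pow_one]
    have hne : (2 : ℕ) ≠ p := by rcases hpr with ⟨rfl, rfl⟩ | ⟨rfl, rfl⟩ <;> norm_num
    rcases eq_one_of_commute_pow hΓ Nat.prime_two hpp hne hz' hg' hcomm with h | h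
    · exact hz1 h
    · exact hg1 h
  · have htop : (⊤ : Subgroup Γ) = ⊥ := by
      apply hno _ inferInstance
      rw [Subgroup.card_top]
      exact (Nat.Prime.coprime_iff_not_dvd Nat.prime_two).2 heven |>.symm
    have : g ∈ (⊤ : Subgroup Γ) := trivial
    rw [htop, Subgroup.mem_bot] at this
    exact hg1 this

end Cfsg.Agent.Lib.Ord5.TICore
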