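import Cfsg.Agent.Lib.Ord5.Simple
import Cfsg.Agent.Lib.ThreeCl.Tools
import Cfsg.Agent.Lib.Solvable.Basic
import Cfsg.Agent.S0494
import Cfsg.Agent.S0497

/-!
# The quotient by the solvable radical
-/

set_option autoImplicit false
set_option linter.style.haveILetI false
set_option linter.unusedSectionVars false

namespace Cfsg.Agent.Lib.Ord5.Top

open Subgroup Cfsg.Agent.Lib.Ord5.Basic Cfsg.Agent.Lib.Ord5.Fpf Cfsg.Agent.Lib.Ord5.Local
open Cfsg.Agent.Lib.Ord5.Count Cfsg.Agent.Lib.Ord5.OddNorm Cfsg.Agent.Lib.Ord5.Two3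
open Cfsg.Agent.Lib.Ord5.Classes Cfsg.Agent.Lib.Ord5.Two2
open Cfsg.Agent.Lib.Solvable.Basic
open Cfsg

universe u

variable {H : Type u} [Group H] [Finite H]

/-- A minimal normal subgroup of a group without solvable normal subgroups is simple. -/
theorem simple_of_min (hS : IsO H) (hnr : ∀ M : Subgroup H, M.Normal → Group.IsSolvable M → M = ⊥)
    (L : Subgroup H) (hL : IsMinNormal L) : IsSimpleGroup L ∧ ¬ IsMulCommutative L := by
  classical
  obtain ⟨hLn, hL1, hmin⟩ := hL
  haveI := hLn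
  haveI : Nontrivial L := (Subgroup.nontrivial_iff_ne_bot L).2 hL1
  have hns : ¬ Group.IsSolvable L := fun hs => hL1 (hnr L hLn hs)
  have hnc : ¬ IsMulCommutative L := by
    intro hc
    apply hns
    exact Group.isSolvable_of_comm (fun a b => hc.is_comm.comm a b)
  refine ⟨?_, hnc⟩
  -- the family of nontrivial subgroups normalized by `L`
  have hwf : WellFoundedLT (Subgroup H) := inferInstance
  let 𝒮 : Set (Subgroup H) := {X | X ≤ L ∧ X ≠ ⊥ ∧ ∀ l ∈ L, ∀ x ∈ X, l * x * l⁻¹ ∈ X}
  obtain ⟨X, hX, hXmin⟩ := hwf.wf.has_min 𝒮 ⟨L, le_rfl, hL1, fun l hl x hx =>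
    L.mul_mem (L.mul_mem hl hx) (L.inv_mem hl)⟩
  obtain ⟨hXL, hX1, hXn⟩ := hX
  have hXeq : X = L := by
    by_contra hne
    have hnotn : ¬ X.Normal := by
      intro hn
      rcases hmin X hn hXL with h | h
      · exact hX1 h
      · exact hne h
    obtain ⟨g, x₀, hx₀, hgx₀⟩ : ∃ g x₀, x₀ ∈ X ∧ g * x₀ * g⁻¹ ∉ X := by
      by_contra hcon
      push Not at hcon
      apply hnotn
      exact ⟨fun x hx g => hcon g x hx⟩
    let Y : Subgroup H := X.map (MulAut.conj g).toMonoidHom
    have hmemY : ∀ x ∈ X, g * x * g⁻¹ ∈ Y := fun x hx => ⟨x, hx, rfl⟩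
    have hYL : Y ≤ L := by
      rintro _ ⟨x, hx, rfl⟩
      exact hLn.conj_mem x (hXL hx) g
    have hYn : ∀ l ∈ L, ∀ y ∈ Y, l * y * l⁻¹ ∈ Y := by
      rintro l hl _ ⟨x, hx, rfl⟩
      have h1 : g⁻¹ * l * g ∈ L := by
        have := hLn.conj_mem l hl g⁻¹
        simpa using this
      have h2 := hXn _ h1 x hx
      have e : l * (MulAut.conj g).toMonoidHom x * l⁻¹ = g * (g⁻¹ * l * g * x * (g⁻¹ * l * g)⁻¹) * g⁻¹ := by
        simp only [MulEquiv.coe_toMonoidHom, MulAut.conj_apply]
        group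
      rw [e]
      exact hmemY _ h2
    have hinter : X ⊓ Y = ⊥ := by
      by_contra hb
      have h1 : X ⊓ Y ∈ 𝒮 := ⟨inf_le_left.trans hXL, hb, fun l hl x hx =>
        ⟨hXn l hl x hx.1, hYn l hl x hx.2⟩⟩
      have h2 : ¬ (X ⊓ Y < X) := hXmin _ h1
      have h3 : X ⊓ Y = X := by
        by_contra hne2
        exact h2 (lt_of_le_of_ne inf_le_left hne2)
      have h4 : X ≤ Y := inf_eq_left.1 h3
      have h5 : Nat.card Y ≤ Nat.card X :=
        le_of_eq (Nat.card_congr (Subgroup.equivMapOfInjective X _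
          (MulAut.conj g).injective).toEquiv.symm)
      have h6 := Subgroup.eq_of_le_of_card_ge h4 h5
      apply hgx₀
      rw [h6]
      exact hmemY _ hx₀
    have hcomm : ∀ x ∈ X, ∀ y ∈ Y, x * y = y * x := by
      intro x hx y hy
      have h1 : x * y * x⁻¹ * y⁻¹ ∈ X ⊓ Y := by
        refine ⟨?_, Y.mul_mem (hYn x (hXL hx) y hy) (Y.inv_mem hy)⟩
        have h2 := hXn y (hYL hy) x⁻¹ (X.inv_mem hx)
        have e : x * y * x⁻¹ * y⁻¹ = x * (y * x⁻¹ * y⁻¹) := by group
        rw [e]
        exact X.mul_mem hx h2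
      rw [hinter, Subgroup.mem_bot] at h1
      calc x * y = (x * y * x⁻¹ * y⁻¹) * (y * x) := by group
        _ = y * x := by rw [h1, one_mul]
    -- `X` is a `q`-group
    have hXc : Nat.card X ≠ 1 := fun e => hX1 (Subgroup.eq_bot_of_card_eq X e)
    obtain ⟨q, hq, hqd⟩ := Nat.exists_prime_and_dvd hXc
    haveI : Fact q.Prime := ⟨hq⟩
    obtain ⟨u, hu⟩ := exists_prime_orderOf_dvd_card' q hqd
    have huu : orderOf (u : H) = q := by rw [Subgroup.orderOf_coe, hu]
    have hall : ∀ {r : ℕ}, r.Prime → r ∣ Nat.card X → r = q := by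
      intro r hr hrd
      by_contra hrq
      haveI : Fact r.Prime := ⟨hr⟩
      obtain ⟨v, hv⟩ := exists_prime_orderOf_dvd_card' r hrd
      have hvv : orderOf (g * (v : H) * g⁻¹) = r := by
        rw [← hv, ← Subgroup.orderOf_coe]
        simpa using (MulAut.conj g).orderOf_eq (v : H)
      have hc : Commute (u : H) (g * (v : H) * g⁻¹) := hcomm u u.2 _ (hmemY v v.2)
      have hco : Nat.Coprime (orderOf (u : H)) (orderOf (g * (v : H) * g⁻¹)) := by
        rw [huu, hvv]
        exact (Nat.coprime_primes hq hr).2 (Ne.symm hrq)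
      rcases hS.eq_one_of_coprime hc hco with e | e
      · rw [e, orderOf_one] at huu
        exact hq.one_lt.ne huu
      · rw [e, orderOf_one] at hvv
        exact hr.one_lt.ne hvv
    have hXp : IsPGroup q X := by
      apply IsPGroup.of_card (n := (Nat.card X).primeFactorsList.length)
      exact Nat.eq_prime_pow_of_unique_prime_dvd Nat.card_pos.ne' (fun {d} hd hdd => hall hd hdd)
    -- so it lies in the core
    have hsub : X.IsSubnormal := by
      refine IsSubnormal.step X L hXL hLn.isSubnormal ?_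
      refine ⟨fun x hx l => ?_⟩
      exact hXn l l.2 x hx
    have h1 := Cfsg.Agent.Lib.Core.Basic.le_pCore_of_isSubnormal (p := q) hsub hXp
    have h2 : IsPGroup q (Cfsg.pCore q H) := Cfsg.Agent.Lib.Core.Basic.pCore_isPGroup
    haveI : Group.IsNilpotent (Cfsg.pCore q H) := h2.isNilpotent
    have h3 := hnr (Cfsg.pCore q H) inferInstance inferInstance
    rw [h3] at h1
    exact hX1 (le_bot_iff.1 h1)
  -- conclusion
  refine ⟨fun N hN => ?_⟩
  by_cases hb : N = ⊥
  · exact Or.inl hb
  · right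
    let X' : Subgroup H := N.map L.subtype
    have hX'1 : X' ≠ ⊥ := by
      intro h
      apply hb
      have := (Subgroup.map_eq_bot_iff_of_injective N L.subtype_injective).1 h
      exact this
    have hX'mem : X' ∈ 𝒮 := by
      refine ⟨?_, hX'1, ?_⟩
      · rintro _ ⟨x, -, rfl⟩
        exact x.2
      · rintro l hl _ ⟨x, hx, rfl⟩
        exact ⟨⟨l, hl⟩ * x * ⟨l, hl⟩⁻¹, hN.conj_mem x hx _, rfl⟩
    have h1 : ¬ (X' < X) := hXmin _ hX'mem
    have h2 : X' ≤ X := by
      rw [hXeq]
      rintro _ ⟨x, -, rfl⟩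
      exact x.2
    have h3 : X' = L := by
      rw [← hXeq]
      by_contra hne2
      exact h1 (lt_of_le_of_ne h2 hne2)
    rw [eq_top_iff]
    intro x _
    have h4 : (x : H) ∈ X' := by rw [h3]; exact x.2
    obtain ⟨y, hy, hyx⟩ := h4
    have : y = x := Subtype.ext hyx
    rwa [← this]

/-- An involution of `A₆`. -/
def x₀ : alternatingGroup (Fin 6) :=
  ⟨Equiv.swap 0 1 * Equiv.swap 2 3, Equiv.Perm.mem_alternatingGroup.2 (by decide)⟩

/-- An involution of `A₆`. -/
def y₀ : alternatingGroup (Fin 6) :=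
  ⟨Equiv.swap 0 1 * Equiv.swap 4 5, Equiv.Perm.mem_alternatingGroup.2 (by decide)⟩

/-- An involution of `A₆`. -/
def c₀ : alternatingGroup (Fin 6) :=
  ⟨Equiv.swap 0 2 * Equiv.swap 4 5, Equiv.Perm.mem_alternatingGroup.2 (by decide)⟩

theorem a6_x : x₀ * x₀ = 1 := by decide
theorem a6_y : y₀ * y₀ = 1 := by decide
theorem a6_c : c₀ * c₀ = 1 := by decide
theorem a6_x1 : x₀ ≠ 1 := by decide
theorem a6_xy : (x₀ * y₀) ^ 2 = 1 := by decide
theorem a6_xc : (x₀ * c₀) ^ 4 = 1 := by decide
theorem a6_yc : (y₀ * c₀) ^ 3 = 1 := by decide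
theorem a6_yc1 : y₀ * c₀ ≠ 1 := by decide

section Main

variable (hS : IsO H) (hnr : ∀ M : Subgroup H, M.Normal → Group.IsSolvable M → M = ⊥)
  (L : Subgroup H) [hLn : L.Normal] [hLs : IsSimpleGroup L] (hnc : ¬ IsMulCommutative L)

include hS

omit hLs in
/-- Frattini: the order of the normalizer of a Sylow subgroup of a normal subgroup. -/
theorem card_frattini {p : ℕ} [hp : Fact p.Prime] (B : Sylow p L) :
    Nat.card (normalizer (((B : Subgroup L).map L.subtype : Subgroup H) : Set H)) =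
      Nat.card (L ⊓ normalizer (((B : Subgroup L).map L.subtype : Subgroup H) : Set H) : Subgroup H) *
        L.index := by
  set N := normalizer (((B : Subgroup L).map L.subtype : Subgroup H) : Set H) with hN
  have h1 : N ⊔ L = ⊤ := Sylow.normalizer_sup_eq_top B
  have h2 : L.relIndex N = L.index := by
    rw [← Subgroup.relIndex_sup_right N L, h1, Subgroup.relIndex_top_right]
  rw [← h2]
  have h3 := Subgroup.card_mul_index (L.subgroupOf N)
  have h4 : Nat.card (L.subgroupOf N) = Nat.card (L ⊓ N : Subgroup H) := by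
    rw [← Subgroup.inf_subgroupOf_right]
    exact Nat.card_congr (Subgroup.subgroupOfEquivOfLe inf_le_right).toEquiv
  rw [h4] at h3
  exact h3.symm

omit hLs in
/-- A prime `q` dividing the index gives an element normalizing `B`, acting freely. -/
theorem dvd_of_dvd_index {p q : ℕ} [hp : Fact p.Prime] (hq : q = 3 ∨ q = 5) (hpq : p ≠ q) (B : Sylow p L)
    (hd : q ∣ L.index) : q ∣ Nat.card B - 1 := by
  have hqp : q.Prime := by rcases hq with rfl | rfl <;> norm_num
  haveI : Fact q.Prime := ⟨hqp⟩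
  set N := normalizer (((B : Subgroup L).map L.subtype : Subgroup H) : Set H) with hN
  have h1 : q ∣ Nat.card N := by
    rw [hN, card_frattini hS]
    exact Dvd.dvd.mul_left hd _
  obtain ⟨g, hg⟩ := exists_prime_orderOf_dvd_card' q h1
  have hg' : orderOf (g : H) = q := by rw [Subgroup.orderOf_coe, hg]
  have hBc : Nat.card ((B : Subgroup L).map L.subtype : Subgroup H) = Nat.card B :=
    (Nat.card_congr (Subgroup.equivMapOfInjective (B : Subgroup L) _ L.subtype_injective).toEquiv).symm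
  have hBp : IsPGroup p ((B : Subgroup L).map L.subtype : Subgroup H) := B.2.map _
  have h2 := card_dvd_card_sub_one (zpowers (g : H)) ((B : Subgroup L).map L.subtype : Subgroup H)
    (Subgroup.zpowers_le.2 g.2) (by
    intro k hk d hd hc
    have hk' : orderOf k ∣ q := by
      rw [← hg']
      exact orderOf_dvd_of_mem_zpowers hk
    obtain ⟨j, hj⟩ := orderOf_mem hp.out hBp hd
    have hco : Nat.Coprime (orderOf k) (orderOf d) := by
      rw [hj]
      exact Nat.Coprime.coprime_dvd_left hk' (Nat.Coprime.pow_right _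
        ((Nat.coprime_primes hqp hp.out).2 hpq.symm))
    exact hS.eq_one_of_coprime hc hco)
  rwa [Nat.card_zpowers, hg', hBc] at h2

include hnc in
/-- The number `3` does not divide the index when `|L| = 60`. -/
theorem not_three_dvd_sixty (h60 : Nat.card L = 60) : ¬ 3 ∣ L.index := by
  intro hd
  haveI : Fact (Nat.Prime 2) := ⟨Nat.prime_two⟩
  haveI : Fact (Nat.Prime 3) := ⟨Nat.prime_three⟩
  have hm := Cfsg.Agent.Lib.Small.Sieve.card_sylow_mem_candidates (G := L) (p := 2) (k := 2) (m := 15)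
    hnc h60 (by norm_num) (by norm_num) (by norm_num)
  have hc : Cfsg.Agent.Lib.Small.Sieve.candidates 60 2 2 15 = [5] := by decide +kernel
  rw [hc, List.mem_singleton] at hm
  obtain ⟨B⟩ : Nonempty (Sylow 2 L) := inferInstance
  have h1 : Nat.card (Sylow 2 L) = (normalizer ((B : Subgroup L) : Set L)).index :=
    Sylow.card_eq_index_normalizer B
  rw [hm] at h1
  have h2 := Subgroup.card_mul_index (normalizer ((B : Subgroup L) : Set L))
  rw [← h1, h60] at h2
  have h3 : Nat.card (normalizer ((B : Subgroup L) : Set L)) = 12 := by omega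
  obtain ⟨s, hs⟩ := exists_prime_orderOf_dvd_card' (G := normalizer ((B : Subgroup L) : Set L)) 3
    (by rw [h3]; decide)
  set N := normalizer (((B : Subgroup L).map L.subtype : Subgroup H) : Set H) with hN
  have hsN : (((s : L) : H)) ∈ N := by
    rw [hN, Subgroup.mem_normalizer_iff]
    intro y
    have hsB := Subgroup.mem_normalizer_iff.1 s.2
    constructor
    · rintro ⟨b, hb, rfl⟩
      refine ⟨(s : L) * b * (s : L)⁻¹, (hsB b).1 hb, ?_⟩
      simp
    · rintro ⟨b, hb, hbe⟩
      have hyL : y ∈ L := by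
        have e : y = ((s : L) : H)⁻¹ * L.subtype b * ((s : L) : H) := by
          rw [hbe]; group
        rw [e]
        exact L.mul_mem (L.mul_mem (L.inv_mem (s : L).2) b.2) (s : L).2
      refine ⟨⟨y, hyL⟩, (hsB ⟨y, hyL⟩).2 ?_, rfl⟩
      have e : b = (s : L) * ⟨y, hyL⟩ * (s : L)⁻¹ := by
        apply Subtype.ext
        simpa using hbe
      rwa [← e]
  have h4 : 3 ∣ Nat.card (L ⊓ N : Subgroup H) := by
    have h5 := Subgroup.orderOf_dvd_natCard (L ⊓ N) (x := (((s : L) : H))) ⟨(s : L).2, hsN⟩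
    have h6 : orderOf (((s : L) : H)) = 3 := by
      rw [Subgroup.orderOf_coe, Subgroup.orderOf_coe, hs]
    rwa [h6] at h5
  have h7 : 3 ^ 2 ∣ Nat.card N := by
    rw [hN, card_frattini hS, ← hN, pow_two]
    exact Nat.mul_dvd_mul h4 hd
  obtain ⟨R, hR⟩ := Sylow.exists_subgroup_card_pow_prime 3 h7
  have hRp : IsPGroup 3 R := IsPGroup.of_card hR
  have hM : IsO (NN ((B : Subgroup L).map L.subtype : Subgroup H)) := hS.subgroup _
  have hBp : IsPGroup 2 ((B : Subgroup L).map L.subtype : Subgroup H) := B.2.map _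
  have hD' : IsPGroup 2 (DD ((B : Subgroup L).map L.subtype : Subgroup H)) := hBp.comap_subtype
  have hD1 : DD ((B : Subgroup L).map L.subtype : Subgroup H) ≠ ⊥ := by
    -- `B` is nontrivial since `2` divides the order of `L`
    have hB1 : (B : Subgroup L) ≠ ⊥ :=
      Cfsg.Agent.Lib.Ord5.Simple.sylow_ne_bot B (by rw [h60]; decide)
    obtain ⟨d, hd⟩ := Subgroup.ne_bot_iff_exists_ne_one.1 hB1
    intro hb
    have hdm : (d : L).1 ∈ ((B : Subgroup L).map L.subtype : Subgroup H) := ⟨d, d.2, rfl⟩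
    have : (⟨(d : L).1, le_nn _ hdm⟩ : NN ((B : Subgroup L).map L.subtype : Subgroup H)) ∈
        DD ((B : Subgroup L).map L.subtype : Subgroup H) := hdm
    rw [hb, Subgroup.mem_bot] at this
    have h5 : (d : L).1 = 1 := by simpa using congrArg Subtype.val this
    exact hd (Subtype.ext (Subtype.ext h5))
  have h8 := card_le_of_rgroup hM (DD ((B : Subgroup L).map L.subtype : Subgroup H)) Nat.prime_two
    (Or.inl rfl) (by norm_num) hD' hD1 R hRp
  rw [hR] at h8
  omega

omit hS in
omit hLn hLs in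
/-- The order of a Sylow subgroup from a factorization. -/
theorem card_sylow_of {X : Type*} [Group X] [Finite X] {p e m : ℕ} [hp : Fact p.Prime] (P : Sylow p X)
    (hcard : Nat.card X = p ^ e * m) (hm : ¬ p ∣ m) : Nat.card P = p ^ e := by
  have hm0 : m ≠ 0 := by
    rintro rfl
    exact hm (dvd_zero p)
  rw [Sylow.card_eq_multiplicity, hcard, Nat.factorization_mul (pow_ne_zero _ hp.out.ne_zero) hm0]
  simp [Nat.factorization_pow, Nat.Prime.factorization hp.out,
    Nat.factorization_eq_zero_of_not_dvd hm]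

omit hS in
omit hLn hLs in
theorem two_pow_of {X : Type*} [Group X] {w : X} {n : ℕ} (h : w ^ (2 ^ n) = 1) :
    ∃ k, orderOf w = 2 ^ k := by
  obtain ⟨k, -, hk⟩ := (Nat.dvd_prime_pow Nat.prime_two).1 (orderOf_dvd_of_pow_eq_one h)
  exact ⟨k, hk⟩

omit hLn hLs in
/-- Distinct Sylow `2`-subgroups which intersect nontrivially, in the case of `A₆`. -/
theorem exists_cfg_of_a6 (e : L ≃* alternatingGroup (Fin 6)) :
    ∃ P Q : Sylow 2 H, P ≠ Q ∧ (P : Subgroup H) ⊓ Q ≠ ⊥ := by
  haveI : Fact (Nat.Prime 2) := ⟨Nat.prime_two⟩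
  have hx := a6_x
  have hy := a6_y
  have hc := a6_c
  have hx1 := a6_x1
  have hxy := a6_xy
  have hxc := a6_xc
  have hyc := a6_yc
  have hyc1 := a6_yc1
  let ι : alternatingGroup (Fin 6) →* H := L.subtype.comp e.symm.toMonoidHom
  have hι : Function.Injective ι := L.subtype_injective.comp e.symm.injective
  have ha2 : ι x₀ * ι x₀ = 1 := by rw [← map_mul, hx, map_one]
  have hb2 : ι y₀ * ι y₀ = 1 := by rw [← map_mul, hy, map_one]
  have hc2 : ι c₀ * ι c₀ = 1 := by rw [← map_mul, hc, map_one]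
  have ha1 : ι x₀ ≠ 1 := fun h => hx1 (hι (by rw [h, map_one]))
  obtain ⟨X₁, hX₁, h1a, h1b⟩ := dihedral_two ha2 hb2
    (two_pow_of (n := 1) (by rw [← map_mul, ← map_pow, pow_one, hxy, map_one]))
  obtain ⟨X₂, hX₂, h2a, h2c⟩ := dihedral_two ha2 hc2
    (two_pow_of (n := 2) (by
      rw [← map_mul, ← map_pow]
      have : (x₀ * c₀) ^ 2 ^ 2 = 1 := hxc
      rw [this, map_one]))
  obtain ⟨T₁, hT₁⟩ := hX₁.exists_le_sylow
  obtain ⟨T₂, hT₂⟩ := hX₂.exists_le_sylow
  refine ⟨T₁, T₂, ?_, ?_⟩
  · intro he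
    have h3 : ι y₀ * ι c₀ ∈ (T₁ : Subgroup H) := T₁.1.mul_mem (hT₁ h1b) (by rw [he]; exact hT₂ h2c)
    obtain ⟨k, hk⟩ := orderOf_mem Nat.prime_two T₁.2 h3
    have h4 : orderOf (ι y₀ * ι c₀) ∣ 3 := orderOf_dvd_of_pow_eq_one (by
      rw [← map_mul, ← map_pow, hyc, map_one])
    rw [hk] at h4
    have h5 : 2 ^ k = 1 := by
      have hco : Nat.Coprime (2 ^ k) 3 := Nat.Coprime.pow_left _ (by norm_num)
      exact Nat.Coprime.eq_one_of_dvd hco h4
    rw [h5] at hk
    have h6 := orderOf_eq_one_iff.1 hk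
    rw [← map_mul] at h6
    exact hyc1 (hι (by rw [h6, map_one]))
  · intro hb
    have h3 : ι x₀ ∈ (T₁ : Subgroup H) ⊓ T₂ := ⟨hT₁ h1a, hT₂ h2a⟩
    rw [hb, Subgroup.mem_bot] at h3
    exact ha1 h3

include hnr hnc in
/-- **The minimal normal subgroup is everything.** -/
theorem eq_top (hL : Nat.card L = 60 ∨ Nat.card L = 360) : L = ⊤ := by
  classical
  haveI : Fact (Nat.Prime 2) := ⟨Nat.prime_two⟩
  haveI : Fact (Nat.Prime 3) := ⟨Nat.prime_three⟩
  haveI : Fact (Nat.Prime 5) := ⟨Nat.prime_five⟩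
  have hSL : IsO L := hS.subgroup L
  obtain ⟨B⟩ : Nonempty (Sylow 2 L) := inferInstance
  have hBc : Nat.card B = 4 ∨ Nat.card B = 8 := by
    rcases hL with h | h
    · left
      have := card_sylow_of (p := 2) (e := 2) (m := 15) B (by rw [h]; norm_num) (by norm_num)
      simpa using this
    · right
      have := card_sylow_of (p := 2) (e := 3) (m := 45) B (by rw [h]; norm_num) (by norm_num)
      simpa using this
  have hn3 : ¬ 3 ∣ L.index := by
    rcases hL with h | h
    · exact not_three_dvd_sixty hS L hnc h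
    · intro hd
      have h1 := dvd_of_dvd_index hS L (Or.inl rfl) (by norm_num) B hd
      have hB8 : Nat.card B = 8 := by
        have := card_sylow_of (p := 2) (e := 3) (m := 45) B (by rw [h]; norm_num) (by norm_num)
        simpa using this
      rw [hB8] at h1
      omega
  have hn5 : ¬ 5 ∣ L.index := by
    intro hd
    have h1 := dvd_of_dvd_index hS L (Or.inr rfl) (by norm_num) B hd
    rcases hBc with e | e <;> rw [e] at h1 <;> omega
  obtain ⟨a, b, c, hcard⟩ := hS.card_eq
  have hLi := Subgroup.card_mul_index L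
  have hcop3 : Nat.Coprime L.index 3 :=
    ((Nat.Prime.coprime_iff_not_dvd Nat.prime_three).2 hn3).symm
  have hcop5 : Nat.Coprime L.index 5 :=
    ((Nat.Prime.coprime_iff_not_dvd Nat.prime_five).2 hn5).symm
  have hi : L.index ∣ 2 ^ a := by
    have h1 : L.index ∣ 2 ^ a * 3 ^ b * 5 ^ c := by
      rw [← hcard]
      exact Dvd.intro_left _ hLi
    have h2 := Nat.Coprime.dvd_of_dvd_mul_right (Nat.Coprime.pow_right c hcop5) h1
    exact Nat.Coprime.dvd_of_dvd_mul_right (Nat.Coprime.pow_right b hcop3) h2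
  obtain ⟨i, -, hiv⟩ := (Nat.dvd_prime_pow Nat.prime_two).1 hi
  -- Sylow `3`-subgroups lie in `L`
  have hle : ∀ P : Sylow 3 H, (P : Subgroup H) ≤ L := by
    intro P x hx
    obtain ⟨j, hj⟩ := orderOf_mem Nat.prime_three P.2 hx
    have h1 : orderOf (QuotientGroup.mk' L x) ∣ 3 ^ j := by
      rw [← hj]
      exact orderOf_map_dvd _ x
    have h2 : orderOf (QuotientGroup.mk' L x) ∣ 2 ^ i := by
      rw [← hiv, Subgroup.index_eq_card]
      exact orderOf_dvd_natCard _
    have h3 : Nat.Coprime (3 ^ j) (2 ^ i) := Nat.Coprime.pow _ _ (by norm_num)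
    have h4 := Nat.eq_one_of_dvd_coprimes h3 h1 h2
    exact (QuotientGroup.eq_one_iff x).1 (orderOf_eq_one_iff.1 h4)
  -- the number of Sylow subgroups
  have hnle : Nat.card (Sylow 3 H) ≤ Nat.card (Sylow 3 L) := by
    refine Nat.card_le_card_of_injective (fun P => P.subtype (hle P)) ?_
    intro P Q hPQ
    exact Sylow.subtype_injective hPQ
  obtain ⟨Q₀⟩ : Nonempty (Sylow 3 L) := inferInstance
  have h3L : 3 ∣ Nat.card L := by
    rcases hL with h | h <;> rw [h] <;> decide
  obtain ⟨fL, hfL, hfLd, hnL, hnLd⟩ := summary hSL (Or.inl rfl) Q₀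
    (Cfsg.Agent.Lib.Ord5.Simple.sylow_ne_bot Q₀ h3L) (r := 5) (Or.inl ⟨rfl, rfl⟩)
  have hnL2 := Cfsg.Agent.Lib.Ord5.Simple.two_le_card_sylow hnc Q₀
    (Cfsg.Agent.Lib.Ord5.Simple.sylow_ne_bot Q₀ h3L)
  have hQc : Nat.card Q₀ = 3 ∨ Nat.card Q₀ = 9 := by
    rcases hL with h | h
    · left
      have := card_sylow_of (p := 3) (e := 1) (m := 20) Q₀ (by rw [h]; norm_num) (by norm_num)
      simpa using this
    · right
      have := card_sylow_of (p := 3) (e := 2) (m := 40) Q₀ (by rw [h]; norm_num) (by norm_num)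
      simpa using this
  have hnL10 : Nat.card (Sylow 3 L) = 10 := by
    rcases hL with h | h
    · have hQ3 : Nat.card Q₀ = 3 := by
        have := card_sylow_of (p := 3) (e := 1) (m := 20) Q₀ (by rw [h]; norm_num) (by norm_num)
        simpa using this
      rw [hQ3, h] at hnL
      rw [hQ3] at hfLd hnLd
      rcases hfL with rfl | rfl | rfl | rfl | rfl <;> omega
    · have hQ9 : Nat.card Q₀ = 9 := by
        have := card_sylow_of (p := 3) (e := 2) (m := 40) Q₀ (by rw [h]; norm_num) (by norm_num)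
        simpa using this
      rw [hQ9, h] at hnL
      rw [hQ9] at hfLd hnLd
      rcases hfL with rfl | rfl | rfl | rfl | rfl <;> omega
  -- the count in `H`
  obtain ⟨P⟩ : Nonempty (Sylow 3 H) := inferInstance
  have h3H : 3 ∣ Nat.card H := by
    rw [← hLi]
    exact Dvd.dvd.mul_right h3L _
  obtain ⟨f, hf, hfd, hn, hnd⟩ := summary hS (Or.inl rfl) P
    (Cfsg.Agent.Lib.Ord5.Simple.sylow_ne_bot P h3H) (r := 5) (Or.inl ⟨rfl, rfl⟩)
  have hPc : Nat.card P = Nat.card (P.subtype (hle P)) :=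
    Nat.card_congr (Subgroup.subgroupOfEquivOfLe (hle P)).toEquiv.symm
  have hfpos : 0 < f := by rcases hf with rfl | rfl | rfl | rfl | rfl <;> norm_num
  have hcases : ∀ {m e : ℕ}, Nat.card L = 3 ^ e * m → ¬ 3 ∣ m → Nat.card P = 3 ^ e := by
    intro m e h hm
    rw [hPc]
    exact card_sylow_of _ h hm
  have hidx : L.index = 1 ∨ (Nat.card L = 360 ∧ L.index = 2) := by
    rcases hL with h | h
    · left
      have hP3 : Nat.card P = 3 := by
        have := hcases (m := 20) (e := 1) (by rw [h]; norm_num) (by norm_num)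
        simpa using this
      rw [hP3] at hfd hn
      have hf2 : f ≤ 2 := Nat.le_of_dvd (by norm_num) hfd
      have h1 : Nat.card (Sylow 3 H) * (f * 3) ≤ 10 * (2 * 3) := Nat.mul_le_mul (by omega) (by omega)
      have hipos : 0 < L.index := Nat.pos_of_ne_zero (by rw [hiv]; positivity)
      rw [hn, ← hLi, h] at h1
      omega
    · have hP9 : Nat.card P = 9 := by
        have := hcases (m := 40) (e := 2) (by rw [h]; norm_num) (by norm_num)
        simpa using this
      rw [hP9] at hfd hn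
      have hf2 : f ≤ 8 := Nat.le_of_dvd (by norm_num) hfd
      have h1 : Nat.card (Sylow 3 H) * (f * 9) ≤ 10 * (8 * 9) := Nat.mul_le_mul (by omega) (by omega)
      have hipos : 0 < L.index := Nat.pos_of_ne_zero (by rw [hiv]; positivity)
      rw [hn, ← hLi, h] at h1
      have h2 : L.index = 1 ∨ L.index = 2 := by omega
      rcases h2 with h2 | h2
      · exact Or.inl h2
      · exact Or.inr ⟨h, h2⟩
  rcases hidx with h1 | ⟨h360, h2⟩
  · exact Subgroup.index_eq_one.1 h1
  · -- excluded by the bound on Sylow `2`-subgroups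
    exfalso
    have hcardH : Nat.card H = 2 ^ 4 * 45 := by
      rw [← hLi, h360, h2]
      norm_num
    obtain ⟨e⟩ := Cfsg.Agent.S0497.result (G := L) h360
    obtain ⟨D, T₁, T₂, hc⟩ := exists_cfg (exists_cfg_of_a6 hS L e)
    have hn2 : ∀ N : Subgroup H, N.Normal → IsPGroup 2 N → N = ⊥ := by
      intro N hN hNp
      haveI : Group.IsNilpotent N := hNp.isNilpotent
      exact hnr N hN inferInstance
    have h3 := card_T hS hc (twoCl hS hn2)
    have h4 := card_sylow_of (p := 2) (e := 4) (m := 45) T₁ hcardH (by norm_num)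
    rw [h4] at h3
    omega

end Main

/-- **The top of the group.** -/
theorem exists_radical_quot {G : Type u} [Group G] [Finite G] (hS : IsO G)
    (h2 : 2 ∣ Nat.card G) (h3 : 3 ∣ Nat.card G) (h5 : 5 ∣ Nat.card G) :
    ∃ (R : Subgroup G) (_ : R.Normal), Group.IsSolvable R ∧
      (Nonempty (G ⧸ R ≃* alternatingGroup (Fin 5)) ∨ Nonempty (G ⧸ R ≃* alternatingGroup (Fin 6))) := by
  obtain ⟨R, hRn, hRs, hmax⟩ := Cfsg.Agent.Lib.ThreeCl.exists_max_solvable (M := G)
  haveI := hRn
  refine ⟨R, hRn, hRs, ?_⟩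
  have hSH : IsO (G ⧸ R) := hS.quotient R
  have hnr : ∀ M : Subgroup (G ⧸ R), M.Normal → Group.IsSolvable M → M = ⊥ := by
    intro M hM hMs
    haveI := hM
    let X : Subgroup G := M.comap (QuotientGroup.mk' R)
    have hXn : X.Normal := hM.comap _
    have hRX : R ≤ X := by
      intro r hr
      have h1 : QuotientGroup.mk' R r = 1 := (QuotientGroup.eq_one_iff r).2 hr
      change QuotientGroup.mk' R r ∈ M
      rw [h1]
      exact M.one_mem
    have hsub : Group.IsSolvable (R.subgroupOf X) :=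
      Group.isSolvable_of_isSolvable_injective (f := (Subgroup.subgroupOfEquivOfLe hRX).toMonoidHom)
        (Subgroup.subgroupOfEquivOfLe hRX).injective
    have hXs : Group.IsSolvable X :=
      Group.isSolvable_of_ker_le_range (R.subgroupOf X).subtype
        ((QuotientGroup.mk' R).subgroupComap M) (by
          intro x hx
          have h1 : QuotientGroup.mk' R (x : G) = 1 := congrArg Subtype.val hx
          have h2 : (x : G) ∈ R := (QuotientGroup.eq_one_iff _).1 h1
          exact ⟨⟨x, h2⟩, rfl⟩)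
    have hle := hmax X hXn hXs
    rw [eq_bot_iff]
    intro m hm
    obtain ⟨g, rfl⟩ := QuotientGroup.mk'_surjective R m
    have h1 : g ∈ X := hm
    rw [Subgroup.mem_bot]
    exact (QuotientGroup.eq_one_iff g).2 (hle h1)
  haveI hne : Nontrivial (G ⧸ R) := by
    by_contra hcon
    rw [not_nontrivial_iff_subsingleton] at hcon
    have htop : R = ⊤ := by
      rw [eq_top_iff]
      intro x _
      exact (QuotientGroup.eq_one_iff x).1 (Subsingleton.elim _ _)
    have hs : Group.IsSolvable G := by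
      subst htop
      exact Group.isSolvable_of_isSolvable_injective (f := (Subgroup.topEquiv (G := G)).symm.toMonoidHom)
        (Subgroup.topEquiv (G := G)).symm.injective
    exact Cfsg.Agent.Lib.Ord5.Sol3.not_three_primes hS h2 h3 h5
  obtain ⟨L, hL⟩ := exists_isMinNormal (G := G ⧸ R)
  obtain ⟨hLsimple, hLnc⟩ := simple_of_min hSH hnr L hL
  haveI := hL.1
  haveI := hLsimple
  have hcard := Cfsg.Agent.Lib.Ord5.Simple.card_eq (hSH.subgroup L) hLnc
  have htop := eq_top hSH hnr L hLnc hcard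
  let eL : L ≃* (G ⧸ R) := (MulEquiv.subgroupCongr htop).trans Subgroup.topEquiv
  rcases hcard with h | h
  · left
    obtain ⟨e⟩ := Cfsg.Agent.S0494.result (G := L) h
    exact ⟨eL.symm.trans e⟩
  · right
    obtain ⟨e⟩ := Cfsg.Agent.S0497.result (G := L) h
    exact ⟨eL.symm.trans e⟩

end Cfsg.Agent.Lib.Ord5.Top
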