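import Cfsg.Agent.Lib.Ord5.Local
import Cfsg.Agent.Lib.Ord5.Gamma
import Cfsg.Agent.Lib.Ord5.Free

/-!
# The maximal intersection of Sylow `2`-subgroups: first steps
-/

set_option autoImplicit false
set_option linter.style.haveILetI false
set_option linter.unusedSectionVars false

namespace Cfsg.Agent.Lib.Ord5.Two1

open Subgroup Cfsg.Agent.Lib.Ord5.Basic Cfsg.Agent.Lib.Ord5.Fpf Cfsg.Agent.Lib.Ord5.Local
open Cfsg.Agent.Lib.Ord5.Count Cfsg.Agent.Lib.Ord5.E1

universe u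

variable {G : Type u} [Group G] [Finite G]

/-- The order of a subgroup, its image and the part in the kernel. -/
theorem card_map_mul {M Γ : Type*} [Group M] [Group Γ] [Finite M] (f : M →* Γ) (X : Subgroup M) :
    Nat.card (X ⊓ f.ker : Subgroup M) * Nat.card (X.map f) = Nat.card X := by
  let g : X →* Γ := f.comp X.subtype
  have hr : g.range = X.map f := by
    rw [MonoidHom.range_comp, Subgroup.range_subtype]
  have hk : g.ker.map X.subtype = X ⊓ f.ker := by
    ext x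
    constructor
    · rintro ⟨y, hy, rfl⟩
      exact ⟨y.2, hy⟩
    · rintro ⟨h1, h2⟩
      exact ⟨⟨x, h1⟩, h2, rfl⟩
  have h1 : Nat.card g.ker * g.ker.index = Nat.card X := Subgroup.card_mul_index _
  rw [Subgroup.index_ker, hr] at h1
  rw [← h1, ← hk]
  congr 1
  exact (Nat.card_congr (Subgroup.equivMapOfInjective g.ker X.subtype X.subtype_injective).toEquiv).symm

variable (hS : IsO G) {D : Subgroup G} {T T' : Sylow 2 G} (h : Cfg D T T')

include hS h

theorem hyp : Gamma.Hyp (QQ D) := by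
  have hM : IsO (NN D) := hS.subgroup _
  have hD' : IsPGroup 2 (DD D) := h.isP.comap_subtype
  have hD1 : DD D ≠ ⊥ := by
    obtain ⟨d, hd⟩ := Subgroup.ne_bot_iff_exists_ne_one.1 h.nt
    intro hb
    have : (⟨d, le_nn D d.2⟩ : NN D) ∈ DD D := d.2
    rw [hb, Subgroup.mem_bot] at this
    have h5 : (d : G) = 1 := by simpa using congrArg Subtype.val this
    exact hd (Subtype.ext h5)
  refine ⟨hM.quotient _, h.quot_normal, h.quot_ti, ?_, ?_, h.dvd_card⟩
  · intro Rb hRb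
    obtain ⟨R, hR, hRm, -⟩ := exists_lift (pi D) (pi_surj D) Nat.prime_two Nat.prime_three
      (by norm_num) (ker_isP h.isP) Rb hRb
    have h1 := card_le_of_rgroup hM (DD D) Nat.prime_two (Or.inl rfl) (by norm_num) hD' hD1 R hR
    rw [← hRm]
    exact (Nat.le_of_dvd Nat.card_pos (Subgroup.card_map_dvd R (pi D))).trans h1
  · intro Rb hRb
    obtain ⟨R, hR, hRm, -⟩ := exists_lift (pi D) (pi_surj D) Nat.prime_two Nat.prime_five
      (by norm_num) (ker_isP h.isP) Rb hRb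
    have h1 := card_le_of_rgroup hM (DD D) Nat.prime_two (Or.inr rfl) (by norm_num) hD' hD1 R hR
    rw [← hRm]
    exact (Nat.le_of_dvd Nat.card_pos (Subgroup.card_map_dvd R (pi D))).trans h1

/-- The lift of the dihedral relation. -/
theorem exists_rel {a : NN D} (ha : pi D a * pi D a = 1) (ha1 : pi D a ≠ 1) :
    ∃ (y : NN D) (r : ℕ), (r = 3 ∨ r = 5) ∧ orderOf y = r ∧ a * y * a⁻¹ * y ∈ DD D := by
  obtain ⟨yb, hyb, hrel⟩ := (hyp hS h).exists_inverted ha ha1
  obtain ⟨y, rfl⟩ := pi_surj D yb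
  have hM : IsO (NN D) := hS.subgroup _
  refine ⟨y, orderOf (pi D y), hyb, ?_, ?_⟩
  · exact hM.orderOf_lift (pi D) hyb rfl
  · apply (QuotientGroup.eq_one_iff _).1
    change pi D (a * y * a⁻¹ * y) = 1
    simpa [map_mul, map_inv] using hrel

theorem elem {d : G} (hd : d ∈ D) : d * d = 1 := by
  haveI : Fact (Nat.Prime 2) := ⟨Nat.prime_two⟩
  obtain ⟨ab, hab⟩ := exists_prime_orderOf_dvd_card' 2 (hyp hS h).even
  have h2 : ab * ab = 1 := by rw [← pow_two, ← hab]; exact pow_orderOf_eq_one ab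
  have h1 : ab ≠ 1 := by
    rintro rfl
    rw [orderOf_one] at hab
    omega
  obtain ⟨a, rfl⟩ := pi_surj D ab
  obtain ⟨y, r, hr, hy, huy⟩ := exists_rel hS h h2 h1
  have hM : IsO (NN D) := hS.subgroup _
  have hD' : IsPGroup 2 (DD D) := h.isP.comap_subtype
  have hu : a * a ∈ DD D := by
    apply (QuotientGroup.eq_one_iff _).1
    change pi D (a * a) = 1
    rw [map_mul]; exact h2
  have := Cfsg.Agent.Lib.Ord5.E1.main hM (DD D) hD' hr hy hu huy (d := ⟨d, le_nn D hd⟩) hd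
  exact congrArg Subtype.val this

theorem card_DD : Nat.card (DD D) = Nat.card D :=
  Nat.card_congr (Subgroup.subgroupOfEquivOfLe (le_nn D)).toEquiv

theorem exists_rel' {a : G} (haM : a ∈ NN D) (haD : a ∉ D) (ha2 : a * a ∈ D) :
    ∃ (y : NN D) (r : ℕ), (r = 3 ∨ r = 5) ∧ orderOf y = r ∧
      (⟨a, haM⟩ : NN D) * y * (⟨a, haM⟩ : NN D)⁻¹ * y ∈ DD D := by
  refine exists_rel hS h (a := ⟨a, haM⟩) ?_ ?_
  · rw [← map_mul]
    exact pi_eq_one_iff.2 ha2
  · intro h1
    exact haD (pi_eq_one_iff.1 h1)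

/-- Fixed points in `D` of an element of `N(D)` acting as an involution are norms. -/
theorem fixed_norm {a : G} (haM : a ∈ NN D) (haD : a ∉ D) (ha2 : a * a ∈ D) {w : G} (hw : w ∈ D)
    (hwa : a * w * a⁻¹ = w) : ∃ v ∈ D, v * (a * v * a⁻¹) = w := by
  obtain ⟨y, r, hr, hy, huy⟩ := exists_rel' hS h haM haD ha2
  have hM : IsO (NN D) := hS.subgroup _
  have hW : ∀ x ∈ DD D, x * x = 1 := fun x hx =>
    Subtype.ext (by simpa using elem hS h hx)
  obtain ⟨v, hv, hvw⟩ := Cfsg.Agent.Lib.Ord5.Free.fixed_eq_norm hM (DD D) hW hr hy huy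
    (u := ⟨a, haM⟩) (w := ⟨w, le_nn D hw⟩) hw (Subtype.ext (by simpa using hwa))
  refine ⟨v, hv, ?_⟩
  simpa using congrArg Subtype.val hvw

/-- The freeness lemma in `G`. -/
theorem card_fix {a : G} (haM : a ∈ NN D) (haD : a ∉ D) (ha2 : a * a ∈ D) :
    Nat.card D = Nat.card (D ⊓ centralizer ({a} : Set G) : Subgroup G) ^ 2 := by
  obtain ⟨y, r, hr, hy, huy⟩ := exists_rel' hS h haM haD ha2
  have hM : IsO (NN D) := hS.subgroup _
  have hW : ∀ x ∈ DD D, x * x = 1 := fun x hx =>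
    Subtype.ext (by simpa using elem hS h hx)
  have h1 := Cfsg.Agent.Lib.Ord5.Free.card_fix hM (DD D) hW hr hy (u := ⟨a, haM⟩) ha2 huy
  rw [card_DD hS h] at h1
  rw [h1]
  congr 1
  have hmap : (DD D ⊓ centralizer ({⟨a, haM⟩} : Set (NN D))).map (NN D).subtype =
      D ⊓ centralizer ({a} : Set G) := by
    ext x
    constructor
    · rintro ⟨x', ⟨h2, h3⟩, rfl⟩
      refine ⟨h2, ?_⟩
      change (x' : G) ∈ centralizer ({a} : Set G)
      rw [Subgroup.mem_centralizer_singleton_iff]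
      have h4 : x' ∈ centralizer ({⟨a, haM⟩} : Set (NN D)) := h3
      rw [Subgroup.mem_centralizer_singleton_iff] at h4
      exact congrArg Subtype.val h4
    · rintro ⟨h2, h3⟩
      refine ⟨⟨x, le_nn D h2⟩, ⟨h2, ?_⟩, rfl⟩
      change _ ∈ centralizer ({⟨a, haM⟩} : Set (NN D))
      rw [Subgroup.mem_centralizer_singleton_iff]
      have h4 : x ∈ centralizer ({a} : Set G) := h3
      rw [Subgroup.mem_centralizer_singleton_iff] at h4
      exact Subtype.ext h4
  rw [← hmap]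
  exact Nat.card_congr (Subgroup.equivMapOfInjective _ (NN D).subtype
    (NN D).subtype_injective).toEquiv

theorem le_T : D ≤ T := h.le_left

/-- Lemma A. -/
theorem lemA (A : Subgroup G) (hAel : ∀ x ∈ A, x * x = 1) (hAc : Nat.card A = Nat.card D)
    (hne : A ≠ D) (hAT : A ≤ (T : Subgroup G) ⊓ NN D) (hDA : ∀ d ∈ D, ∀ a ∈ A, d * a * d⁻¹ ∈ A) :
    (∀ a ∈ A, a ∉ D → ∀ d ∈ D, a * d = d * a → d ∈ A) ∧
      Nat.card D = Nat.card (A ⊓ D : Subgroup G) ^ 2 ∧
      Nat.card (A ⊓ D : Subgroup G) ≤ Nat.card h.sylowImage ∧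
      (Nat.card (A ⊓ D : Subgroup G) = Nat.card h.sylowImage →
        ∀ t ∈ (T : Subgroup G) ⊓ NN D, ∃ a ∈ A, ∃ d ∈ D, t = a * d) := by
  have hel := fun {d : G} (hd : d ∈ D) => elem hS h hd
  have hAcomm : ∀ x ∈ A, ∀ y ∈ A, x * y = y * x := by
    intro x hx y hy
    have h1 := inv_eq_of_mul_eq_one_left (hAel _ (A.mul_mem hx hy))
    rw [mul_inv_rev, inv_eq_of_mul_eq_one_left (hAel _ hx), inv_eq_of_mul_eq_one_left (hAel _ hy)] at h1
    exact h1.symm
  have hkey : ∀ a ∈ A, a ∉ D → (D ⊓ centralizer ({a} : Set G) : Subgroup G) = A ⊓ D := by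
    intro a ha haD
    ext w
    constructor
    · rintro ⟨hw, hwc⟩
      refine ⟨?_, hw⟩
      have hwc' : w ∈ centralizer ({a} : Set G) := hwc
      rw [Subgroup.mem_centralizer_singleton_iff] at hwc'
      have hwa : a * w * a⁻¹ = w := by rw [← hwc']; group
      have ha2 : a * a ∈ D := by rw [hAel a ha]; exact D.one_mem
      obtain ⟨v, hv, hvw⟩ := fixed_norm hS h (hAT ha).2 haD ha2 hw hwa
      rw [← hvw]
      have e : v * (a * v * a⁻¹) = (v * a * v⁻¹) * a⁻¹ := by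
        rw [inv_eq_of_mul_eq_one_left (hel hv)]; group
      rw [e]
      exact A.mul_mem (hDA v hv a ha) (A.inv_mem ha)
    · rintro ⟨hw, hwD⟩
      refine ⟨hwD, ?_⟩
      change w ∈ centralizer ({a} : Set G)
      rw [Subgroup.mem_centralizer_singleton_iff]
      exact hAcomm w hw a ha
  -- an element of `A` outside `D`
  obtain ⟨a₀, ha₀, ha₀D⟩ : ∃ a ∈ A, a ∉ D := by
    by_contra hcon
    push Not at hcon
    exact hne (Subgroup.eq_of_le_of_card_ge hcon (le_of_eq hAc.symm))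
  have hI : Nat.card D = Nat.card (A ⊓ D : Subgroup G) ^ 2 := by
    have h1 := card_fix hS h (hAT ha₀).2 ha₀D (by rw [hAel a₀ ha₀]; exact D.one_mem)
    rwa [hkey a₀ ha₀ ha₀D] at h1
  refine ⟨?_, hI, ?_⟩
  · intro a ha haD d hd hc
    have : d ∈ (D ⊓ centralizer ({a} : Set G) : Subgroup G) := by
      refine ⟨hd, ?_⟩
      change d ∈ centralizer ({a} : Set G)
      rw [Subgroup.mem_centralizer_singleton_iff]
      exact hc.symm
    rw [hkey a ha haD] at this
    exact this.1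
  -- the image of `A` in the quotient
  let X : Subgroup (NN D) := A.subgroupOf (NN D)
  have hXm : X.map (NN D).subtype = A := by
    exact Subgroup.map_subgroupOf_eq_of_le (fun x hx => (hAT hx).2)
  have hXc : Nat.card X = Nat.card A :=
    Nat.card_congr (Subgroup.subgroupOfEquivOfLe (fun x hx => (hAT hx).2)).toEquiv
  have hcm := card_map_mul (pi D) X
  have hinf : Nat.card (X ⊓ (pi D).ker : Subgroup (NN D)) = Nat.card (A ⊓ D : Subgroup G) := by
    have e : (X ⊓ (pi D).ker : Subgroup (NN D)).map (NN D).subtype = A ⊓ D := by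
      ext x
      constructor
      · rintro ⟨x', ⟨h1, h2⟩, rfl⟩
        exact ⟨h1, pi_eq_one_iff.1 h2⟩
      · rintro ⟨h1, h2⟩
        exact ⟨⟨x, le_nn D h2⟩, ⟨h1, pi_eq_one_iff.2 h2⟩, rfl⟩
    rw [← e]
    exact Nat.card_congr (Subgroup.equivMapOfInjective _ (NN D).subtype
      (NN D).subtype_injective).toEquiv
  rw [hinf, hXc, hAc, hI, pow_two] at hcm
  have hIpos : 0 < Nat.card (A ⊓ D : Subgroup G) := Nat.card_pos
  have hXcard : Nat.card (X.map (pi D)) = Nat.card (A ⊓ D : Subgroup G) :=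
    Nat.eq_of_mul_eq_mul_left hIpos hcm
  have hle : X.map (pi D) ≤ (h.sylowImage : Subgroup (QQ D)) := by
    rintro _ ⟨x, hx, rfl⟩
    exact ⟨x, (hAT hx).1, rfl⟩
  constructor
  · rw [← hXcard]
    exact Subgroup.card_le_of_le hle
  · intro heq t ht
    have heq' : X.map (pi D) = (h.sylowImage : Subgroup (QQ D)) :=
      Subgroup.eq_of_le_of_card_ge hle (by rw [hXcard, heq])
    have ht' : pi D ⟨t, ht.2⟩ ∈ (h.sylowImage : Subgroup (QQ D)) := ⟨⟨t, ht.2⟩, ht.1, rfl⟩
    rw [← heq'] at ht'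
    obtain ⟨a, ha, hat⟩ := ht'
    refine ⟨a, ha, (a : G)⁻¹ * t, ?_, by group⟩
    have h1 : pi D (a⁻¹ * ⟨t, ht.2⟩) = 1 := by
      rw [map_mul, map_inv, hat]; simp
    exact pi_eq_one_iff.1 h1

end Cfsg.Agent.Lib.Ord5.Two1
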