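import Cfsg.Agent.Lib.Ord5.Two1
import Cfsg.Agent.Lib.Ord5.LemV
import Cfsg.Agent.Lib.SolvStruct.Fit

/-!
# The maximal intersection of Sylow `2`-subgroups: it is normal in the Sylow subgroup
-/

set_option autoImplicit false
set_option linter.style.haveILetI false
set_option linter.unusedSectionVars false

namespace Cfsg.Agent.Lib.Ord5.Two2

open Subgroup Cfsg.Agent.Lib.Ord5.Basic Cfsg.Agent.Lib.Ord5.Fpf Cfsg.Agent.Lib.Ord5.Local
open Cfsg.Agent.Lib.Ord5.Count Cfsg.Agent.Lib.Ord5.E1 Cfsg.Agent.Lib.Ord5.Two1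
open Cfsg.Agent.Lib.Ord5.LemV

universe u

variable {G : Type u} [Group G] [Finite G]

/-- Elements of a `2`-subgroup have fourth power one. -/
theorem pow_four_mem (hS : IsO G) {X : Subgroup G} (hX : IsPGroup 2 X) {x : G} (hx : x ∈ X) :
    x ^ 4 = 1 := by
  obtain ⟨k, hk⟩ := orderOf_mem Nat.prime_two hX hx
  exact hS.pow_four hk

variable (hS : IsO G) {D : Subgroup G} {T T' : Sylow 2 G} (h : Cfg D T T')

include hS h

/-- An element of order `r` in the normalizer acts freely. -/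
theorem dvd_sub_one {r : ℕ} (hr : r = 3 ∨ r = 5) (hd : r ∣ Nat.card (QQ D)) :
    r ∣ Nat.card D - 1 := by
  have hrp : r.Prime := by rcases hr with rfl | rfl <;> norm_num
  haveI : Fact r.Prime := ⟨hrp⟩
  obtain ⟨yb, hyb⟩ := exists_prime_orderOf_dvd_card' r hd
  obtain ⟨y, rfl⟩ := pi_surj D yb
  have hM : IsO (NN D) := hS.subgroup _
  have hy := hM.orderOf_lift (pi D) hr hyb
  have hy' : orderOf (y : G) = r := by rw [Subgroup.orderOf_coe, hy]
  have h1 := card_dvd_card_sub_one (zpowers (y : G)) D (Subgroup.zpowers_le.2 y.2) (by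
    intro k hk d hd hc
    have hk' : orderOf k ∣ r := by
      rw [← hy']
      exact orderOf_dvd_of_mem_zpowers hk
    have hd' : orderOf d ∣ 2 := orderOf_dvd_of_pow_eq_one (by rw [pow_two]; exact elem hS h hd)
    have hco : Nat.Coprime (orderOf k) (orderOf d) := by
      have : Nat.Coprime r 2 := by rcases hr with rfl | rfl <;> norm_num
      exact Nat.Coprime.coprime_dvd_left hk' (Nat.Coprime.coprime_dvd_right hd' this)
    exact hS.eq_one_of_coprime hc hco)
  rwa [Nat.card_zpowers, hy'] at h1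

/-- The sizes forced by a second conjugate of `D`. -/
theorem size {I : ℕ} (hI : Nat.card D = I ^ 2) (hle : I ≤ Nat.card h.sylowImage) :
    I = Nat.card h.sylowImage ∧
      ((Nat.card h.sylowImage = 2 ∧ Nat.card D = 4) ∨ (Nat.card h.sylowImage = 4 ∧ Nat.card D = 16)) := by
  have hD1 : Nat.card D ≠ 1 := fun e => h.nt (Subgroup.eq_bot_of_card_eq _ e)
  have hD0 : 0 < Nat.card D := Nat.card_pos
  have hI0 : I ≠ 0 := by
    rintro rfl
    rw [zero_pow (by norm_num)] at hI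
    omega
  have hI1 : I ≠ 1 := by
    rintro rfl
    rw [one_pow] at hI
    exact hD1 hI
  have hfive : Nat.card h.sylowImage = 4 → 5 ∣ Nat.card D - 1 := by
    intro e
    rcases (hyp hS h).shape h.sylowImage with ⟨e2, -, -⟩ | ⟨-, e3, -⟩ | ⟨-, e3, -⟩
    · omega
    · exact dvd_sub_one hS h (Or.inr rfl) (by rw [e3]; decide)
    · exact dvd_sub_one hS h (Or.inr rfl) (by rw [e3]; decide)
  rcases (hyp hS h).shape h.sylowImage with ⟨e2, -, -⟩ | ⟨e2, -, -⟩ | ⟨e2, -, -⟩
  · have : I = 2 := by omega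
    subst this
    exact ⟨e2.symm, Or.inl ⟨e2, hI⟩⟩
  · have h5 := hfive e2
    have hI4 : I = 2 ∨ I = 3 ∨ I = 4 := by omega
    rcases hI4 with rfl | rfl | rfl
    · rw [hI] at h5; exact absurd h5 (by decide)
    · rw [hI] at h5; exact absurd h5 (by decide)
    · exact ⟨e2.symm, Or.inr ⟨e2, hI⟩⟩
  · have h5 := hfive e2
    have hI4 : I = 2 ∨ I = 3 ∨ I = 4 := by omega
    rcases hI4 with rfl | rfl | rfl
    · rw [hI] at h5; exact absurd h5 (by decide)
    · rw [hI] at h5; exact absurd h5 (by decide)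
    · exact ⟨e2.symm, Or.inr ⟨e2, hI⟩⟩

/-- `D` is normal in the Sylow subgroup `T`. -/
theorem T_le : (T : Subgroup G) ≤ NN D := by
  by_contra hle
  set T₁ : Subgroup G := (T : Subgroup G) ⊓ NN D with hT₁
  have hlt : T₁ < T := by
    refine lt_of_le_of_ne inf_le_left ?_
    intro e
    apply hle
    rw [← e]
    exact inf_le_right
  have hT4 : ∀ {t : G}, t ∈ (T : Subgroup G) → t ^ 4 = 1 := fun ht => pow_four_mem hS T.2 ht
  obtain ⟨v, hvT, hvT₁, hvN, hv2⟩ : ∃ v ∈ (T : Subgroup G), v ∉ T₁ ∧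
      v ∈ normalizer (T₁ : Set G) ∧ v * v ∈ T₁ := by
    obtain ⟨z, hzT, hzT₁, hzN⟩ := Cfsg.Agent.Lib.WBound.exists_mem_normalizer T.2 hlt
    by_cases hzz : z * z ∈ T₁
    · exact ⟨z, hzT, hzT₁, hzN, hzz⟩
    · refine ⟨z * z, T.1.mul_mem hzT hzT, hzz, Subgroup.mul_mem _ hzN hzN, ?_⟩
      have e : z * z * (z * z) = z ^ 4 := by
        simp only [pow_succ, pow_zero, one_mul, mul_assoc]
      rw [e, hT4 hzT]
      exact T₁.one_mem
  have hvNN : v ∉ NN D := fun hc => hvT₁ ⟨hvT, hc⟩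
  have hvT₁c : ∀ t ∈ T₁, v * t * v⁻¹ ∈ T₁ := fun t ht => (Subgroup.mem_normalizer_iff.1 hvN t).1 ht
  have hvT₁c' : ∀ t ∈ T₁, v⁻¹ * t * v ∈ T₁ := by
    intro t ht
    have := (Subgroup.mem_normalizer_iff.1 (Subgroup.inv_mem _ hvN) t).1 ht
    simpa using this
  have hDT₁ : D ≤ T₁ := le_inf h.le_left (le_nn D)
  have hel := fun {d : G} (hd : d ∈ D) => elem hS h hd
  set A := conjS v D with hA
  have hne : A ≠ D := by
    intro e
    apply hvNN
    rw [Subgroup.mem_normalizer_iff]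
    intro x
    constructor
    · intro hx
      have := conj_mem_conjS (v := v) hx
      rwa [← hA, e] at this
    · intro hx
      have h1 : v * x * v⁻¹ ∈ A := by rw [e]; exact hx
      rw [hA, mem_conjS] at h1
      have e2 : v⁻¹ * (v * x * v⁻¹) * v = x := by group
      rwa [e2] at h1
  have hAel : ∀ x ∈ A, x * x = 1 := by
    intro x hx
    rw [hA, mem_conjS] at hx
    have h1 := hel hx
    calc x * x = v * ((v⁻¹ * x * v) * (v⁻¹ * x * v)) * v⁻¹ := by group
      _ = 1 := by rw [h1]; group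
  have hAT : A ≤ T₁ := by
    intro x hx
    rw [hA, mem_conjS] at hx
    have h1 := hvT₁c _ (hDT₁ hx)
    have e : v * (v⁻¹ * x * v) * v⁻¹ = x := by group
    rwa [e] at h1
  have hDA : ∀ d ∈ D, ∀ a ∈ A, d * a * d⁻¹ ∈ A := by
    intro d hd a ha
    rw [hA, mem_conjS] at ha ⊢
    have h1 : v⁻¹ * d * v ∈ T₁ := hvT₁c' d (hDT₁ hd)
    have h2 := (Subgroup.mem_normalizer_iff.1 h1.2 _).1 ha
    have e : v⁻¹ * d * v * (v⁻¹ * a * v) * (v⁻¹ * d * v)⁻¹ = v⁻¹ * (d * a * d⁻¹) * v := by group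
    rwa [e] at h2
  obtain ⟨hnc, hI, hIle, hIeq⟩ := lemA hS h A hAel (card_conjS v D) hne hAT hDA
  obtain ⟨hI2, -⟩ := size hS h hI hIle
  exact lemV hAel (fun x hx => hel hx) hne hA (hIeq hI2) hAT hvT₁c hv2 (hT4 hvT) hnc
    (fun x hx => hT4 (T.1.mul_mem hvT (h.le_left hx)))

/-- Membership in the image of `T`. -/
theorem mem_image_iff (x : NN D) :
    pi D x ∈ (h.sylowImage : Subgroup (QQ D)) ↔ (x : G) ∈ (T : Subgroup G) := by
  constructor
  · rintro ⟨t, ht, hte⟩
    have h1 : pi D (x⁻¹ * t) = 1 := by rw [map_mul, map_inv, hte]; simp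
    have h2 : ((x⁻¹ * t : NN D) : G) ∈ D := pi_eq_one_iff.1 h1
    have h3 := h.le_left h2
    have h4 : (x : G) = (t : G) * ((x⁻¹ * t : NN D) : G)⁻¹ := by
      simp
    rw [h4]
    exact T.1.mul_mem ht (T.1.inv_mem h3)
  · intro hx
    exact ⟨x, hx, rfl⟩

/-- The normalizer of `T` lies in `N(D)` except for the two exceptional sizes. -/
theorem norm_le (hno : ¬ ((Nat.card h.sylowImage = 2 ∧ Nat.card D = 4) ∨
    (Nat.card h.sylowImage = 4 ∧ Nat.card D = 16))) {g : G}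
    (hg : g ∈ normalizer ((T : Subgroup G) : Set G)) : g ∈ NN D := by
  by_contra hgN
  have hTN := T_le hS h
  have hel := fun {d : G} (hd : d ∈ D) => elem hS h hd
  have hgc : ∀ t ∈ (T : Subgroup G), g * t * g⁻¹ ∈ (T : Subgroup G) := fun t ht =>
    (Subgroup.mem_normalizer_iff.1 hg t).1 ht
  have hgc' : ∀ t ∈ (T : Subgroup G), g⁻¹ * t * g ∈ (T : Subgroup G) := by
    intro t ht
    have := (Subgroup.mem_normalizer_iff.1 (Subgroup.inv_mem _ hg) t).1 ht
    simpa using this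
  set A := conjS g D with hA
  have hne : A ≠ D := by
    intro e
    apply hgN
    rw [Subgroup.mem_normalizer_iff]
    intro x
    constructor
    · intro hx
      have := conj_mem_conjS (v := g) hx
      rwa [← hA, e] at this
    · intro hx
      have h1 : g * x * g⁻¹ ∈ A := by rw [e]; exact hx
      rw [hA, mem_conjS] at h1
      have e2 : g⁻¹ * (g * x * g⁻¹) * g = x := by group
      rwa [e2] at h1
  have hAel : ∀ x ∈ A, x * x = 1 := by
    intro x hx
    rw [hA, mem_conjS] at hx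
    have h1 := hel hx
    calc x * x = g * ((g⁻¹ * x * g) * (g⁻¹ * x * g)) * g⁻¹ := by group
      _ = 1 := by rw [h1]; group
  have hAT : A ≤ (T : Subgroup G) ⊓ NN D := by
    intro x hx
    rw [hA, mem_conjS] at hx
    have h1 := hgc _ (h.le_left hx)
    have e : g * (g⁻¹ * x * g) * g⁻¹ = x := by group
    rw [e] at h1
    exact ⟨h1, hTN h1⟩
  have hDA : ∀ d ∈ D, ∀ a ∈ A, d * a * d⁻¹ ∈ A := by
    intro d hd a ha
    rw [hA, mem_conjS] at ha ⊢
    have h1 : g⁻¹ * d * g ∈ (T : Subgroup G) := hgc' d (h.le_left hd)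
    have h2 := (Subgroup.mem_normalizer_iff.1 (hTN h1) _).1 ha
    have e : g⁻¹ * d * g * (g⁻¹ * a * g) * (g⁻¹ * d * g)⁻¹ = g⁻¹ * (d * a * d⁻¹) * g := by group
    rwa [e] at h2
  obtain ⟨hnc, hI, hIle, hIeq⟩ := lemA hS h A hAel (card_conjS g D) hne hAT hDA
  exact hno (size hS h hI hIle).2

end Cfsg.Agent.Lib.Ord5.Two2
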